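import Groth.Agent.CInt77.GeomDepth
import Groth.Agent.CIntCI.Basic
import Groth.Agent.Synt44.CIComplete
import Groth.Agent.EGA4Lib.DepthFlat
import Groth.Agent.AssSch.FlatAss

/-!
# Complete intersection ascends along flat local homomorphisms with regular closed fibre
-/

set_option autoImplicit false
set_option linter.style.haveILetI false

universe u

open IsLocalRing TensorProduct Pointwise

namespace Groth.Agent.CInt77

/-- An element regular modulo `I` is part of a minimal system of generators of `I + (x)`. -/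
theorem spanFinrank_add_one_le {R : Type u} [CommRing R] [IsLocalRing R] [IsNoetherianRing R] (I : Ideal R)
    (x : R) (hI : I ≤ maximalIdeal R) (hx : x ∈ maximalIdeal R) (hreg : ∀ c, c * x ∈ I → c ∈ I) :
    I.spanFinrank + 1 ≤ (I ⊔ Ideal.span {x}).spanFinrank := by
  classical
  let J := I ⊔ Ideal.span {x}
  obtain ⟨g, hg⟩ : ∃ g : Fin J.spanFinrank → R, Ideal.span (Set.range g) = J := by
    obtain ⟨s, hs, hs'⟩ := Submodule.FG.exists_span_finset_card_eq_spanFinrank (IsNoetherian.noetherian J)
    let e₀ : Fin J.spanFinrank ≃ s := (finCongr hs.symm).trans s.equivFin.symm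
    refine ⟨fun k => ((e₀ k : s) : R), ?_⟩
    rw [show (Set.range fun k => ((e₀ k : s) : R)) = (s : Set R) from ?_]
    · exact hs'
    · rw [show (fun k => ((e₀ k : s) : R)) = Subtype.val ∘ e₀ from rfl, e₀.surjective.range_comp]
      exact Subtype.range_coe
  have hd : ∀ i, ∃ a ∈ I, ∃ c, g i = a + c * x := fun i => by
    obtain ⟨a, ha, z, hz, h⟩ := Submodule.mem_sup.1 (show g i ∈ I ⊔ Ideal.span {x} from
      hg.le (Ideal.subset_span ⟨i, rfl⟩))
    obtain ⟨c, rfl⟩ := Ideal.mem_span_singleton'.1 hz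
    exact ⟨a, ha, c, h.symm⟩
  choose a ha c hc using hd
  have hxJ : x ∈ Ideal.span (Set.range g) := hg.ge (Ideal.mem_sup_right (Ideal.mem_span_singleton_self x))
  obtain ⟨r, hr⟩ := (Ideal.mem_span_range_iff_exists_fun).1 hxJ
  have hu : ∃ j, IsUnit (r j) := by
    by_contra! hcon
    have h1 : (1 - ∑ i, r i * c i) * x = ∑ i, r i * a i := by
      rw [sub_mul, one_mul, Finset.sum_mul]
      conv_lhs => arg 1; rw [← hr]
      rw [← Finset.sum_sub_distrib]
      exact Finset.sum_congr rfl fun i _ => by rw [hc i]; ring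
    have h2 : 1 - ∑ i, r i * c i ∈ I := hreg _ (h1 ▸ I.sum_mem fun i _ => Ideal.mul_mem_left _ _ (ha i))
    have h3 : ∑ i, r i * c i ∈ maximalIdeal R :=
      Ideal.sum_mem _ fun i _ => Ideal.mul_mem_right _ _ ((mem_maximalIdeal _).2 (hcon i))
    have h4 := add_mem (hI h2) h3
    rw [sub_add_cancel] at h4
    exact (maximalIdeal.isMaximal R).ne_top ((Ideal.eq_top_iff_one _).2 h4)
  obtain ⟨j, hj⟩ := hu
  let s : Finset R := (Finset.univ.erase j).image fun i => g i - c i * x
  have hsI : Ideal.span (s : Set R) ≤ I := by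
    rw [Ideal.span_le]
    intro y hy
    obtain ⟨i, -, rfl⟩ := Finset.mem_image.1 hy
    show g i - c i * x ∈ I
    rw [hc i, add_sub_cancel_right]
    exact ha i
  have hJ : J ≤ Ideal.span (s : Set R) ⊔ Ideal.span {x} := by
    rw [← hg, Ideal.span_le]
    rintro _ ⟨i, rfl⟩
    have hne : ∀ k, k ≠ j → g k ∈ Ideal.span (s : Set R) ⊔ Ideal.span {x} := fun k hk => by
      rw [← sub_add_cancel (g k) (c k * x)]
      exact add_mem (Ideal.mem_sup_left (Ideal.subset_span
        (Finset.mem_image.2 ⟨k, Finset.mem_erase.2 ⟨hk, Finset.mem_univ _⟩, rfl⟩)))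
        (Ideal.mem_sup_right (Ideal.mem_span_singleton'.2 ⟨c k, rfl⟩))
    by_cases hi : i = j
    · subst hi
      have h1 : r i * g i = x - ∑ k ∈ Finset.univ.erase i, r k * g k := by
        rw [eq_sub_iff_add_eq, Finset.add_sum_erase _ (fun k => r k * g k) (Finset.mem_univ i), hr]
      refine (Ideal.unit_mul_mem_iff_mem _ hj).1 ?_
      rw [h1]
      exact sub_mem (Ideal.mem_sup_right (Ideal.mem_span_singleton_self x))
        (Ideal.sum_mem _ fun k hk => Ideal.mul_mem_left _ _ (hne k (Finset.ne_of_mem_erase hk)))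
    · exact hne i hi
  have hIs : I ≤ Ideal.span (s : Set R) := by
    refine Submodule.le_of_le_smul_of_le_jacobson_bot (I := Ideal.span {x}) (IsNoetherian.noetherian I) ?_ ?_
    · rw [IsLocalRing.jacobson_eq_maximalIdeal ⊥ bot_ne_top]
      rwa [Ideal.span_le, Set.singleton_subset_iff]
    · intro i hi
      obtain ⟨t, ht, z, hz, rfl⟩ := Submodule.mem_sup.1 (hJ (Ideal.mem_sup_left hi))
      obtain ⟨b, rfl⟩ := Ideal.mem_span_singleton'.1 hz
      refine Submodule.mem_sup.2 ⟨t, ht, b * x, ?_, rfl⟩
      have hb : b * x ∈ I := by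
        have := sub_mem hi (hsI ht)
        simpa using this
      rw [mul_comm, smul_eq_mul]
      exact Ideal.mul_mem_mul (Ideal.mem_span_singleton_self x) (hreg _ hb)
  have h5 := (Submodule.spanFinrank_span_le_ncard_of_finite (R := R) (Finset.finite_toSet s)).trans
    ((Set.ncard_coe_finset s).le.trans Finset.card_image_le)
  rw [Finset.card_erase_of_mem (Finset.mem_univ j), Finset.card_univ, Fintype.card_fin] at h5
  have h6 : I.spanFinrank = (Submodule.span R (s : Set R)).spanFinrank :=
    congrArg Submodule.spanFinrank (le_antisymm hIs hsI)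
  have hpos := j.pos
  show I.spanFinrank + 1 ≤ J.spanFinrank
  omega

/-- Complete intersection deforms: if `B/(x)` is a complete intersection for a regular `x ∈ m`, so is `B`. -/
theorem isCI_of_quotient_regular {B : Type u} [CommRing B] [IsLocalRing B] [IsNoetherianRing B] (x : B)
    (hx : x ∈ maximalIdeal B) (hreg : IsSMulRegular B x) [IsLocalRing (B ⧸ Ideal.span {x})]
    (h : Pi1.IsCompleteIntersection (B ⧸ Ideal.span {x})) : Pi1.IsCompleteIntersection B := by
  obtain ⟨R, _, _, I, ⟨eqv⟩⟩ := exists_presentation B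
  haveI := RegLoc.Completion.isNoetherianRing_adicCompletion' (maximalIdeal B)
  let T := AdicCompletion (maximalIdeal B) B
  have hmax : (maximalIdeal B).map (algebraMap B T) = maximalIdeal T := AdicCompletion.maximalIdeal_eq_map.symm
  haveI : IsLocalHom (algebraMap B T) :=
    ((IsLocalRing.local_hom_TFAE (algebraMap B T)).out 0 2).mpr hmax.le
  haveI : IsLocalRing (R ⧸ I) := eqv.isLocalRing
  have hI : I ≠ ⊤ := fun hI => not_subsingleton (R ⧸ I) (Ideal.Quotient.subsingleton_iff.2 hI)
  obtain ⟨x', hx'⟩ := Ideal.Quotient.mk_surjective (eqv (algebraMap B T x))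
  have hxT : algebraMap B T x ∈ maximalIdeal T := hmax ▸ Ideal.mem_map_of_mem _ hx
  have hx'm : x' ∈ maximalIdeal R := fun hu => (mem_maximalIdeal _).1 hxT (by
    have h1 : IsUnit (eqv (algebraMap B T x)) := hx' ▸ hu.map (Ideal.Quotient.mk I)
    simpa using h1.map eqv.symm)
  have hregT : IsSMulRegular T x := AssSch.FlatAss.isSMulRegular_of_flat hreg
  have hregI : ∀ c, c * x' ∈ I → c ∈ I := by
    intro c hc
    rw [← Ideal.Quotient.eq_zero_iff_mem] at hc ⊢
    rw [map_mul, hx'] at hc
    have h1 : x • eqv.symm (Ideal.Quotient.mk I c) = 0 := by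
      rw [Algebra.smul_def, mul_comm]
      have := congrArg eqv.symm hc
      rw [map_mul, eqv.symm_apply_apply, map_zero] at this
      exact this
    have h2 := (isSMulRegular_iff_right_eq_zero_of_smul.mp hregT) _ h1
    simpa using congrArg eqv h2
  -- the quotient of the completion
  let S := (Ideal.span {x}).map (algebraMap B T)
  let J := I ⊔ Ideal.span {x'}
  have hJ : J ≤ maximalIdeal R := sup_le (le_maximalIdeal hI) (by rwa [Ideal.span_le, Set.singleton_subset_iff])
  have hJne : J ≠ ⊤ := fun hJ' => (maximalIdeal.isMaximal R).ne_top (top_le_iff.1 (hJ' ▸ hJ))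
  have hSm : S ≤ maximalIdeal T := by
    rw [← hmax]
    exact Ideal.map_mono (by rwa [Ideal.span_le, Set.singleton_subset_iff])
  haveI : Nontrivial (T ⧸ S) := Ideal.Quotient.nontrivial_iff.2
    fun hS => (maximalIdeal.isMaximal T).ne_top (top_le_iff.1 (hS ▸ hSm))
  haveI : IsLocalRing (T ⧸ S) := IsLocalRing.of_surjective' (Ideal.Quotient.mk S) Ideal.Quotient.mk_surjective
  haveI : Nontrivial (R ⧸ J) := Ideal.Quotient.nontrivial_iff.2 hJne
  haveI : IsLocalRing (R ⧸ J) := IsLocalRing.of_surjective' (Ideal.Quotient.mk J) Ideal.Quotient.mk_surjective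
  let E : T ⧸ S ≃+* R ⧸ J :=
    (Ideal.quotientEquiv S (S.map eqv.toRingHom) eqv rfl).trans
      ((Ideal.quotEquivOfEq (by
        rw [Ideal.map_map, Ideal.map_span, Set.image_singleton, Ideal.map_span, Set.image_singleton]
        exact congrArg (fun z => Ideal.span {z}) hx'.symm)).trans
        (DoubleQuot.quotQuotEquivQuotSup I (Ideal.span {x'})))
  haveI : Module.Flat (B ⧸ Ideal.span {x}) (T ⧸ S) :=
    Module.Flat.of_linearEquiv
      (Algebra.TensorProduct.quotIdealMapEquivQuotTensor T (Ideal.span {x})).toLinearEquiv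
  have hmax' : (maximalIdeal (B ⧸ Ideal.span {x})).map (algebraMap (B ⧸ Ideal.span {x}) (T ⧸ S)) =
      maximalIdeal (T ⧸ S) := by
    rw [← IsLocalRing.map_maximalIdeal_of_surjective (Ideal.Quotient.mk (Ideal.span {x})) Ideal.Quotient.mk_surjective,
      ← IsLocalRing.map_maximalIdeal_of_surjective (Ideal.Quotient.mk S) Ideal.Quotient.mk_surjective, ← hmax,
      Ideal.map_map, Ideal.map_map]
    rfl
  haveI : IsLocalHom (algebraMap (B ⧸ Ideal.span {x}) (T ⧸ S)) :=
    ((IsLocalRing.local_hom_TFAE (algebraMap (B ⧸ Ideal.span {x}) (T ⧸ S))).out 0 2).mpr hmax'.le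
  have hciJ : Pi1.IsCompleteIntersection (R ⧸ J) :=
    CIntCI.isCI_of_ringEquiv E ((isCI_iff_of_flat (B ⧸ Ideal.span {x}) (T ⧸ S) hmax').2 h)
  have hdimJ := (Synt44.isCompleteIntersection_iff J).1 hciJ
  have hdimT : ringKrullDim (R ⧸ J) + 1 = ringKrullDim (R ⧸ I) := by
    rw [← ringKrullDim_eq_of_ringEquiv E, ← ringKrullDim_eq_of_ringEquiv eqv]
    have hS : S = Ideal.span {algebraMap B T x} := by
      rw [show S = (Ideal.span {x}).map (algebraMap B T) from rfl, Ideal.map_span, Set.image_singleton]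
    rw [ringKrullDim_eq_of_ringEquiv (Ideal.quotEquivOfEq hS)]
    refine ringKrullDim_quotient_span_singleton_succ_eq_ringKrullDim_of_mem_jacobson ?_ ?_
    · intro u v huv
      refine hregT ?_
      simpa [Algebra.smul_def] using huv
    · rwa [IsLocalRing.ringJacobson_eq_maximalIdeal]
  have hle := spanFinrank_add_one_le I x' (le_maximalIdeal hI) hx'm hregI
  have hI' : Pi1.IsCompleteIntersection (R ⧸ I) := by
    refine (Synt44.isCompleteIntersection_iff I).2 (le_trans ?_ hdimJ)
    rw [← hdimT, add_comm (ringKrullDim (R ⧸ J)) 1, ← add_assoc]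
    refine add_le_add ?_ le_rfl
    exact_mod_cast hle
  exact (isCI_iff_of_flat B T hmax).1 (CIntCI.isCI_of_ringEquiv eqv.symm hI')

/-- Complete intersection ascends along flat local homomorphisms with regular closed fibre. -/
theorem isCI_of_regular_fibre (A : Type u) [CommRing A] [IsLocalRing A] [IsNoetherianRing A]
    (hA : Pi1.IsCompleteIntersection A) :
    ∀ (n : ℕ) (B : Type u) [CommRing B] [IsLocalRing B] [IsNoetherianRing B] [Algebra A B]
      [IsLocalHom (algebraMap A B)] [Module.Flat A B] [IsRegularLocalRing (EGA4.FibRing A B)],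
      ringKrullDim (EGA4.FibRing A B) = (n : WithBot ℕ∞) → Pi1.IsCompleteIntersection B := by
  intro n
  induction n with
  | zero =>
    intro B _ _ _ _ _ _ _ hdim
    refine (isCI_iff_of_flat A B ?_).2 hA
    have h0 : maximalIdeal (EGA4.FibRing A B) = ⊥ := by
      rw [← Submodule.spanFinrank_eq_zero_iff_eq_bot (IsNoetherian.noetherian (maximalIdeal (EGA4.FibRing A B)))]
      exact RegLoc.spanFinrank_eq_dim hdim
    rw [← IsLocalRing.map_maximalIdeal_of_surjective (Ideal.Quotient.mk (EGA4.mB A B)) Ideal.Quotient.mk_surjective,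
      Ideal.map_eq_bot_iff_le_ker, Ideal.mk_ker] at h0
    exact le_antisymm (IsLocalRing.map_maximalIdeal_le (algebraMap A B)) h0
  | succ n ih =>
    intro B _ _ _ _ _ _ _ hdim
    let F := EGA4.FibRing A B
    haveI : IsDomain F := RegLoc.isDomain F
    have hne : ¬ maximalIdeal F ≤ maximalIdeal F ^ 2 := by
      intro hle
      have h1 : maximalIdeal F = ⊥ := by
        refine Submodule.eq_bot_of_le_smul_of_le_jacobson_bot (maximalIdeal F) _ (IsNoetherian.noetherian _) ?_ ?_
        · rwa [smul_eq_mul, ← pow_two]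
        · rw [IsLocalRing.jacobson_eq_maximalIdeal ⊥ bot_ne_top]
      have h2 := RegLoc.spanFinrank_eq_dim hdim
      rw [h1, Submodule.spanFinrank_bot] at h2
      omega
    obtain ⟨xb, hxb, hxb2⟩ := SetLike.not_le_iff_exists.1 hne
    obtain ⟨x, rfl⟩ := Ideal.Quotient.mk_surjective xb
    have hx : x ∈ maximalIdeal B := fun hu => (mem_maximalIdeal _).1 hxb (hu.map _)
    obtain ⟨hreg', e, he, hed⟩ := RegLoc.isRegularLocalRing_quotient_span_singleton hxb hxb2 hdim
    have hx0 : (Ideal.Quotient.mk (EGA4.mB A B) x : F) ≠ 0 := fun h0 => hxb2 (by rw [h0]; exact zero_mem _)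
    have hxN : IsSMulRegular (B ⧸ (maximalIdeal A).map (algebraMap A B) • (⊤ : Submodule B B)) x := by
      rw [isSMulRegular_iff_right_eq_zero_of_smul]
      intro z hz
      obtain ⟨z, rfl⟩ := Submodule.Quotient.mk_surjective _ z
      rw [← Submodule.Quotient.mk_smul, Submodule.Quotient.mk_eq_zero, smul_eq_mul, Ideal.mul_top] at hz
      rw [Submodule.Quotient.mk_eq_zero, smul_eq_mul, Ideal.mul_top]
      rw [← Ideal.Quotient.eq_zero_iff_mem, smul_eq_mul, map_mul] at hz
      exact Ideal.Quotient.eq_zero_iff_mem.1 ((mul_eq_zero.1 hz).resolve_left hx0)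
    obtain ⟨hxA, hflat⟩ := EGA4Lib.isSMulRegular_of_fibre (R := A) (S := B) (N := B) (M := A) hxN
    have hxB : IsSMulRegular B x := fun u v huv => by
      let e' : B ⊗[A] A ≃ₗ[B] B := TensorProduct.AlgebraTensorModule.rid A B B
      refine e'.symm.injective (hxA ?_)
      show x • e'.symm u = x • e'.symm v
      rw [← map_smul, ← map_smul]
      exact congrArg e'.symm huv
    let B' := B ⧸ Ideal.span {x}
    haveI : Nontrivial B' := Ideal.Quotient.nontrivial_iff.2 fun h1 =>
      (maximalIdeal.isMaximal B).ne_top (top_le_iff.1 (h1 ▸ (by rwa [Ideal.span_le, Set.singleton_subset_iff])))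
    haveI : IsLocalRing B' := IsLocalRing.of_surjective' (Ideal.Quotient.mk _) Ideal.Quotient.mk_surjective
    haveI : Module.Flat A B' := by
      haveI := hflat
      exact Module.Flat.of_linearEquiv (M := QuotSMulTop x B)
        ((Ideal.quotientEquivAlgOfEq A (show Ideal.span {x} = x • (⊤ : Ideal B) by
          simp [← Submodule.ideal_span_singleton_smul])).toLinearEquiv)
    haveI : IsLocalHom (algebraMap A B') := by
      rw [IsScalarTower.algebraMap_eq A B B']
      haveI : IsLocalHom (algebraMap B B') := Function.Surjective.isLocalHom _ Ideal.Quotient.mk_surjective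
      exact RingHom.isLocalHom_comp _ _
    let E : (F ⧸ Ideal.span {(Ideal.Quotient.mk (EGA4.mB A B) x : F)}) ≃+* EGA4.FibRing A B' :=
      (Ideal.quotEquivOfEq (by rw [Ideal.map_span, Set.image_singleton])).trans
        ((DoubleQuot.quotQuotEquivQuotSup (EGA4.mB A B) (Ideal.span {x})).trans
          ((Ideal.quotEquivOfEq (sup_comm _ _)).trans
            ((DoubleQuot.quotQuotEquivQuotSup (Ideal.span {x}) (EGA4.mB A B)).symm.trans
              (Ideal.quotEquivOfEq (by
                rw [EGA4.mB, EGA4.mB, Ideal.map_map]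
                rfl)))))
    haveI : IsRegularLocalRing (EGA4.FibRing A B') := IsRegularLocalRing.of_ringEquiv E
    refine isCI_of_quotient_regular x hx hxB (ih B' ?_)
    rw [← ringKrullDim_eq_of_ringEquiv E, he]
    exact_mod_cast (by omega : e = n)

end Groth.Agent.CInt77
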