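import Groth.Agent.CIntPres.Basic
import Groth.Agent.CycLib.FlatLength
import Groth.Agent.RegLoc.Completion
import Groth.Agent.Nagata.CohenMap
import Groth.Agent.PSLoc.Basic
import Groth.Agent.S5178
import Mathlib.RingTheory.Flat.EquationalCriterion
import Mathlib.LinearAlgebra.TensorProduct.Pi

/-!
# Geometric depth along flat local homomorphisms with trivial closed fibre

The first Koszul homology of a minimal system of generators of the maximal ideal commutes with flat
base change, hence `edim - μ(ideal)` of a Cohen presentation is invariant under a flat local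
homomorphism `A → B` with `m_A B = m_B`.
-/

set_option autoImplicit false
set_option linter.style.haveILetI false

universe u

open IsLocalRing TensorProduct RingTheory.Sequence

namespace Groth.Agent.CInt77

open CIntPres CIntSeq

section H1

variable {A : Type u} [CommRing A] (B : Type u) [CommRing B] [Algebra A B] {d : ℕ} (y : Fin d → A)

/-- The relations among the elements `y`. -/
abbrev Rel {A : Type u} [CommRing A] {d : ℕ} (y : Fin d → A) : Submodule A (Fin d → A) :=
  LinearMap.ker (∑ k, y k • (LinearMap.proj k : (Fin d → A) →ₗ[A] A))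

theorem mem_rel {A : Type u} [CommRing A] {d : ℕ} (y : Fin d → A) (v : Fin d → A) :
    v ∈ Rel y ↔ ∑ k, y k * v k = 0 := by
  simp [Rel, LinearMap.mem_ker]

/-- Pushing relations forward. -/
noncomputable def relMap : Rel y →ₗ[A] Rel fun k => algebraMap A B (y k) where
  toFun z := ⟨fun k => algebraMap A B (z.1 k), by
    rw [mem_rel]
    simpa only [map_sum, map_mul, map_zero] using congrArg (algebraMap A B) ((mem_rel y _).1 z.2)⟩
  map_add' a b := Subtype.ext (funext fun k => map_add (algebraMap A B) _ _)
  map_smul' c a := Subtype.ext (funext fun k => by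
    show algebraMap A B (c * a.1 k) = c • algebraMap A B (a.1 k)
    rw [map_mul, Algebra.smul_def])

theorem relMap_apply (z : Rel y) (k : Fin d) : (relMap B y z).1 k = algebraMap A B (z.1 k) := rfl

/-- The base change of the relations. -/
noncomputable def relBC : B ⊗[A] Rel y →ₗ[B] Rel fun k => algebraMap A B (y k) :=
  (relMap B y).liftBaseChange B

theorem relBC_tmul (b : B) (z : Rel y) : relBC B y (b ⊗ₜ z) = b • (relMap B y z) :=
  LinearMap.liftBaseChange_tmul B (relMap B y) b z

theorem relBC_injective [Module.Flat A B] : Function.Injective (relBC B y) := by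
  let e : B ⊗[A] (Fin d → A) ≃ₗ[B] (Fin d → B) := TensorProduct.piScalarRight A B B (Fin d)
  have h : ∀ w, ((relBC B y w : _) : Fin d → B) =
      e ((Rel y).subtype.lTensor B w) := by
    intro w
    induction w using TensorProduct.induction_on with
    | zero => simp
    | tmul b z =>
      funext k
      rw [relBC_tmul, LinearMap.lTensor_tmul]
      simp [e, relMap_apply, Algebra.smul_def, mul_comm, Submodule.coe_smul]
    | add a b ha hb => simp [ha, hb]
  intro v w hvw
  exact Module.Flat.lTensor_preserves_injective_linearMap _ (Rel y).injective_subtype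
    (e.injective (by rw [← h, ← h, hvw]))

theorem relBC_surjective [Module.Flat A B] : Function.Surjective (relBC B y) := by
  intro v
  obtain ⟨m, a, c, hv, ha⟩ := Module.Flat.iff_forall_isTrivialRelation.1 (inferInstance : Module.Flat A B)
    (f := y) (x := v.1) (by
      simpa only [Algebra.smul_def] using (mem_rel _ v.1).1 v.2)
  refine ⟨∑ j, c j ⊗ₜ ⟨fun k => a k j, (mem_rel y _).2 (ha j)⟩, Subtype.ext (funext fun k => ?_)⟩
  rw [map_sum, Submodule.coe_sum, Finset.sum_apply, hv k]
  refine Finset.sum_congr rfl fun j _ => ?_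
  rw [relBC_tmul]
  show c j * algebraMap A B (a k j) = a k j • c j
  rw [Algebra.smul_def, mul_comm]

theorem map_trivRel {v : Fin d → A} (hv : v ∈ trivRel y A) :
    (fun k => algebraMap A B (v k)) ∈ trivRel (fun k => algebraMap A B (y k)) B := by
  classical
  induction hv using Submodule.span_induction with
  | mem v hv =>
    obtain ⟨i, j, z, rfl⟩ := hv
    refine Submodule.subset_span ⟨i, j, algebraMap A B z, funext fun k => ?_⟩
    simp [Pi.single_apply, apply_ite (algebraMap A B), Algebra.smul_def]
  | zero =>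
    convert zero_mem (trivRel (fun k => algebraMap A B (y k)) B) using 1
    funext k; simp
  | add a b _ _ ha hb =>
    convert add_mem ha hb using 1
    funext k; simp
  | smul c a _ ha =>
    convert Submodule.smul_mem _ (algebraMap A B c) ha using 1
    funext k; simp

/-- The first Koszul homology commutes with flat base change. -/
theorem nonempty_H1_baseChange [Module.Flat A B] :
    Nonempty (B ⊗[A] H1 y ≃ₗ[B] H1 fun k => algebraMap A B (y k)) := by
  classical
  let yB := fun k => algebraMap A B (y k)
  let Φ₀ : H1 y →ₗ[A] H1 yB := Submodule.liftQ _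
    ((((trivRel yB B).submoduleOf (Rel yB)).mkQ.restrictScalars A) ∘ₗ
      relMap B y)
    (fun z hz => by
      rw [LinearMap.mem_ker]
      exact (Submodule.Quotient.mk_eq_zero _).2 (map_trivRel B y hz))
  let Φ : B ⊗[A] H1 y →ₗ[B] H1 yB := Φ₀.liftBaseChange B
  let q : B ⊗[A] Rel y →ₗ[A] B ⊗[A] H1 y := ((trivRel y A).submoduleOf (Rel y)).mkQ.lTensor B
  have hq : Function.Surjective q := LinearMap.lTensor_surjective B (Submodule.mkQ_surjective _)
  have hΦq : ∀ z, Φ (q z) = Submodule.Quotient.mk (relBC B y z) := by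
    intro z
    induction z using TensorProduct.induction_on with
    | zero => simp
    | tmul b z => rw [relBC_tmul, Submodule.Quotient.mk_smul]; rfl
    | add a b ha hb => simp [ha, hb]
  refine ⟨LinearEquiv.ofBijective Φ ⟨?_, fun w => ?_⟩⟩
  · rw [injective_iff_map_eq_zero]
    intro w hw
    obtain ⟨z, rfl⟩ := hq w
    rw [hΦq, Submodule.Quotient.mk_eq_zero] at hw
    replace hw : (relBC B y z).1 ∈ trivRel yB B := hw
    let T := (trivRel y A).submoduleOf (Rel y)
    have hgen : ∀ v ∈ trivRel yB B, ∃ t : B ⊗[A] T, (relBC B y (T.subtype.lTensor B t)).1 = v := by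
      intro v hv
      induction hv using Submodule.span_induction with
      | mem v hv =>
        obtain ⟨i, j, b, rfl⟩ := hv
        let g : Fin d → A := y j • (Pi.single i (1 : A)) - y i • Pi.single j 1
        have hg : g ∈ trivRel y A := Submodule.subset_span ⟨i, j, 1, rfl⟩
        have hgz : g ∈ Rel y := by
          rw [mem_rel]
          simp [g, Pi.single_apply, mul_sub, Finset.sum_sub_distrib]
          ring
        refine ⟨b ⊗ₜ ⟨⟨g, hgz⟩, hg⟩, ?_⟩
        rw [LinearMap.lTensor_tmul, relBC_tmul]
        funext k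
        show b * algebraMap A B (g k) = _
        simp [g, yB, Pi.single_apply, apply_ite (algebraMap A B), mul_sub, mul_comm, Algebra.smul_def]
      | zero => exact ⟨0, by simp⟩
      | add a b _ _ ha hb =>
        obtain ⟨s, hs⟩ := ha
        obtain ⟨t, ht⟩ := hb
        exact ⟨s + t, by simp [hs, ht]⟩
      | smul c a _ ha =>
        obtain ⟨s, hs⟩ := ha
        refine ⟨c • s, ?_⟩
        rw [show T.subtype.lTensor B (c • s) = c • T.subtype.lTensor B s from
          map_smul (AlgebraTensorModule.lTensor B B T.subtype) c s, map_smul, Submodule.coe_smul, hs]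
    obtain ⟨t, ht⟩ := hgen _ hw
    rw [← relBC_injective B y (Subtype.ext ht)]
    show (T.mkQ.lTensor B) (T.subtype.lTensor B t) = 0
    rw [← LinearMap.lTensor_comp_apply, (LinearMap.exact_subtype_mkQ T).linearMap_comp_eq_zero,
      LinearMap.lTensor_zero]
    rfl
  · obtain ⟨v, rfl⟩ := Submodule.Quotient.mk_surjective _ w
    obtain ⟨z, rfl⟩ := relBC_surjective B y v
    exact ⟨q z, hΦq z⟩

end H1

/-- `length (A/m²) = μ(m) + 1`. -/
theorem length_quotient_sq (A : Type u) [CommRing A] [IsLocalRing A] [IsNoetherianRing A] :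
    Module.length A (A ⧸ maximalIdeal A ^ 2) = ((maximalIdeal A).spanFinrank : ℕ∞) + 1 := by
  let m := maximalIdeal A
  let i : (m ⧸ m • (⊤ : Submodule A m)) →ₗ[A] A ⧸ m ^ 2 :=
    Submodule.mapQ _ _ m.subtype (fun z hz => by
      refine Submodule.smul_induction_on hz (fun r hr w _ => ?_) fun a b ha hb => add_mem ha hb
      show r * (w : A) ∈ m ^ 2
      rw [pow_two]
      exact Ideal.mul_mem_mul hr w.2)
  have hsmul : ∀ z : m, (z : A) ∈ m ^ 2 → z ∈ m • (⊤ : Submodule A m) := by
    intro z hz
    have h1 : Submodule.map m.subtype (m • (⊤ : Submodule A m)) = m ^ 2 := by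
      rw [Submodule.map_smul'', Submodule.map_subtype_top, pow_two, smul_eq_mul]
    obtain ⟨w, hw, hwz⟩ := h1.ge hz
    obtain rfl : w = z := Subtype.ext hwz
    exact hw
  have hi : Function.Injective i := by
    rw [injective_iff_map_eq_zero]
    intro z hz
    obtain ⟨z, rfl⟩ := Submodule.Quotient.mk_surjective _ z
    exact (Submodule.Quotient.mk_eq_zero _).2 (hsmul z ((Submodule.Quotient.mk_eq_zero _).1 hz))
  let p : (A ⧸ m ^ 2) →ₗ[A] A ⧸ m := Submodule.factor (Ideal.pow_le_self two_ne_zero)
  have hex : Function.Exact i p := by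
    intro z
    obtain ⟨z, rfl⟩ := Submodule.Quotient.mk_surjective _ z
    constructor
    · intro hz
      exact ⟨Submodule.Quotient.mk ⟨z, (Submodule.Quotient.mk_eq_zero _).1 hz⟩, rfl⟩
    · rintro ⟨w, hw⟩
      obtain ⟨w, rfl⟩ := Submodule.Quotient.mk_surjective _ w
      rw [← hw]
      exact (Submodule.Quotient.mk_eq_zero _).2 w.2
  haveI : IsSimpleModule A (A ⧸ m) :=
    isSimpleModule_iff_isCoatom.2 (Ideal.isMaximal_def.1 (maximalIdeal.isMaximal A))
  rw [Module.length_eq_add_of_exact i p hi (Submodule.factor_surjective _) hex, Module.length_eq_one A (A ⧸ m),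
    ← spanFinrank_eq_length m (IsNoetherian.noetherian m)]

section Flat

variable (A B : Type u) [CommRing A] [IsLocalRing A] [IsNoetherianRing A] [CommRing B] [IsLocalRing B]
  [IsNoetherianRing B] [Algebra A B] [IsLocalHom (algebraMap A B)] [Module.Flat A B]
  (hmax : (maximalIdeal A).map (algebraMap A B) = maximalIdeal B)

include hmax

theorem length_closedFibre : Module.length B (B ⧸ (maximalIdeal A).map (algebraMap A B)) = 1 := by
  rw [hmax]
  haveI : IsSimpleModule B (B ⧸ maximalIdeal B) :=
    isSimpleModule_iff_isCoatom.2 (Ideal.isMaximal_def.1 (maximalIdeal.isMaximal B))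
  exact Module.length_eq_one _ _

/-- The embedding dimension is invariant. -/
theorem spanFinrank_maximalIdeal_eq : (maximalIdeal B).spanFinrank = (maximalIdeal A).spanFinrank := by
  have h := CycLib.length_quotient_map (A := A) (B := B) (maximalIdeal A ^ 2)
  rw [length_closedFibre A B hmax, mul_one, Ideal.map_pow, hmax, length_quotient_sq, length_quotient_sq] at h
  have h' : (maximalIdeal B).spanFinrank + 1 = (maximalIdeal A).spanFinrank + 1 := by exact_mod_cast h
  omega

/-- The length of the first Koszul homology is invariant. -/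
theorem length_H1_eq {d : ℕ} (y : Fin d → A) :
    Module.length B (H1 fun k => algebraMap A B (y k)) = Module.length A (H1 y) := by
  obtain ⟨e⟩ := nonempty_H1_baseChange B y
  rw [← e.length_eq, CycLib.length_tensor, length_closedFibre A B hmax, mul_one]

end Flat

/-- `e - μ(I)` of a presentation `Â ≅ B/I` through the Koszul homology of `A`. -/
theorem formula (A : Type u) [CommRing A] [IsLocalRing A] [IsNoetherianRing A] (B : Type u) [CommRing B]
    [IsRegularLocalRing B] (I : Ideal B) (eqv : AdicCompletion (maximalIdeal A) A ≃+* B ⧸ I) (e : ℕ)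
    (he : ringKrullDim B = (e : WithBot ℕ∞)) {n : ℕ} (hn : (maximalIdeal A).spanFinrank = n)
    (y : Fin n → A) (hy : Ideal.span (Set.range y) = maximalIdeal A) :
    ∃ q : ℕ, Module.length A (H1 y) = (q : ℕ∞) ∧ (e : ℤ) - (I.spanFinrank : ℤ) = (n : ℤ) - q := by
  haveI := RegLoc.Completion.isNoetherianRing_adicCompletion' (maximalIdeal A)
  let T := AdicCompletion (maximalIdeal A) A
  have hmax : (maximalIdeal A).map (algebraMap A T) = maximalIdeal T := AdicCompletion.maximalIdeal_eq_map.symm
  haveI : IsLocalHom (algebraMap A T) :=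
    ((IsLocalRing.local_hom_TFAE (algebraMap A T)).out 0 2).mpr hmax.le
  let f : B →+* T := eqv.symm.toRingHom.comp (Ideal.Quotient.mk I)
  have hf : Function.Surjective f := eqv.symm.surjective.comp Ideal.Quotient.mk_surjective
  obtain ⟨R₁, _, _, g, d₁, hg, hd₁, hgk, heq⟩ := exists_minimal e B f hf he
  rw [RingHom.ker_equiv_comp, Ideal.mk_ker] at heq
  obtain rfl : d₁ = n := by
    rw [← spanFinrank_maximalIdeal_eq_of_minimal g hg hgk hd₁, spanFinrank_maximalIdeal_eq A T hmax, hn]
  have hyT : Ideal.span (Set.range fun k => algebraMap A T (y k)) = maximalIdeal T := by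
    refine Eq.trans ?_ hmax
    refine Eq.trans ?_ (congrArg (Ideal.map (algebraMap A T)) hy)
    rw [Ideal.map_span, ← Set.range_comp]
    rfl
  refine ⟨(RingHom.ker g).spanFinrank, ?_, heq⟩
  rw [← length_H1_eq A T hmax y, spanFinrank_ker_eq_length g hg hgk hd₁ _ hyT]

theorem exists_minimal_generators (A : Type u) [CommRing A] [IsLocalRing A] [IsNoetherianRing A] :
    ∃ y : Fin (maximalIdeal A).spanFinrank → A, Ideal.span (Set.range y) = maximalIdeal A := by
  obtain ⟨s, hs, hs'⟩ := Submodule.FG.exists_span_finset_card_eq_spanFinrank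
    (IsNoetherian.noetherian (maximalIdeal A))
  let e₀ : Fin (maximalIdeal A).spanFinrank ≃ s := (finCongr hs.symm).trans s.equivFin.symm
  refine ⟨fun k => ((e₀ k : s) : A), ?_⟩
  rw [show (Set.range fun k => ((e₀ k : s) : A)) = (s : Set A) from ?_]
  · exact hs'
  · rw [show (fun k => ((e₀ k : s) : A)) = Subtype.val ∘ e₀ from rfl, e₀.surjective.range_comp]
    exact Subtype.range_coe

/-- Geometric depth is invariant under flat local homomorphisms with `m_A B = m_B`. -/
theorem geomDepth_eq (A A' : Type u) [CommRing A] [IsLocalRing A] [IsNoetherianRing A] [CommRing A']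
    [IsLocalRing A'] [IsNoetherianRing A'] [Algebra A A'] [IsLocalHom (algebraMap A A')] [Module.Flat A A']
    (hmax : (maximalIdeal A).map (algebraMap A A') = maximalIdeal A')
    (B B' : Type u) [CommRing B] [IsRegularLocalRing B] [CommRing B'] [IsRegularLocalRing B']
    (I : Ideal B) (I' : Ideal B') (eqv : AdicCompletion (maximalIdeal A) A ≃+* B ⧸ I)
    (eqv' : AdicCompletion (maximalIdeal A') A' ≃+* B' ⧸ I') (e e' : ℕ)
    (he : ringKrullDim B = (e : WithBot ℕ∞)) (he' : ringKrullDim B' = (e' : WithBot ℕ∞)) :
    (e : ℤ) - (I.spanFinrank : ℤ) = (e' : ℤ) - (I'.spanFinrank : ℤ) := by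
  obtain ⟨y, hy⟩ := exists_minimal_generators A
  obtain ⟨q, hq, h⟩ := formula A B I eqv e he rfl y hy
  obtain ⟨q', hq', h'⟩ := formula A' B' I' eqv' e' he' (spanFinrank_maximalIdeal_eq A A' hmax)
    (fun k => algebraMap A A' (y k)) (by
      refine Eq.trans ?_ hmax
      refine Eq.trans ?_ (congrArg (Ideal.map (algebraMap A A')) hy)
      rw [Ideal.map_span, ← Set.range_comp]
      rfl)
  rw [length_H1_eq A A' hmax y, hq] at hq'
  obtain rfl : q = q' := by exact_mod_cast hq'
  rw [h, h']

/-- A Cohen presentation of the completion. -/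
theorem exists_presentation (A : Type u) [CommRing A] [IsLocalRing A] [IsNoetherianRing A] :
    ∃ (B : Type u) (_ : CommRing B) (_ : IsRegularLocalRing B) (I : Ideal B),
      Nonempty (AdicCompletion (maximalIdeal A) A ≃+* B ⧸ I) := by
  haveI := RegLoc.Completion.isNoetherianRing_adicCompletion' (maximalIdeal A)
  haveI : IsAdicComplete (maximalIdeal (AdicCompletion (maximalIdeal A) A)) (AdicCompletion (maximalIdeal A) A) :=
    inferInstance
  obtain ⟨Λ, _, n, f, hΛ, hf⟩ := Nagata.CohenLift.exists_surjective (AdicCompletion (maximalIdeal A) A)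
    (IsNoetherian.noetherian _)
  have hP : IsRegularLocalRing (MvPowerSeries (Fin n) Λ) := by
    rcases hΛ with hF | ⟨_, _, -, p, -, hp⟩
    · let := hF.toField
      exact PSLoc.isRegularLocalRing Λ n
    · refine (Nagata.CohenMap.regular_powerSeries (e := 1) ?_ hp (by omega) n).1
      exact_mod_cast (IsPrincipalIdealRing.ringKrullDim_eq_one Λ (IsDiscreteValuationRing.not_isField Λ)).ge
  exact ⟨_, inferInstance, hP, RingHom.ker f, ⟨(RingHom.quotientKerEquivOfSurjective hf).symm⟩⟩

/-- Complete intersection is invariant under flat local homomorphisms with `m_A B = m_B`. -/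
theorem isCI_iff_of_flat (A A' : Type u) [CommRing A] [IsLocalRing A] [IsNoetherianRing A] [CommRing A']
    [IsLocalRing A'] [IsNoetherianRing A'] [Algebra A A'] [IsLocalHom (algebraMap A A')] [Module.Flat A A']
    (hmax : (maximalIdeal A).map (algebraMap A A') = maximalIdeal A') :
    Pi1.IsCompleteIntersection A' ↔ Pi1.IsCompleteIntersection A := by
  obtain ⟨B, _, _, I, ⟨eqv⟩⟩ := exists_presentation A
  obtain ⟨B', _, _, I', ⟨eqv'⟩⟩ := exists_presentation A'
  obtain ⟨e, he, -⟩ := RegLoc.exists_natCast_eq_ringKrullDim B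
  obtain ⟨e', he', -⟩ := RegLoc.exists_natCast_eq_ringKrullDim B'
  obtain ⟨d, hd, -⟩ := RegLoc.exists_natCast_eq_ringKrullDim A
  have hd' : ringKrullDim A' = (d : WithBot ℕ∞) :=
    (RegLoc.Completion.ringKrullDim_eq_of_flat_of_map_eq A A' hmax).trans hd
  rw [← (S5178.result A B I ⟨eqv⟩ d e hd he).2, ← (S5178.result A' B' I' ⟨eqv'⟩ d e' hd' he').2,
    geomDepth_eq A A' hmax B B' I I' eqv eqv' e e' he he']

end Groth.Agent.CInt77
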