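import Groth.Agent.CInt77.AvramovSeq
import Groth.Agent.CInt77.GeomDepth
import Groth.Agent.CIntCI.RelFibre
import Groth.Agent.CIntCI.Basic
import Groth.Agent.EGA4Lib.PDFibre
import Groth.Agent.FlatMor.PC.Stalks
import Groth.Agent.RegLoc.Homological
import Groth.Agent.Synt44.CIComplete
import Mathlib.RingTheory.KrullDimension.Regular

/-!
# Avramov's theorem for presentations by regular local rings

A flat local map `R/I → S/J` lying over a flat map `R → S` of regular local rings with regular closed
fibre: `S/J` is a complete intersection iff `R/I` and the closed fibre are.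
-/

set_option autoImplicit false
set_option linter.style.haveILetI false

universe u

open IsLocalRing RingTheory.Sequence CategoryTheory
open scoped TensorProduct

namespace Groth.Agent.CInt77

open Avramov

/-- Tor dimension is at most the projective dimension. -/
theorem torDim_of_pd {P : Type u} [CommRing P] : ∀ (n : ℕ) (M : Type u) [AddCommGroup M] [Module P M],
    HasProjectiveDimensionLE (ModuleCat.of P M) n → DRing.HasTorDimLE P n M := by
  intro n
  induction n with
  | zero =>
    intro M _ _ h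
    rw [RegLoc.PD.pd_zero_iff] at h
    exact FlatMor.PC.hasTorDimLE_of_flat 0 M
  | succ n ih =>
    intro M _ _ h
    let f : (M →₀ P) →ₗ[P] M := Finsupp.linearCombination P id
    have hf : Function.Surjective f := Finsupp.linearCombination_id_surjective P M
    exact (FlatMor.PC.hasTorDimLE_ker_iff f hf n).1 (ih _ ((RegLoc.PD.pd_shift f hf n).1 h))

/-- The dimension formula for a flat local homomorphism. -/
theorem ringKrullDim_flat (A B : Type u) [CommRing A] [IsLocalRing A] [IsNoetherianRing A] [CommRing B]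
    [IsLocalRing B] [IsNoetherianRing B] [Algebra A B] [IsLocalHom (algebraMap A B)] [Module.Flat A B] :
    ringKrullDim B = ringKrullDim A + ringKrullDim (EGA4.FibRing A B) := by
  haveI : Nontrivial (EGA4.FibRing A B) := Ideal.Quotient.nontrivial_iff.2
    (ne_top_of_le_ne_top (maximalIdeal.isMaximal B).ne_top (IsLocalRing.map_maximalIdeal_le (algebraMap A B)))
  haveI : IsLocalRing (EGA4.FibRing A B) := IsLocalRing.of_surjective' (Ideal.Quotient.mk _) Ideal.Quotient.mk_surjective
  haveI : (maximalIdeal B).LiesOver (maximalIdeal A) :=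
    ⟨((maximalIdeal.isMaximal A).eq_of_le (Ideal.IsPrime.ne_top
        (inferInstanceAs ((maximalIdeal B).comap (algebraMap A B)).IsPrime))
      (Ideal.map_le_iff_le_comap.mp (IsLocalRing.map_maximalIdeal_le (algebraMap A B))))⟩
  have key := Ideal.height_eq_height_add_of_liesOver_of_hasGoingDown (maximalIdeal A) (maximalIdeal B)
  rw [IsLocalRing.map_maximalIdeal_of_surjective _ Ideal.Quotient.mk_surjective] at key
  rw [← maximalIdeal_height_eq_ringKrullDim (R := B), key, WithBot.coe_add,
    maximalIdeal_height_eq_ringKrullDim (R := A)]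
  congr 1
  exact maximalIdeal_height_eq_ringKrullDim

theorem exists_min_gens {A : Type u} [CommRing A] (I : Ideal A) (h : I.FG) :
    ∃ y : Fin I.spanFinrank → A, Ideal.span (Set.range y) = I := by
  obtain ⟨s, hs, hs'⟩ := Submodule.FG.exists_span_finset_card_eq_spanFinrank h
  let e₀ : Fin I.spanFinrank ≃ s := (finCongr hs.symm).trans s.equivFin.symm
  refine ⟨fun k => ((e₀ k : s) : A), ?_⟩
  rw [show (fun k => ((e₀ k : s) : A)) = Subtype.val ∘ e₀ from rfl, e₀.surjective.range_comp]
  exact (congrArg (Submodule.span A) Subtype.range_coe).trans hs'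

/-- The number of generators is invariant under flat local extensions. -/
theorem spanFinrank_map_of_flat (A B : Type u) [CommRing A] [IsLocalRing A] [IsNoetherianRing A] [CommRing B]
    [IsLocalRing B] [IsNoetherianRing B] [Algebra A B] [IsLocalHom (algebraMap A B)] [Module.Flat A B]
    (I : Ideal A) : (I.map (algebraMap A B)).spanFinrank = I.spanFinrank := by
  classical
  haveI : Module.FaithfullyFlat A B := Module.FaithfullyFlat.of_flat_of_isLocalHom
  refine le_antisymm (Ideal.spanFinrank_map_le_of_fg _ (IsNoetherian.noetherian I)) ?_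
  obtain ⟨y, hy⟩ := exists_min_gens I (IsNoetherian.noetherian I)
  obtain ⟨g, hg⟩ := exists_min_gens (I.map (algebraMap A B)) (IsNoetherian.noetherian _)
  have hy' : ∀ k, (algebraMap A B (y k)) ∉ maximalIdeal B * I.map (algebraMap A B) ⊔
      Ideal.span ((algebraMap A B ∘ y) '' {i | i < k}) := by
    intro k hk
    let Y := Ideal.span (y '' {i | i ≠ k})
    have hmap : Y.map (algebraMap A B) = Ideal.span ((algebraMap A B ∘ y) '' {i | i ≠ k}) := by
      rw [Ideal.map_span, Set.image_image]; rfl
    have h1 : I.map (algebraMap A B) ≤ maximalIdeal B * I.map (algebraMap A B) ⊔ Y.map (algebraMap A B) := by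
      rw [hmap]
      conv_lhs => rw [← hy, Ideal.map_span, ← Set.range_comp]
      refine Ideal.span_le.2 ?_
      rintro _ ⟨i, rfl⟩
      by_cases hi : i = k
      · subst hi
        have hle : Ideal.span ((algebraMap A B ∘ y) '' {j | j < i}) ≤
            Ideal.span ((algebraMap A B ∘ y) '' {j | j ≠ i}) :=
          Ideal.span_mono (Set.image_mono fun j hj => ne_of_lt hj)
        exact SetLike.le_def.1 (sup_le_sup le_rfl hle) hk
      · exact Ideal.mem_sup_right (Ideal.subset_span ⟨i, hi, rfl⟩)
    have h2 : I.map (algebraMap A B) ≤ Y.map (algebraMap A B) :=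
      Submodule.le_of_le_smul_of_le_jacobson_bot (I := maximalIdeal B) (IsNoetherian.noetherian _)
        (IsLocalRing.jacobson_eq_maximalIdeal ⊥ bot_ne_top).ge (by rw [smul_eq_mul, sup_comm]; exact h1)
    have h3 : Y = I := by
      refine le_antisymm (Ideal.span_le.2 ?_) fun x hx => ?_
      · rintro _ ⟨i, -, rfl⟩
        exact hy.le (Ideal.subset_span ⟨i, rfl⟩)
      · have := h2 (Ideal.mem_map_of_mem _ hx)
        rwa [← Ideal.mem_comap, Ideal.comap_map_eq_self_of_faithfullyFlat] at this
    have h4 : y '' {i | i ≠ k} = (((Finset.univ.erase k).image y : Finset A) : Set A) := by ext; simp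
    have h5 : I.spanFinrank ≤ (Finset.univ.erase k).card := by
      calc I.spanFinrank
          = (Submodule.span A (((Finset.univ.erase k).image y : Finset A) : Set A)).spanFinrank := by
            rw [← h4]; exact congrArg Submodule.spanFinrank h3.symm
        _ ≤ ((Finset.univ.erase k).image y).card :=
            (Submodule.spanFinrank_span_le_ncard_of_finite (Finset.finite_toSet _)).trans
              (Set.ncard_coe_finset _).le
        _ ≤ _ := Finset.card_image_le
    rw [Finset.card_erase_of_mem (Finset.mem_univ k), Finset.card_univ, Fintype.card_fin] at h5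
    have := k.pos
    omega
  obtain ⟨_, _, hq, -⟩ := exists_exchange _ g hg (algebraMap A B ∘ y)
    (fun i => Ideal.mem_map_of_mem _ (hy.le (Ideal.subset_span ⟨i, rfl⟩))) hy' _ le_rfl
  exact hq

/-- Avramov's theorem for a presentation by regular local rings. -/
theorem core {R S : Type u} [CommRing R] [CommRing S] [IsRegularLocalRing R] [IsRegularLocalRing S]
    [Algebra R S] [IsLocalHom (algebraMap R S)] [Module.Flat R S] [IsRegularLocalRing (EGA4.FibRing R S)]
    (I : Ideal R) (J : Ideal S) (hJ : J ≠ ⊤) (hIJ : I.map (algebraMap R S) ≤ J)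
    [Algebra (R ⧸ I) (S ⧸ J)] [IsScalarTower R (R ⧸ I) (S ⧸ J)] [Module.Flat (R ⧸ I) (S ⧸ J)]
    [IsLocalRing (R ⧸ I)] [IsLocalRing (S ⧸ J)] [IsLocalRing (S ⧸ (J ⊔ EGA4.mB R S))] :
    Pi1.IsCompleteIntersection (S ⧸ J) ↔
      (Pi1.IsCompleteIntersection (R ⧸ I) ∧ Pi1.IsCompleteIntersection (S ⧸ (J ⊔ EGA4.mB R S))) := by
  classical
  set IS := I.map (algebraMap R S) with hIS
  let mS := EGA4.mB R S
  let A' := R ⧸ I
  let C := S ⧸ IS
  haveI : Nontrivial C := Ideal.Quotient.nontrivial_iff.2 (ne_top_of_le_ne_top hJ hIJ)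
  haveI : IsLocalRing C := IsLocalRing.of_surjective' (Ideal.Quotient.mk IS) Ideal.Quotient.mk_surjective
  haveI : Module.Flat A' C :=
    Module.Flat.of_linearEquiv (Algebra.TensorProduct.quotIdealMapEquivQuotTensor S I).toLinearEquiv
  have hmA : maximalIdeal A' = (maximalIdeal R).map (Ideal.Quotient.mk I) :=
    (IsLocalRing.map_maximalIdeal_of_surjective _ Ideal.Quotient.mk_surjective).symm
  have hmC : EGA4.mB A' C = mS.map (Ideal.Quotient.mk IS) := by
    show (maximalIdeal A').map (algebraMap A' C) = _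
    rw [hmA, Ideal.map_map, show mS = (maximalIdeal R).map (algebraMap R S) from rfl, Ideal.map_map]
    rfl
  have hmJ : EGA4.mB A' (S ⧸ J) = mS.map (Ideal.Quotient.mk J) := by
    show (maximalIdeal A').map (algebraMap A' (S ⧸ J)) = _
    rw [hmA, Ideal.map_map, show mS = (maximalIdeal R).map (algebraMap R S) from rfl, Ideal.map_map,
      ← Ideal.Quotient.algebraMap_eq, ← IsScalarTower.algebraMap_eq]
    rfl
  have hmS : mS ≤ maximalIdeal S := IsLocalRing.map_maximalIdeal_le (algebraMap R S)
  haveI : IsLocalHom (algebraMap A' C) := by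
    refine ((IsLocalRing.local_hom_TFAE _).out 0 2).mpr ?_
    show EGA4.mB A' C ≤ _
    rw [hmC, ← IsLocalRing.map_maximalIdeal_of_surjective (Ideal.Quotient.mk IS) Ideal.Quotient.mk_surjective]
    exact Ideal.map_mono hmS
  haveI : IsLocalHom (algebraMap A' (S ⧸ J)) := by
    refine ((IsLocalRing.local_hom_TFAE _).out 0 2).mpr ?_
    show EGA4.mB A' (S ⧸ J) ≤ _
    rw [hmJ, ← IsLocalRing.map_maximalIdeal_of_surjective (Ideal.Quotient.mk J) Ideal.Quotient.mk_surjective]
    exact Ideal.map_mono hmS
  letI algC : Algebra C (S ⧸ J) := (Ideal.Quotient.factor hIJ).toAlgebra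
  haveI : IsScalarTower S C (S ⧸ J) := IsScalarTower.of_algebraMap_eq fun _ => rfl
  haveI : IsScalarTower A' C (S ⧸ J) := IsScalarTower.of_algebraMap_eq fun x => by
    obtain ⟨r, rfl⟩ := Ideal.Quotient.mk_surjective x
    exact (IsScalarTower.algebraMap_apply R A' (S ⧸ J) r).symm
  haveI : Module.Finite C (S ⧸ J) :=
    Module.Finite.of_surjective (Algebra.linearMap C (S ⧸ J)) (Ideal.Quotient.factor_surjective hIJ)
  have hsupIS : IS ⊔ mS = mS :=
    sup_eq_right.2 (Ideal.map_mono (le_maximalIdeal (Ideal.Quotient.nontrivial_iff.1 inferInstance)))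
  let eF : EGA4.FibRing A' C ≃+* EGA4.FibRing R S :=
    (Ideal.quotEquivOfEq hmC).trans ((DoubleQuot.quotQuotEquivQuotSup IS mS).trans (Ideal.quotEquivOfEq hsupIS))
  haveI : IsRegularLocalRing (EGA4.FibRing A' C) := IsRegularLocalRing.of_ringEquiv eF.symm
  let eFJ : EGA4.FibRing A' (S ⧸ J) ≃+* S ⧸ (J ⊔ mS) :=
    (Ideal.quotEquivOfEq hmJ).trans (DoubleQuot.quotQuotEquivQuotSup J mS)
  let Jb : Ideal (EGA4.FibRing R S) := J.map (Ideal.Quotient.mk mS)
  let eb : EGA4.FibRing R S ⧸ Jb ≃+* S ⧸ (J ⊔ mS) :=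
    (DoubleQuot.quotQuotEquivQuotSup mS J).trans (Ideal.quotEquivOfEq (sup_comm mS J))
  haveI : IsLocalRing (EGA4.FibRing R S ⧸ Jb) := eb.symm.isLocalRing
  obtain ⟨r, hr, -⟩ := RegLoc.exists_natCast_eq_ringKrullDim R
  obtain ⟨s, hs, -⟩ := RegLoc.exists_natCast_eq_ringKrullDim S
  obtain ⟨a, ha, -⟩ := RegLoc.exists_natCast_eq_ringKrullDim A'
  obtain ⟨b, hb, -⟩ := RegLoc.exists_natCast_eq_ringKrullDim (S ⧸ J)
  obtain ⟨c, hc, -⟩ := RegLoc.exists_natCast_eq_ringKrullDim C
  obtain ⟨dF, hdF, -⟩ := RegLoc.exists_natCast_eq_ringKrullDim (EGA4.FibRing R S)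
  obtain ⟨f, hf, -⟩ := RegLoc.exists_natCast_eq_ringKrullDim (S ⧸ (J ⊔ mS))
  have hdFC : ringKrullDim (EGA4.FibRing A' C) = (dF : WithBot ℕ∞) :=
    (ringKrullDim_eq_of_ringEquiv eF).trans hdF
  have hfb : ringKrullDim (EGA4.FibRing R S ⧸ Jb) = (f : WithBot ℕ∞) :=
    (ringKrullDim_eq_of_ringEquiv eb).trans hf
  have es : s = r + dF := by
    have := ringKrullDim_flat R S
    rw [hs, hr, hdF] at this
    exact_mod_cast this
  have ec : c = a + dF := by
    have := ringKrullDim_flat A' C
    rw [hc, ha, hdFC] at this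
    exact_mod_cast this
  have eB : b = a + f := by
    have := ringKrullDim_flat A' (S ⧸ J)
    rw [hb, ha, (ringKrullDim_eq_of_ringEquiv eFJ).trans hf] at this
    exact_mod_cast this
  have hμ : IS.spanFinrank = I.spanFinrank := spanFinrank_map_of_flat R S I
  rw [← CIntCI.isCI_iff_of_ringEquiv eb, Synt44.isCompleteIntersection_iff Jb,
    Synt44.isCompleteIntersection_iff I, Synt44.isCompleteIntersection_iff J, ha, hb, hr, hs, hdF, hfb]
  constructor
  · intro hB
    rw [← hb, ← hs] at hB
    have hfd : DRing.HasFiniteTorDim C (S ⧸ J) :=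
      ⟨dF, torDim_of_pd dF _ (EGA4Lib.PDFibre.pd_of_fibre A' C dF (S ⧸ J)
        (RegLoc.Homological.pd_le_dim hdFC _))⟩
    obtain ⟨⟨rs, hrs, hreg⟩, rs', hrs', hreg'⟩ := regular_of_finiteTorDim IS J hIJ hJ
      (fun x hx hxm => mem_maximal_mul IS J hIJ hJ hfd x hx hxm)
      ((Synt44.exists_regular_iff_spanFinrank J hJ).2 hB)
    have h1 := (Synt44.exists_regular_iff_spanFinrank IS (ne_top_of_le_ne_top hJ hIJ)).1 ⟨rs, hrs, hreg⟩
    rw [hμ, hc, hs] at h1
    have h1' : I.spanFinrank + c ≤ s := by exact_mod_cast h1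
    have h2 := ringKrullDim_add_length_eq_ringKrullDim_of_isRegular rs' hreg'
    rw [ringKrullDim_eq_of_ringEquiv
      ((Ideal.quotEquivOfEq hrs').trans (DoubleQuot.quotQuotEquivQuotOfLE hIJ)), hb, hc] at h2
    have h2' : b + rs'.length = c := by exact_mod_cast h2
    let π : C →+* EGA4.FibRing R S := Ideal.Quotient.factor (hsupIS ▸ le_sup_left : IS ≤ mS)
    have hJb : Jb = Ideal.span ((rs'.map π).toFinset : Set (EGA4.FibRing R S)) := by
      have h3 : (J.map (Ideal.Quotient.mk IS)).map π = Jb := by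
        rw [Ideal.map_map, Ideal.Quotient.factor_comp_mk]
      rw [← h3, ← hrs', Ideal.map_ofList]
      simp only [Ideal.ofList, List.coe_toFinset]
    have h4 : Jb.spanFinrank ≤ rs'.length := by
      rw [hJb]
      refine (Submodule.spanFinrank_span_le_ncard_of_finite (Finset.finite_toSet _)).trans ?_
      rw [Set.ncard_coe_finset]
      exact (List.toFinset_card_le _).trans (List.length_map _).le
    refine ⟨?_, ?_⟩
    · exact_mod_cast (by omega : I.spanFinrank + a ≤ r)
    · exact_mod_cast (by omega : Jb.spanFinrank + f ≤ dF)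
  · rintro ⟨hA, hF⟩
    have hA' : I.spanFinrank + a ≤ r := by exact_mod_cast hA
    have hF' : Jb.spanFinrank + f ≤ dF := by exact_mod_cast hF
    obtain ⟨y, hy⟩ := exists_min_gens I (IsNoetherian.noetherian I)
    obtain ⟨g, hg⟩ := exists_min_gens Jb (IsNoetherian.noetherian Jb)
    choose h hh hhg using fun i => (Ideal.mem_map_iff_of_surjective (Ideal.Quotient.mk mS)
      Ideal.Quotient.mk_surjective).1 (hg.le (Ideal.subset_span ⟨i, rfl⟩))
    let H := Ideal.span (Set.range h)
    have hHJ : H ≤ J := Ideal.span_le.2 (by rintro _ ⟨i, rfl⟩; exact hh i)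
    have hJH : J ≤ mS ⊔ H := by
      have h1 : Jb = H.map (Ideal.Quotient.mk mS) := by
        rw [Ideal.map_span, ← Set.range_comp, show (Ideal.Quotient.mk mS) ∘ h = g from funext hhg, hg]
      rw [← Ideal.comap_map_quotientMk mS H, ← h1]
      exact Ideal.le_comap_map
    let eJ : (C ⧸ J.map (Ideal.Quotient.mk IS)) ≃ₐ[A'] S ⧸ J :=
      AlgEquiv.ofRingEquiv (f := DoubleQuot.quotQuotEquivQuotOfLE hIJ) fun x => by
        obtain ⟨r, rfl⟩ := Ideal.Quotient.mk_surjective x
        exact IsScalarTower.algebraMap_apply R A' (S ⧸ J) r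
    haveI : Module.Flat A' (C ⧸ J.map (Ideal.Quotient.mk IS)) :=
      Module.Flat.of_linearEquiv eJ.toLinearEquiv
    have hK : H.map (Ideal.Quotient.mk IS) = J.map (Ideal.Quotient.mk IS) := by
      refine CIntCI.eq_of_flat_quotient_fg (A := A') (IsNoetherian.noetherian _) (Ideal.map_mono hHJ) ?_
      rw [hmC, ← Ideal.map_sup]
      exact Ideal.map_mono hJH
    have hJeq : J = Ideal.span (Set.range (algebraMap R S ∘ y) ∪ Set.range h) := by
      have := congrArg (Ideal.comap (Ideal.Quotient.mk IS)) hK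
      rw [Ideal.comap_map_quotientMk, Ideal.comap_map_quotientMk, sup_eq_right.2 hIJ] at this
      rw [← this, Ideal.span_union, Set.range_comp, ← Ideal.map_span, hy]
    have h5 : J.spanFinrank ≤ I.spanFinrank + Jb.spanFinrank := by
      rw [hJeq]
      refine (Submodule.spanFinrank_span_le_ncard_of_finite ((Set.finite_range _).union (Set.finite_range _))).trans
        ((Set.ncard_union_le _ _).trans (add_le_add ?_ ?_))
      · refine le_trans ?_ (Nat.card_fin I.spanFinrank).le
        exact Finite.card_range_le _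
      · refine le_trans ?_ (Nat.card_fin Jb.spanFinrank).le
        exact Finite.card_range_le _
    exact_mod_cast (by omega : J.spanFinrank + b ≤ s)

end Groth.Agent.CInt77
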