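import Groth.Agent.FlatMor.PC.Stalks
import Mathlib.LinearAlgebra.ExteriorAlgebra.Basis
import Mathlib.LinearAlgebra.CliffordAlgebra.Contraction
import Mathlib.LinearAlgebra.TensorProduct.RightExactness
import Mathlib.LinearAlgebra.DirectSum.Finsupp

/-!
# Avramov's lemma

If `A/J` has finite tor dimension over `A/I` (`I ⊆ J` ideals of a local ring), then
`I/mI → J/mJ` is injective.  The proof is elementary: for `B = A/(f)` with `fm = 0`, the degree two
operator of a lifted free resolution of the residue field detects the divided powers attached to an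
expression `f = Σ c_j x_j`.
-/

set_option autoImplicit false
set_option linter.style.haveILetI false

universe u

open TensorProduct IsLocalRing

namespace Groth.Agent.CInt77.Avramov

/-! ### Homology against a module of finite tor dimension -/

theorem exact_rTensor_of_torDim {B : Type u} [CommRing B] {R : ℕ → Type u} [∀ n, AddCommGroup (R n)]
    [∀ n, Module B (R n)] [∀ n, Module.Flat B (R n)] (d : ∀ n, R (n + 1) →ₗ[B] R n)
    (hex : ∀ n, Function.Exact (d (n + 1)) (d n)) (D : ℕ) :
    ∀ (C : Type u) [AddCommGroup C] [Module B C], DRing.HasTorDimLE B D C →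
      ∀ n, D ≤ n → Function.Exact ((d (n + 1)).rTensor C) ((d n).rTensor C) := by
  induction D with
  | zero =>
    intro C _ _ hC n _
    haveI : Module.Flat B C := (DRing.TorBalance.hasTorDimLE_zero_iff C).1 hC
    exact Module.Flat.rTensor_exact C (hex n)
  | succ D ih =>
    intro C _ _ hC n hn
    obtain ⟨g, hg⟩ : ∃ g : (C →₀ B) →ₗ[B] C, Function.Surjective g :=
      ⟨_, Finsupp.linearCombination_id_surjective B C⟩
    have hK := (FlatMor.PC.hasTorDimLE_ker_iff g hg D).2 hC
    obtain ⟨n, rfl⟩ : ∃ m, n = m + 1 := ⟨n - 1, by omega⟩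
    intro z
    constructor
    · intro hz
      obtain ⟨z', rfl⟩ := LinearMap.lTensor_surjective (R (n + 1 + 1)) hg z |>.imp fun a h => h
      have h1 : g.lTensor (R (n + 1)) ((d (n + 1)).rTensor (C →₀ B) z') = 0 := by
        rw [← LinearMap.comp_apply, LinearMap.lTensor_comp_rTensor, ← LinearMap.rTensor_comp_lTensor,
          LinearMap.comp_apply]
        exact hz
      obtain ⟨k, hk⟩ := (@Module.Flat.lTensor_exact B (R (n + 1)) _ _ _ _ (LinearMap.ker g) (C →₀ B) C
        (Submodule.addCommGroup _) _ _ _ _ _ (LinearMap.ker g).subtype g (LinearMap.exact_subtype_ker_map g) _).1 h1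
      have h2 : (d n).rTensor (LinearMap.ker g) k = 0 := by
        apply Module.Flat.lTensor_preserves_injective_linearMap (M := R n) (LinearMap.ker g).subtype
          (LinearMap.ker g).injective_subtype
        rw [map_zero, ← LinearMap.comp_apply, LinearMap.lTensor_comp_rTensor, ← LinearMap.rTensor_comp_lTensor,
          LinearMap.comp_apply, hk, ← LinearMap.rTensor_comp_apply, (hex n).linearMap_comp_eq_zero,
          LinearMap.rTensor_zero]
        rfl
      obtain ⟨l, hl⟩ := (ih (LinearMap.ker g) hK n (by omega) k).1 h2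
      have h3 : (d (n + 1)).rTensor (C →₀ B) (z' - (LinearMap.ker g).subtype.lTensor _ l) = 0 := by
        rw [map_sub, sub_eq_zero, ← LinearMap.comp_apply (LinearMap.rTensor _ _) (LinearMap.lTensor _ _),
          LinearMap.rTensor_comp_lTensor, ← LinearMap.lTensor_comp_rTensor, LinearMap.comp_apply, hl, hk]
      obtain ⟨v, hv⟩ := (Module.Flat.rTensor_exact (C →₀ B) (hex (n + 1)) _).1 h3
      refine ⟨g.lTensor _ v, ?_⟩
      rw [← LinearMap.comp_apply, LinearMap.rTensor_comp_lTensor, ← LinearMap.lTensor_comp_rTensor,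
        LinearMap.comp_apply, hv, map_sub, ← LinearMap.lTensor_comp_apply,
        (LinearMap.exact_subtype_ker_map g).linearMap_comp_eq_zero, LinearMap.lTensor_zero]
      exact sub_zero _
    · rintro ⟨v, rfl⟩
      rw [← LinearMap.rTensor_comp_apply, (hex (n + 1)).linearMap_comp_eq_zero, LinearMap.rTensor_zero]
      rfl

/-! ### The complex of divided powers over the Koszul complex -/

section P

variable {A : Type u} [CommRing A] {N : ℕ} (x c : Fin N → A)

abbrev E (A : Type u) [CommRing A] (N : ℕ) : Type u := ExteriorAlgebra A (Fin N → A)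

abbrev P (A : Type u) [CommRing A] (N : ℕ) : Type u := ℕ →₀ E A N

/-- `v ↦ Σ x_j v_j`. -/
noncomputable def dual : Module.Dual A (Fin N → A) := ∑ j, x j • LinearMap.proj j

theorem dual_apply (v : Fin N → A) : dual x v = ∑ j, x j * v j := by simp [dual]

/-- The Koszul differential. -/
noncomputable def delta : E A N →ₗ[A] E A N :=
  CliffordAlgebra.contractLeft (Q := (0 : QuadraticForm A (Fin N → A))) (dual x)

/-- Multiplication by `Σ c_j T_j`. -/
noncomputable def gamma : E A N →ₗ[A] E A N := LinearMap.mulLeft A (ExteriorAlgebra.ι A c)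

theorem delta_delta (w : E A N) : delta x (delta x w) = 0 := CliffordAlgebra.contractLeft_contractLeft _ _

theorem gamma_gamma (w : E A N) : gamma c (gamma c w) = 0 := by
  simp [gamma, ← mul_assoc]

theorem delta_gamma (w : E A N) : delta x (gamma c w) + gamma c (delta x w) = (∑ j, x j * c j) • w := by
  have h := CliffordAlgebra.contractLeft_ι_mul (Q := (0 : QuadraticForm A (Fin N → A))) (d := dual x) c w
  show delta x (ExteriorAlgebra.ι A c * w) + ExteriorAlgebra.ι A c * delta x w = _
  rw [← dual_apply]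
  refine Eq.trans (congrArg (· + ExteriorAlgebra.ι A c * delta x w) h) ?_
  exact sub_add_cancel _ _

/-- `d (S^(i) w) = S^(i-1) (γ w) + S^(i) (δ w)`. -/
noncomputable def dP : P A N →ₗ[A] P A N :=
  Finsupp.lsum A fun i => Finsupp.lsingle i ∘ₗ delta x +
    (match i with
     | 0 => 0
     | i + 1 => Finsupp.lsingle i ∘ₗ gamma c)

/-- `S^(i) w ↦ S^(i-1) w`. -/
noncomputable def shP : P A N →ₗ[A] P A N :=
  Finsupp.lsum A fun i => (match i with
     | 0 => 0
     | i + 1 => Finsupp.lsingle i)

theorem dP_zero (w : E A N) : dP x c (Finsupp.single 0 w) = Finsupp.single 0 (delta x w) := by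
  simp [dP]

theorem dP_succ (i : ℕ) (w : E A N) : dP x c (Finsupp.single (i + 1) w) =
    Finsupp.single (i + 1) (delta x w) + Finsupp.single i (gamma c w) := by
  simp [dP]

theorem shP_zero (w : E A N) : shP (Finsupp.single 0 w : P A N) = 0 := by simp [shP]

theorem shP_succ (i : ℕ) (w : E A N) : shP (Finsupp.single (i + 1) w : P A N) = Finsupp.single i w := by
  simp [shP]

theorem dP_dP (p : P A N) : dP x c (dP x c p) = (∑ j, x j * c j) • shP p := by
  induction p using Finsupp.induction_linear with
  | zero => simp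
  | add a b ha hb => simp [ha, hb, smul_add]
  | single i w =>
    match i with
    | 0 => simp [dP_zero, delta_delta, shP_zero]
    | 1 =>
      simp only [dP_succ, map_add, dP_zero, shP_succ, zero_add, delta_delta, Finsupp.single_zero]
      rw [← Finsupp.single_add, add_comm (gamma c _) (delta x _), delta_gamma, Finsupp.smul_single]
    | i + 2 =>
      simp only [dP_succ, map_add, shP_succ, gamma_gamma, delta_delta, Finsupp.single_zero, zero_add, add_zero]
      rw [← Finsupp.single_add, add_comm (gamma c _) (delta x _), delta_gamma, Finsupp.smul_single]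

/-- The augmentation. -/
noncomputable def augP : P A N →ₗ[A] A :=
  (ExteriorAlgebra.algebraMapInv (R := A) (M := Fin N → A)).toLinearMap ∘ₗ Finsupp.lapply 0

theorem aug_delta [IsLocalRing A] (hx : ∀ j, x j ∈ maximalIdeal A) (w : E A N) :
    ExteriorAlgebra.algebraMapInv (delta x w) ∈ maximalIdeal A := by
  induction w using CliffordAlgebra.left_induction with
  | algebraMap r =>
    rw [delta, CliffordAlgebra.contractLeft_algebraMap, map_zero]
    exact zero_mem _
  | add a b ha hb => rw [map_add, map_add]; exact add_mem ha hb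
  | ι_mul b v hb =>
    rw [delta, CliffordAlgebra.contractLeft_ι_mul, map_sub, map_smul, map_mul, smul_eq_mul]
    refine sub_mem (Ideal.mul_mem_right _ _ ?_) ?_
    · rw [dual_apply]
      exact Ideal.sum_mem _ fun j _ => Ideal.mul_mem_right _ _ (hx j)
    · rw [show ExteriorAlgebra.algebraMapInv (CliffordAlgebra.ι (0 : QuadraticForm A (Fin N → A)) v) = 0 by
        simp [ExteriorAlgebra.algebraMapInv], zero_mul]
      exact zero_mem _

theorem aug_dP [IsLocalRing A] (hx : ∀ j, x j ∈ maximalIdeal A) (p : P A N) :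
    augP (dP x c p) ∈ maximalIdeal A := by
  induction p using Finsupp.induction_linear with
  | zero => simp
  | add a b ha hb => rw [map_add, map_add]; exact add_mem ha hb
  | single i w =>
    match i with
    | 0 => simpa [dP_zero, augP] using aug_delta x hx w
    | 1 =>
      rw [dP_succ, map_add]
      simp [augP, gamma, ExteriorAlgebra.algebraMapInv]
    | i + 2 =>
      rw [dP_succ, map_add]
      simp [augP]

instance : Module.Projective A (P A N) :=
  haveI : Module.Free A (E A N) := Module.Free.of_basis (Pi.basisFun A (Fin N)).ExteriorAlgebra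
  inferInstance

end P

/-! ### The lifted resolution -/

section Res

variable {A : Type u} [CommRing A] [IsLocalRing A] (f : A)

/-- Indices and cycles (modulo `f`) of the lifted resolution of the residue field. -/
noncomputable def st : ℕ → Σ ι : Type u, Submodule A (ι →₀ A)
  | 0 => ⟨PUnit.{u + 1}, (maximalIdeal A) • ⊤⟩
  | n + 1 => ⟨(st n).2, (LinearMap.range (f • (LinearMap.id : ((st n).1 →₀ A) →ₗ[A] _))).comap
      (Finsupp.linearCombination A fun k : (st n).2 => (k : (st n).1 →₀ A))⟩

noncomputable abbrev R (n : ℕ) : Type u := (st f n).1 →₀ A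

noncomputable abbrev K (n : ℕ) : Submodule A (R f n) := (st f n).2

/-- The lifted differential. -/
noncomputable def d (n : ℕ) : R f (n + 1) →ₗ[A] R f n :=
  Finsupp.linearCombination A fun k : (st f n).2 => (k : R f n)

theorem range_d (n : ℕ) : LinearMap.range (d f n) = K f n :=
  (Finsupp.range_linearCombination A).trans
    ((congrArg (Submodule.span A) Subtype.range_coe_subtype).trans (Submodule.span_eq _))

theorem mem_K_succ (n : ℕ) (z : R f (n + 1)) : z ∈ K f (n + 1) ↔ ∃ w, d f n z = f • w :=
  ⟨fun ⟨w, hw⟩ => ⟨w, hw.symm⟩, fun ⟨w, hw⟩ => ⟨w, hw.symm⟩⟩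

theorem smul_mem_K (hf : f ∈ maximalIdeal A) (n : ℕ) (w : R f n) : f • w ∈ K f n := by
  match n with
  | 0 => exact (Submodule.smul_mem_smul hf trivial : f • w ∈ maximalIdeal A • (⊤ : Submodule A (R f 0)))
  | n + 1 => exact (mem_K_succ f n _).2 ⟨d f n w, map_smul _ _ _⟩

theorem d_d (n : ℕ) (z : R f (n + 2)) : ∃ w, d f n (d f (n + 1) z) = f • w :=
  (mem_K_succ f n _).1 ((range_d f (n + 1)).le ⟨z, rfl⟩)

theorem exists_t (n : ℕ) : ∃ t : R f (n + 2) →ₗ[A] R f n, ∀ z, d f n (d f (n + 1) z) = f • t z := by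
  choose w hw using d_d f n
  refine ⟨Finsupp.linearCombination A fun i => w (Finsupp.single i 1), fun z => ?_⟩
  induction z using Finsupp.induction_linear with
  | zero => simp
  | add a b ha hb => simp [ha, hb, smul_add]
  | single i a =>
    rw [Finsupp.linearCombination_single, show Finsupp.single i a = a • Finsupp.single i (1 : A) by simp,
      map_smul, map_smul, hw, smul_comm]

theorem exists_lift {M : Type u} [AddCommGroup M] [Module A M] [Module.Projective A M] (n : ℕ)
    (g : M →ₗ[A] R f n) (hg : ∀ m, g m ∈ K f n) : ∃ h : M →ₗ[A] R f (n + 1), ∀ m, d f n (h m) = g m := by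
  let d' : R f (n + 1) →ₗ[A] K f n := (d f n).codRestrict _ fun z => (range_d f n).le ⟨z, rfl⟩
  have hd' : Function.Surjective d' := fun k => by
    obtain ⟨z, hz⟩ := (range_d f n).ge k.2
    exact ⟨z, Subtype.ext hz⟩
  obtain ⟨h, hh⟩ := Module.projective_lifting_property d' (g.codRestrict _ hg) hd'
  exact ⟨h, fun m => congrArg Subtype.val (LinearMap.congr_fun hh m)⟩

/-- Reduced coordinates. -/
theorem mem_smul_top_of_forall {ι : Type u} (I : Ideal A) (z : ι →₀ A) (h : ∀ i, z i ∈ I) :
    z ∈ I • (⊤ : Submodule A (ι →₀ A)) := by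
  rw [← z.sum_single]
  refine Submodule.sum_mem _ fun i _ => ?_
  rw [show Finsupp.single i (z i) = z i • Finsupp.single i (1 : A) by simp]
  exact Submodule.smul_mem_smul (h i) trivial

theorem forall_of_mem_smul_top {ι : Type u} (I : Ideal A) (z : ι →₀ A)
    (h : z ∈ I • (⊤ : Submodule A (ι →₀ A))) (i : ι) : z i ∈ I := by
  refine Submodule.smul_induction_on h (fun r hr w _ => ?_) fun a b ha hb => add_mem ha hb
  exact Ideal.mul_mem_right _ _ hr

theorem map_smul_top {M M' : Type u} [AddCommGroup M] [Module A M] [AddCommGroup M'] [Module A M']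
    (g : M →ₗ[A] M') (I : Ideal A) {z : M} (h : z ∈ I • (⊤ : Submodule A M)) :
    g z ∈ I • (⊤ : Submodule A M') :=
  Submodule.smul_top_le_comap_smul_top I g h

end Res

/-! ### The key lemma -/

set_option maxHeartbeats 2000000 in
/-- Avramov's lemma for a socle element. -/
theorem key {A B : Type u} [CommRing A] [IsLocalRing A] [CommRing B] (π : A →+* B)
    (hπ : Function.Surjective π) (f : A) (hker : RingHom.ker π = Ideal.span {f})
    (hfm : ∀ y, f * y = 0 ↔ y ∈ maximalIdeal A) (J : Ideal A) (hfJ : f ∈ maximalIdeal A * J)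
    (hJ : J ≤ maximalIdeal A)
    (D : ℕ) (hD : DRing.HasTorDimLE B D (B ⧸ J.map π)) : False := by
  classical
  let m := maximalIdeal A
  have hfJ' : f ∈ J := Ideal.mul_le_right hfJ
  have hf : f ∈ m := hJ hfJ'
  -- `f = Σ x_j c_j`
  obtain ⟨N, x, c, hx, hc, hfsum⟩ : ∃ (N : ℕ) (x c : Fin N → A), (∀ j, x j ∈ m) ∧ (∀ j, c j ∈ J) ∧
      ∑ j, x j * c j = f := by
    refine Submodule.mul_induction_on hfJ (fun a ha b hb => ?_) ?_
    · exact ⟨1, fun _ => a, fun _ => b, fun _ => ha, fun _ => hb, by simp⟩
    · rintro a b ⟨N, x, c, h1, h2, rfl⟩ ⟨N', x', c', h1', h2', rfl⟩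
      refine ⟨N + N', Fin.append x x', Fin.append c c', ?_, ?_, ?_⟩
      · exact fun j => Fin.addCases (fun i => by simpa using h1 i) (fun i => by simpa using h1' i) j
      · exact fun j => Fin.addCases (fun i => by simpa using h2 i) (fun i => by simpa using h2' i) j
      · rw [Fin.sum_univ_add]; simp
  choose t ht using exists_t f
  -- `f`-torsion
  have htors : ∀ {ι : Type u} (z : ι →₀ A), f • z = 0 → z ∈ m • (⊤ : Submodule A (ι →₀ A)) := by
    intro ι z hz
    exact mem_smul_top_of_forall _ _ fun i => (hfm _).1 (by simpa using DFunLike.congr_fun hz i)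
  -- the comparison map
  let φ0 : P A N →ₗ[A] R f 0 := Finsupp.lsingle PUnit.unit ∘ₗ augP
  have hφ0 : ∀ p, φ0 (dP x c p) ∈ K f 0 := fun p => by
    refine mem_smul_top_of_forall _ _ fun i => ?_
    obtain rfl : i = PUnit.unit := Subsingleton.elim _ _
    show (Finsupp.single PUnit.unit (augP (dP x c p)) : PUnit.{u + 1} →₀ A) PUnit.unit ∈ m
    rw [Finsupp.single_eq_same]
    exact aug_dP x c hx p
  let Cmp (n : ℕ) : Type u := {g : P A N →ₗ[A] R f n // ∀ p, g (dP x c p) ∈ K f n}
  have hstep : ∀ n (g : Cmp n), ∃ h : Cmp (n + 1), ∀ p, ∃ w, d f n (h.1 p) = g.1 (dP x c p) + f • w := by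
    intro n g
    obtain ⟨h, hh⟩ := exists_lift f n (g.1 ∘ₗ dP x c) g.2
    refine ⟨⟨h, fun p => (mem_K_succ f n _).2 ⟨g.1 (shP p), ?_⟩⟩, fun p => ⟨0, by simp [hh p]⟩⟩
    rw [hh (dP x c p), LinearMap.comp_apply, dP_dP, hfsum, map_smul]
  choose next hnext using hstep
  let φ : ∀ n, Cmp n := fun n => Nat.rec ⟨φ0, hφ0⟩ next n
  have hφ : ∀ n p, ∃ w, d f n ((φ (n + 1)).1 p) = (φ n).1 (dP x c p) + f • w := fun n => hnext n (φ n)
  choose ψ hψ using hφ
  -- the operator commutes with the differential modulo `m`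
  have htd : ∀ n (z : R f (n + 3)), t n (d f (n + 2) z) - d f n (t (n + 1) z) ∈ m • (⊤ : Submodule A (R f n)) := by
    intro n z
    refine htors _ ?_
    rw [smul_sub, ← map_smul (d f n), ← ht, ← ht, sub_self]
  have hcomm : ∀ n p, t n ((φ (n + 2)).1 p) - ((φ n).1 (shP p) + ψ n (dP x c p) + d f n (ψ (n + 1) p)) ∈
      m • (⊤ : Submodule A (R f n)) := by
    intro n p
    refine htors _ ?_
    rw [smul_sub, ← ht, hψ (n + 1) p, map_add, hψ n, dP_dP, hfsum, map_smul, map_smul, smul_add, smul_add,
      sub_self]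
  -- the iterated operator
  let ε : R f 0 →ₗ[A] A := Finsupp.lapply PUnit.unit
  let T : ∀ k, R f (2 * k) →ₗ[A] A := fun k => Nat.rec (motive := fun k => R f (2 * k) →ₗ[A] A) ε
    (fun k Tk => Tk ∘ₗ t (2 * k)) k
  have hTd : ∀ k (z : R f (2 * k + 1)), T k (d f (2 * k) z) ∈ m := by
    intro k
    induction k with
    | zero =>
      intro z
      exact forall_of_mem_smul_top _ _ ((range_d f 0).le ⟨z, rfl⟩) _
    | succ k ih =>
      intro z
      show T k (t (2 * k) (d f (2 * k + 2) z)) ∈ m
      rw [← sub_add_cancel (t (2 * k) (d f (2 * k + 2) z)) (d f (2 * k) (t (2 * k + 1) z)), map_add]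
      refine add_mem ?_ (ih _)
      simpa using map_smul_top (T k) m (htd (2 * k) z)
  let z : ℕ → P A N := fun n => Finsupp.single n 1
  have hzd : ∀ n, dP x c (z n) ∈ J • (⊤ : Submodule A (P A N)) := by
    intro n
    have hι : ExteriorAlgebra.ι A c ∈ J • (⊤ : Submodule A (E A N)) :=
      map_smul_top (ExteriorAlgebra.ι A) J (by
        rw [show c = ∑ j, c j • (Pi.single j (1 : A) : Fin N → A) by
          funext i; simp [Pi.single_apply]]
        exact Submodule.sum_mem _ fun j _ => Submodule.smul_mem_smul (hc j) trivial)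
    cases n with
    | zero => simp [z, dP_zero, delta]
    | succ n =>
      show dP x c (Finsupp.single (n + 1) 1) ∈ _
      rw [dP_succ, delta, CliffordAlgebra.contractLeft_one, Finsupp.single_zero, zero_add]
      simpa [gamma] using map_smul_top (Finsupp.lsingle n : E A N →ₗ[A] P A N) J hι
  have hT : ∀ k, T k ((φ (2 * k)).1 (z k)) - 1 ∈ m := by
    intro k
    induction k with
    | zero =>
      show (Finsupp.single PUnit.unit (augP (z 0)) : PUnit.{u + 1} →₀ A) PUnit.unit - 1 ∈ m
      rw [Finsupp.single_eq_same]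
      simp [z, augP]
    | succ k ih =>
      show T k (t (2 * k) ((φ (2 * k + 2)).1 (z (k + 1)))) - 1 ∈ m
      have h := map_smul_top (T k) m (hcomm (2 * k) (z (k + 1)))
      rw [map_sub, map_add, map_add, smul_eq_mul, Ideal.mul_top] at h
      rw [show shP (z (k + 1)) = z k from shP_succ k 1] at h
      have h2 : T k (ψ (2 * k) (dP x c (z (k + 1)))) ∈ m := by
        -- `ψ` is determined modulo `m` by a linear map
        have hlin : ∀ (J' : Ideal A), J' ≤ m → ∀ p ∈ J' • (⊤ : Submodule A (P A N)),
            ψ (2 * k) p ∈ m • (⊤ : Submodule A (R f (2 * k))) := by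
          intro J' hJ' p hp
          refine Submodule.smul_induction_on hp (fun r hr w _ => ?_) fun a b ha hb => ?_
          · have h1 : ψ (2 * k) (r • w) - r • ψ (2 * k) w ∈ m • (⊤ : Submodule A (R f (2 * k))) := by
              refine htors _ ?_
              have e1 := hψ (2 * k) (r • w)
              have e2 := hψ (2 * k) w
              rw [map_smul, map_smul, e2, map_smul, map_smul, smul_add, add_right_inj] at e1
              rw [smul_sub, ← e1, smul_comm, sub_self]
            rw [← sub_add_cancel (ψ (2 * k) (r • w)) (r • ψ (2 * k) w)]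
            exact add_mem h1 (Submodule.smul_mem_smul (hJ' hr) trivial)
          · have h1 : ψ (2 * k) (a + b) - (ψ (2 * k) a + ψ (2 * k) b) ∈
                m • (⊤ : Submodule A (R f (2 * k))) := by
              refine htors _ ?_
              have e := hψ (2 * k) (a + b)
              simp only [map_add, hψ (2 * k) a, hψ (2 * k) b] at e
              have e' : f • ψ (2 * k) (a + b) = f • ψ (2 * k) a + f • ψ (2 * k) b := by
                rw [add_add_add_comm, add_right_inj] at e
                exact e.symm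
              rw [smul_sub, smul_add, e', sub_self]
            rw [← sub_add_cancel (ψ (2 * k) (a + b)) (ψ (2 * k) a + ψ (2 * k) b)]
            exact add_mem h1 (add_mem ha hb)
        simpa using map_smul_top (T k) m (hlin J hJ _ (hzd (k + 1)))
      have h3 := add_mem (add_mem (add_mem h h2) (hTd k (ψ (2 * k + 1) (z (k + 1))))) ih
      convert h3 using 1
      ring
  -- over `B`
  letI : Algebra A B := π.toAlgebra
  let RB : ℕ → Type u := fun n => (st f n).1 →₀ B
  let red : ∀ n, R f n →ₗ[A] RB n := fun n => Finsupp.mapRange.linearMap (Algebra.linearMap A B)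
  let dB : ∀ n, RB (n + 1) →ₗ[B] RB n := fun n =>
    Finsupp.linearCombination B fun k : (st f n).2 => red n (k : R f n)
  have hred : ∀ n z, dB n (red (n + 1) z) = red n (d f n z) := by
    intro n z
    induction z using Finsupp.induction_linear with
    | zero => simp
    | add a b ha hb => simp [ha, hb]
    | single i a =>
      show Finsupp.linearCombination B _ (Finsupp.mapRange (algebraMap A B) (map_zero _) (Finsupp.single i a)) =
        red n (Finsupp.linearCombination A _ (Finsupp.single i a))
      rw [Finsupp.mapRange_single]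
      refine (Finsupp.linearCombination_single B _ _).trans ?_
      refine Eq.trans ?_ (congrArg (red n) (Finsupp.linearCombination_single A _ _).symm)
      rw [map_smul]
      exact algebraMap_smul B a _
  have hsurj : ∀ n, Function.Surjective (red n) := fun n => Finsupp.mapRange_surjective (algebraMap A B) (map_zero _) hπ
  have hred0 : ∀ n z, red n z = 0 ↔ ∃ w, z = f • w := by
    intro n z
    constructor
    · intro hz
      have hi : ∀ i, ∃ a, z i = f * a := fun i => by
        have h1 : z i ∈ RingHom.ker π := DFunLike.congr_fun hz i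
        rw [hker, Ideal.mem_span_singleton'] at h1
        obtain ⟨a, ha⟩ := h1
        exact ⟨a, by rw [← ha, mul_comm]⟩
      choose a ha using hi
      refine ⟨Finsupp.onFinset z.support (fun i => if i ∈ z.support then a i else 0) (by intro i; simp_all),
        Finsupp.ext fun i => ?_⟩
      by_cases hi : i ∈ z.support
      · simp [hi, ← ha]
      · simp [Finsupp.notMem_support_iff.1 hi]
    · rintro ⟨w, rfl⟩
      ext i
      show π (f * w i) = 0
      rw [map_mul, show π f = 0 from RingHom.mem_ker.1 (hker.ge (Ideal.mem_span_singleton_self f)), zero_mul]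
  have hexB : ∀ n, Function.Exact (dB (n + 1)) (dB n) := by
    intro n zb
    obtain ⟨zz, rfl⟩ := hsurj (n + 1) zb
    rw [hred, hred0]
    constructor
    · intro h
      obtain ⟨w, hw⟩ := (range_d f (n + 1)).ge ((mem_K_succ f n zz).2 h)
      exact ⟨red _ w, by rw [hred, hw]⟩
    · rintro ⟨wb, hwb⟩
      obtain ⟨w, rfl⟩ := hsurj _ wb
      rw [hred, ← sub_eq_zero, ← map_sub, hred0] at hwb
      obtain ⟨v, hv⟩ := hwb
      obtain ⟨u, hu⟩ := d_d f n w
      refine ⟨u - d f n v, ?_⟩
      rw [smul_sub, ← hu, ← map_smul (d f n), ← hv, ← map_sub, sub_sub_cancel]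
  have hH := exact_rTensor_of_torDim dB hexB D (B ⧸ J.map π) hD
  let y : R f (2 * (D + 1)) := (φ (2 * (D + 1))).1 (z (D + 1))
  -- reductions modulo `J`
  have hq : ∀ n (w : R f n), (red n w) ⊗ₜ[B] (1 : B ⧸ J.map π) = 0 ↔ w ∈ J • (⊤ : Submodule A (R f n)) := by
    intro n w
    have key : ∀ i, TensorProduct.finsuppScalarLeft B (B ⧸ J.map π) (st f n).1 (red n w ⊗ₜ[B] 1) i =
        Ideal.Quotient.mk (J.map π) (π (w i)) := fun i => by
      refine (TensorProduct.finsuppScalarLeft_apply_tmul_apply _ _ _).trans ?_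
      show π (w i) • (1 : B ⧸ J.map π) = _
      rw [Algebra.smul_def, mul_one]
      rfl
    rw [← (TensorProduct.finsuppScalarLeft B (B ⧸ J.map π) (st f n).1).map_eq_zero_iff]
    constructor
    · intro h
      refine mem_smul_top_of_forall _ _ fun i => ?_
      have h1 := (key i).symm.trans (DFunLike.congr_fun h i)
      rw [Finsupp.zero_apply, Ideal.Quotient.eq_zero_iff_mem, ← Ideal.mem_comap,
        Ideal.comap_map_of_surjective' π hπ, hker] at h1
      exact sup_le le_rfl ((Ideal.span_singleton_le_iff_mem _).2 hfJ') h1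
    · intro h
      refine Finsupp.ext fun i => (key i).trans ?_
      rw [Finsupp.zero_apply, Ideal.Quotient.eq_zero_iff_mem]
      exact Ideal.mem_map_of_mem π (forall_of_mem_smul_top _ _ h i)
  have hy : d f (2 * D + 1) y ∈ J • (⊤ : Submodule A (R f (2 * D + 1))) := by
    show d f (2 * D + 1) ((φ (2 * D + 1 + 1)).1 (z (D + 1))) ∈ _
    rw [hψ]
    exact add_mem (map_smul_top _ J (hzd (D + 1))) (Submodule.smul_mem_smul hfJ' trivial)
  have hy' : (dB (2 * D + 1)).rTensor (B ⧸ J.map π) (red (2 * D + 2) y ⊗ₜ[B] 1) = 0 := by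
    rw [LinearMap.rTensor_tmul, hred, hq]
    exact hy
  obtain ⟨v, hv⟩ := (hH (2 * D + 1) (by omega) _).1 hy'
  obtain ⟨v', rfl⟩ : ∃ v', red (2 * D + 3) v' ⊗ₜ[B] (1 : B ⧸ J.map π) = v := by
    clear hv
    induction v using TensorProduct.induction_on with
    | zero => exact ⟨0, by simp⟩
    | tmul a b =>
      obtain ⟨b, rfl⟩ := Ideal.Quotient.mk_surjective b
      obtain ⟨a', ha'⟩ := hsurj _ (b • a)
      refine ⟨a', ?_⟩
      rw [ha', TensorProduct.smul_tmul, Algebra.smul_def, mul_one]
      rfl
    | add a b ha hb =>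
      obtain ⟨a', ha'⟩ := ha
      obtain ⟨b', hb'⟩ := hb
      exact ⟨a' + b', by rw [map_add, TensorProduct.add_tmul, ha', hb']⟩
  rw [LinearMap.rTensor_tmul, hred, ← sub_eq_zero, ← TensorProduct.sub_tmul, ← map_sub, hq] at hv
  have h1 : T (D + 1) (d f (2 * (D + 1)) v' - y) ∈ m := by
    have h1 := map_smul_top (T (D + 1)) J hv
    rw [smul_eq_mul, Ideal.mul_top] at h1
    exact hJ h1
  have h2 := hT (D + 1)
  have h3 := sub_mem (sub_mem (hTd (D + 1) v') h1) h2
  rw [map_sub] at h3
  rw [sub_sub_cancel, sub_sub_cancel] at h3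
  exact (maximalIdeal.isMaximal A).ne_top ((Ideal.eq_top_iff_one _).2 h3)

/-- Avramov's lemma. -/
theorem mem_maximal_mul {A : Type u} [CommRing A] [IsNoetherianRing A] [IsLocalRing A]
    (I J : Ideal A) (hIJ : I ≤ J) (hJ : J ≠ ⊤) [Algebra (A ⧸ I) (A ⧸ J)]
    [IsScalarTower A (A ⧸ I) (A ⧸ J)] (hfd : DRing.HasFiniteTorDim (A ⧸ I) (A ⧸ J))
    (x : A) (hx : x ∈ I) (hxm : x ∈ maximalIdeal A * J) : x ∈ maximalIdeal A * I := by
  by_contra hxn
  obtain ⟨D, hD⟩ := hfd
  obtain ⟨I', ⟨hmI, hI'I, hxI'⟩, hmax⟩ := set_has_maximal_iff_noetherian.2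
    (inferInstance : IsNoetherian A A) {I' | maximalIdeal A * I ≤ I' ∧ I' ≤ I ∧ x ∉ I'}
    ⟨_, le_rfl, Ideal.mul_le_right, hxn⟩
  have hmJ := le_maximalIdeal hJ
  have hspan : I ≤ I' ⊔ Ideal.span {x} := by
    intro y hy
    by_contra hyn
    have hyI' : y ∉ I' := fun h => hyn (Ideal.mem_sup_left h)
    have hlt : I' < I' ⊔ Ideal.span {y} :=
      lt_of_le_not_ge le_sup_left fun h => hyI' (h (Ideal.mem_sup_right (Ideal.mem_span_singleton_self y)))
    by_cases hxy : x ∈ I' ⊔ Ideal.span {y}
    · obtain ⟨i, hi, w, hw, hsum⟩ := Submodule.mem_sup.1 hxy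
      obtain ⟨r, rfl⟩ := Ideal.mem_span_singleton'.1 hw
      by_cases hr : r ∈ maximalIdeal A
      · exact hxI' (hsum ▸ add_mem hi (hmI (Ideal.mul_mem_mul hr hy)))
      · refine hyn ((Ideal.unit_mul_mem_iff_mem _ (IsLocalRing.notMem_maximalIdeal.1 hr)).1 ?_)
        rw [show r * y = x - i by rw [← hsum]; ring]
        exact sub_mem (Ideal.mem_sup_right (Ideal.mem_span_singleton_self x)) (Ideal.mem_sup_left hi)
    · exact hmax _ ⟨hmI.trans le_sup_left, sup_le hI'I ((Ideal.span_singleton_le_iff_mem _).2 hy), hxy⟩ hlt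
  let A' := A ⧸ I'
  have hI'm : I' ≤ maximalIdeal A := hI'I.trans (hIJ.trans hmJ)
  haveI : Nontrivial A' := Ideal.Quotient.nontrivial_iff.2
    fun h => (maximalIdeal.isMaximal A).ne_top (top_le_iff.1 (h ▸ hI'm))
  haveI : IsLocalRing A' := IsLocalRing.of_surjective' (Ideal.Quotient.mk I') Ideal.Quotient.mk_surjective
  have hm' : maximalIdeal A' = (maximalIdeal A).map (Ideal.Quotient.mk I') :=
    (IsLocalRing.map_maximalIdeal_of_surjective _ Ideal.Quotient.mk_surjective).symm
  refine key (Ideal.Quotient.factor hI'I) (Ideal.Quotient.factor_surjective hI'I) (Ideal.Quotient.mk I' x) ?_ ?_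
    (J.map (Ideal.Quotient.mk I')) ?_ ?_ D ?_
  · rw [Ideal.Quotient.factor_ker hI'I]
    refine le_antisymm (Ideal.map_le_iff_le_comap.2 ?_)
      ((Ideal.span_singleton_le_iff_mem _).2 (Ideal.mem_map_of_mem _ hx))
    intro y hy
    obtain ⟨i, hi, w, hw, rfl⟩ := Submodule.mem_sup.1 (hspan hy)
    rw [Ideal.mem_comap, map_add, Ideal.Quotient.eq_zero_iff_mem.2 hi, zero_add]
    obtain ⟨r, rfl⟩ := Ideal.mem_span_singleton'.1 hw
    rw [map_mul]
    exact Ideal.mul_mem_left _ _ (Ideal.mem_span_singleton_self _)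
  · intro y
    obtain ⟨r, rfl⟩ := Ideal.Quotient.mk_surjective y
    rw [← map_mul, Ideal.Quotient.eq_zero_iff_mem, hm']
    constructor
    · intro h
      refine Ideal.mem_map_of_mem _ ?_
      by_contra hr
      exact hxI' ((Ideal.unit_mul_mem_iff_mem _ (IsLocalRing.notMem_maximalIdeal.1 hr)).1 (mul_comm x r ▸ h))
    · intro h
      rw [← Ideal.mem_comap, Ideal.comap_map_quotientMk, sup_eq_right.2 hI'm] at h
      exact hmI (mul_comm r x ▸ Ideal.mul_mem_mul h hx)
  · rw [hm', ← Ideal.map_mul]
    exact Ideal.mem_map_of_mem _ hxm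
  · rw [hm']
    exact Ideal.map_mono hmJ
  · refine FlatMor.PC.hasTorDimLE_congr ?_ hD
    rw [Ideal.map_map, Ideal.Quotient.factor_comp_mk]
    let e : (A ⧸ J) ≃+* ((A ⧸ I) ⧸ J.map (Ideal.Quotient.mk I)) := (DoubleQuot.quotQuotEquivQuotOfLE hIJ).symm
    exact
      { toFun := e
        invFun := e.symm
        left_inv := e.left_inv
        right_inv := e.right_inv
        map_add' := e.map_add
        map_smul' := fun r a => by
          obtain ⟨r, rfl⟩ := Ideal.Quotient.mk_surjective r
          obtain ⟨a, rfl⟩ := Ideal.Quotient.mk_surjective a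
          have h1 : (Ideal.Quotient.mk I r) • Ideal.Quotient.mk J a = Ideal.Quotient.mk J (r * a) := by
            rw [show Ideal.Quotient.mk I r = algebraMap A (A ⧸ I) r from rfl, algebraMap_smul, Algebra.smul_def,
              map_mul]
            rfl
          rw [h1]
          rfl }

end Groth.Agent.CInt77.Avramov
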