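import Groth.Agent.CInt77.Avramov
import Groth.Agent.EGA4Lib.CplFlat
import Groth.Agent.S2053
import Groth.Agent.Nagata.CohenMap
import Groth.Agent.PSLoc.Basic
import Mathlib.RingTheory.TensorProduct.Quotient

/-!
# Avramov's theorem
-/

set_option autoImplicit false
set_option linter.style.haveILetI false

universe u

open IsLocalRing
open scoped TensorProduct

namespace Groth.Agent.CInt77

theorem isRegular_powerSeries (Λ : Type u) [CommRing Λ] (h : IsField Λ ∨ CAlg.IsCohenRing Λ) (n : ℕ) :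
    IsRegularLocalRing (MvPowerSeries (Fin n) Λ) := by
  rcases h with hF | ⟨_, _, -, p, hp, hm⟩
  · let := hF.toField
    exact PSLoc.isRegularLocalRing Λ n
  · refine (Nagata.CohenMap.regular_powerSeries (e := 1) ?_ hm (by omega) n).1
    exact_mod_cast (IsPrincipalIdealRing.ringKrullDim_eq_one Λ (IsDiscreteValuationRing.not_isField Λ)).ge

/-- Avramov's theorem for complete local rings. -/
theorem avramov_complete (A B : Type u) [CommRing A] [CommRing B] [IsLocalRing A] [IsLocalRing B]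
    [IsNoetherianRing A] [IsNoetherianRing B] [IsAdicComplete (maximalIdeal A) A]
    [IsAdicComplete (maximalIdeal B) B] [Algebra A B] [IsLocalHom (algebraMap A B)] [Module.Flat A B]
    [IsLocalRing (B ⧸ EGA4.mB A B)] :
    Pi1.IsCompleteIntersection B ↔
      (Pi1.IsCompleteIntersection A ∧ Pi1.IsCompleteIntersection (B ⧸ EGA4.mB A B)) := by
  obtain ⟨Λ, Λ', _, _, _, n, m, ρ, σ, τ, hcase, hρ, hσ, hsq, hτ, hreg⟩ :=
    S2053.result (A := A) (B := B)
  let R := MvPowerSeries (Fin n) Λ
  let S := MvPowerSeries (Fin m) Λ'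
  haveI : IsRegularLocalRing R := isRegular_powerSeries Λ (hcase.imp (fun h => h.2.1) (fun h => h.2.1)) n
  haveI : IsRegularLocalRing S := isRegular_powerSeries Λ' (hcase.imp (fun h => h.2.2) (fun h => h.2.2)) m
  haveI : IsLocalHom ρ := IsLocalHom.of_surjective ρ hρ
  haveI : IsLocalHom σ := IsLocalHom.of_surjective σ hσ
  letI : Algebra R S := τ.toAlgebra
  haveI : IsLocalHom (algebraMap R S) := ⟨fun x hx => by
    have h1 : IsUnit (σ (τ x)) := hx.map σ
    rw [show σ (τ x) = algebraMap A B (ρ x) from RingHom.congr_fun hsq x] at h1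
    exact IsLocalHom.map_nonunit x (IsLocalHom.map_nonunit _ h1)⟩
  haveI : Module.Flat R S := hτ
  have hmS : EGA4.mB R S ≤ maximalIdeal S := IsLocalRing.map_maximalIdeal_le (algebraMap R S)
  haveI : IsRegularLocalRing (EGA4.FibRing R S) := by
    haveI : IsRegularRing (EGA4.FibRing R S) := hreg
    haveI : Nontrivial (EGA4.FibRing R S) :=
      Ideal.Quotient.nontrivial_iff.2 (ne_top_of_le_ne_top (maximalIdeal.isMaximal S).ne_top hmS)
    haveI : IsLocalRing (EGA4.FibRing R S) :=
      IsLocalRing.of_surjective' (Ideal.Quotient.mk _) Ideal.Quotient.mk_surjective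
    exact IsRegularLocalRing.of_isRegularRing_of_isLocalRing _
  let I := RingHom.ker ρ
  let J := RingHom.ker σ
  have hIJ : I.map (algebraMap R S) ≤ J := Ideal.map_le_iff_le_comap.2 fun x (hx : ρ x = 0) => by
    show σ (τ x) = 0
    rw [show σ (τ x) = algebraMap A B (ρ x) from RingHom.congr_fun hsq x, hx, map_zero]
  let eρ : R ⧸ I ≃+* A := RingHom.quotientKerEquivOfSurjective hρ
  let eσ : S ⧸ J ≃+* B := RingHom.quotientKerEquivOfSurjective hσ
  let q : R ⧸ I →+* S ⧸ J := eσ.symm.toRingHom.comp ((algebraMap A B).comp eρ.toRingHom)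
  letI : Algebra (R ⧸ I) (S ⧸ J) := q.toAlgebra
  haveI : IsScalarTower R (R ⧸ I) (S ⧸ J) :=
    IsScalarTower.of_algebraMap_eq (R := R) (S := R ⧸ I) (A := S ⧸ J) fun x => by
    show Ideal.Quotient.mk J (τ x) = eσ.symm (algebraMap A B (eρ (Ideal.Quotient.mk I x)))
    rw [RingEquiv.eq_symm_apply]
    exact RingHom.congr_fun hsq x
  haveI : Module.Flat (R ⧸ I) (S ⧸ J) :=
    RingHom.Flat.comp (RingHom.Flat.comp (RingHom.Flat.of_bijective eρ.bijective)
      (RingHom.flat_algebraMap_iff.2 inferInstance)) (RingHom.Flat.of_bijective eσ.symm.bijective)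
  haveI : IsLocalRing (R ⧸ I) := eρ.symm.isLocalRing
  haveI : IsLocalRing (S ⧸ J) := eσ.symm.isLocalRing
  have hker : (EGA4.mB R S).map σ = EGA4.mB A B := by
    show ((maximalIdeal R).map τ).map σ = (maximalIdeal A).map (algebraMap A B)
    rw [Ideal.map_map, hsq, ← Ideal.map_map, IsLocalRing.map_maximalIdeal_of_surjective ρ hρ]
  let π : S →+* B ⧸ EGA4.mB A B := (Ideal.Quotient.mk _).comp σ
  have hπ : Function.Surjective π := Ideal.Quotient.mk_surjective.comp hσ
  have hkπ : RingHom.ker π = J ⊔ EGA4.mB R S := by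
    rw [← RingHom.comap_ker, Ideal.mk_ker, ← hker, Ideal.comap_map_of_surjective σ hσ, ← RingHom.ker_eq_comap_bot,
      sup_comm]
  let eπ : S ⧸ (J ⊔ EGA4.mB R S) ≃+* B ⧸ EGA4.mB A B :=
    (Ideal.quotEquivOfEq hkπ.symm).trans (RingHom.quotientKerEquivOfSurjective hπ)
  haveI : IsLocalRing (S ⧸ (J ⊔ EGA4.mB R S)) := eπ.symm.isLocalRing
  rw [← CIntCI.isCI_iff_of_ringEquiv eσ, ← CIntCI.isCI_iff_of_ringEquiv eρ,
    ← CIntCI.isCI_iff_of_ringEquiv eπ]
  exact core I J (RingHom.ker_ne_top σ) hIJ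

/-- Avramov's theorem. -/
theorem avramov (A B : Type u) [CommRing A] [CommRing B] [IsNoetherianRing A] [IsNoetherianRing B]
    [IsLocalRing A] [IsLocalRing B] [Algebra A B] [IsLocalHom (algebraMap A B)] [Module.Flat A B]
    [IsLocalRing (B ⧸ EGA4.mB A B)] :
    Pi1.IsCompleteIntersection B ↔
      (Pi1.IsCompleteIntersection A ∧ Pi1.IsCompleteIntersection (B ⧸ EGA4.mB A B)) := by
  let Ah := AdicCompletion (maximalIdeal A) A
  let Bh := AdicCompletion (maximalIdeal B) B
  haveI : IsNoetherianRing Ah := RegLoc.Completion.isNoetherianRing_adicCompletion' _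
  haveI : IsNoetherianRing Bh := RegLoc.Completion.isNoetherianRing_adicCompletion' _
  obtain ⟨_, _, _⟩ := EGA4Lib.exists_algebra_cpl A B
  haveI : Module.Flat Ah Bh := EGA4Lib.flat_cpl A B
  have hm : EGA4.mB Ah Bh = (EGA4.mB A B).map (algebraMap B Bh) := by
    show (maximalIdeal Ah).map (algebraMap Ah Bh) = ((maximalIdeal A).map (algebraMap A B)).map (algebraMap B Bh)
    rw [AdicCompletion.maximalIdeal_eq_map (R := A), Ideal.map_map, Ideal.map_map,
      ← IsScalarTower.algebraMap_eq, ← IsScalarTower.algebraMap_eq]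
  let F := B ⧸ EGA4.mB A B
  let F' := Bh ⧸ (EGA4.mB A B).map (algebraMap B Bh)
  haveI : Module.Flat F F' :=
    Module.Flat.of_linearEquiv (Algebra.TensorProduct.quotIdealMapEquivQuotTensor Bh (EGA4.mB A B)).toLinearEquiv
  haveI : Nontrivial F' := Ideal.Quotient.nontrivial_iff.2 (ne_top_of_le_ne_top
    (maximalIdeal.isMaximal Bh).ne_top (hm ▸ IsLocalRing.map_maximalIdeal_le (algebraMap Ah Bh)))
  haveI : IsLocalRing F' := IsLocalRing.of_surjective' (Ideal.Quotient.mk _) Ideal.Quotient.mk_surjective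
  have hmF : (maximalIdeal F).map (algebraMap F F') = maximalIdeal F' := by
    rw [← IsLocalRing.map_maximalIdeal_of_surjective (Ideal.Quotient.mk (EGA4.mB A B)) Ideal.Quotient.mk_surjective,
      ← IsLocalRing.map_maximalIdeal_of_surjective (Ideal.Quotient.mk ((EGA4.mB A B).map (algebraMap B Bh)))
        Ideal.Quotient.mk_surjective, AdicCompletion.maximalIdeal_eq_map (R := B)]
    exact (Ideal.map_map (I := maximalIdeal B) _ _).trans
      (Ideal.map_map (I := maximalIdeal B) (algebraMap B Bh) (Ideal.Quotient.mk _)).symm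
  haveI : IsLocalHom (algebraMap F F') :=
    ((IsLocalRing.local_hom_TFAE (algebraMap F F')).out 0 2).mpr hmF.le
  haveI : IsLocalRing (Bh ⧸ EGA4.mB Ah Bh) := (Ideal.quotEquivOfEq hm).symm.isLocalRing
  rw [← isCI_iff_of_flat B Bh AdicCompletion.maximalIdeal_eq_map.symm,
    ← isCI_iff_of_flat A Ah AdicCompletion.maximalIdeal_eq_map.symm, ← isCI_iff_of_flat F F' hmF,
    ← CIntCI.isCI_iff_of_ringEquiv (Ideal.quotEquivOfEq hm)]
  exact avramov_complete Ah Bh

end Groth.Agent.CInt77
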