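import Groth.Agent.CInt77.AvramovLemma
import Groth.Agent.CInt77.GeomDepth
import Groth.Agent.S0611

/-!
# Regular sequences and Avramov's lemma
-/

set_option autoImplicit false
set_option linter.style.haveILetI false

universe u

open IsLocalRing RingTheory.Sequence Pointwise

namespace Groth.Agent.CInt77.Avramov

theorem ofList_ofFn {A : Type u} [CommRing A] {n : ℕ} (a : Fin n → A) :
    Ideal.ofList (List.ofFn a) = Ideal.span (Set.range a) := by
  rw [Ideal.ofList]
  congr 1
  ext x
  simp [List.mem_ofFn]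

/-- Generators of a subideal which stay independent modulo `mJ` can be exchanged into generators of `J`. -/
theorem exists_exchange {A : Type u} [CommRing A] [IsLocalRing A] [IsNoetherianRing A] (J : Ideal A)
    {r : ℕ} (a : Fin r → A) (ha : Ideal.span (Set.range a) = J) {q : ℕ} (y : Fin q → A)
    (hyJ : ∀ i, y i ∈ J)
    (hy : ∀ k, y k ∉ maximalIdeal A * J ⊔ Ideal.span (y '' {i | i < k})) :
    ∀ k : ℕ, k ≤ q → ∃ g : Fin r → A, Ideal.span (Set.range g) = J ∧
      ∃ (_ : k ≤ r), ∀ (i : Fin q) (hi : i.1 < k) (hir : i.1 < r), g ⟨i.1, hir⟩ = y i := by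
  classical
  intro k hk
  induction k with
  | zero => exact ⟨a, ha, Nat.zero_le _, fun i hi => absurd hi (Nat.not_lt_zero _)⟩
  | succ k ih =>
    obtain ⟨g, hg, hkr, hgy⟩ := ih (by omega)
    let kk : Fin q := ⟨k, by omega⟩
    obtain ⟨c, hc⟩ := Ideal.mem_span_range_iff_exists_fun.1 (hg.ge (hyJ kk))
    have hex : ∃ j : Fin r, k ≤ j.1 ∧ IsUnit (c j) := by
      by_contra hcon
      push Not at hcon
      refine hy kk ?_
      rw [← hc]
      refine Ideal.sum_mem _ fun j _ => ?_
      by_cases hj : j.1 < k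
      · refine Ideal.mem_sup_right (Ideal.mul_mem_left _ _ (Ideal.subset_span ?_))
        refine ⟨⟨j.1, by omega⟩, show (⟨j.1, _⟩ : Fin q) < kk from hj, ?_⟩
        exact (hgy ⟨j.1, by omega⟩ hj j.2).symm
      · exact Ideal.mem_sup_left (Ideal.mul_mem_mul ((mem_maximalIdeal _).2 (hcon j (by omega)))
          (hg.le (Ideal.subset_span ⟨j, rfl⟩)))
    obtain ⟨j, hkj, hu⟩ := hex
    have hkr' : k < r := lt_of_le_of_lt hkj j.2
    let k' : Fin r := ⟨k, hkr'⟩
    let σ := Equiv.swap k' j
    let g' : Fin r → A := Function.update (g ∘ σ) k' (y kk)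
    have hg'ne : ∀ i, i ≠ k' → g' i = g (σ i) := fun i hi => by simp [g', hi]
    have hg'k : g' k' = y kk := by simp [g']
    refine ⟨g', le_antisymm (Ideal.span_le.2 ?_) ?_, hkr', fun i hi hir => ?_⟩
    · rintro _ ⟨i, rfl⟩
      by_cases hi : i = k'
      · rw [hi, hg'k]; exact hyJ kk
      · rw [hg'ne i hi]; exact hg.le (Ideal.subset_span ⟨_, rfl⟩)
    · rw [← hg, Ideal.span_le]
      have hne : ∀ i, i ≠ j → g i ∈ Ideal.span (Set.range g') := fun i hi => by
        have h1 : σ i ≠ k' := fun h => hi (by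
          have := congrArg σ h
          simpa [σ, Equiv.swap_apply_self] using this)
        exact Ideal.subset_span ⟨σ i, by rw [hg'ne _ h1]; simp [σ, Equiv.swap_apply_self]⟩
      rintro _ ⟨i, rfl⟩
      by_cases hi : i = j
      · rw [hi]
        refine (Ideal.unit_mul_mem_iff_mem _ hu).1 ?_
        rw [show c j * g j = y kk - ∑ i ∈ Finset.univ.erase j, c i * g i by
          rw [eq_sub_iff_add_eq, Finset.add_sum_erase _ (fun i => c i * g i) (Finset.mem_univ j), hc]]
        exact sub_mem (Ideal.subset_span ⟨k', hg'k⟩)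
          (Ideal.sum_mem _ fun i hi => Ideal.mul_mem_left _ _ (hne i (Finset.ne_of_mem_erase hi)))
      · exact hne i hi
    · rcases Nat.lt_succ_iff_lt_or_eq.1 hi with hlt | heq
      · have h1 : (⟨i.1, hir⟩ : Fin r) ≠ k' := fun h => hlt.ne (congrArg Fin.val h)
        have h2 : (⟨i.1, hir⟩ : Fin r) ≠ j := fun h => by
          have := congrArg Fin.val h
          simp only at this
          omega
        rw [hg'ne _ h1, show σ ⟨i.1, hir⟩ = ⟨i.1, hir⟩ from Equiv.swap_apply_of_ne_of_ne h1 h2]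
        exact hgy i hlt hir
      · obtain rfl : i = kk := Fin.ext heq
        exact hg'k

/-- If `A/J` has finite tor dimension over `A/I` and `J` is generated by a regular sequence, then so are
`I` and `J/I`. -/
theorem regular_of_finiteTorDim {A : Type u} [CommRing A] [IsNoetherianRing A] [IsLocalRing A]
    (I J : Ideal A) (hIJ : I ≤ J) (hJ : J ≠ ⊤)
    (hlem : ∀ x ∈ I, x ∈ maximalIdeal A * J → x ∈ maximalIdeal A * I)
    (hJreg : ∃ rs : List A, Ideal.ofList rs = J ∧ IsRegular A rs) :
    (∃ rs : List A, Ideal.ofList rs = I ∧ IsRegular A rs) ∧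
      ∃ rs' : List (A ⧸ I), Ideal.ofList rs' = J.map (Ideal.Quotient.mk I) ∧ IsRegular (A ⧸ I) rs' := by
  classical
  obtain ⟨rs, hrs, hreg⟩ := hJreg
  obtain ⟨r, a, rfl⟩ : ∃ (r : ℕ) (a : Fin r → A), rs = List.ofFn a := ⟨_, _, (List.ofFn_get rs).symm⟩
  rw [ofList_ofFn] at hrs
  obtain ⟨s, hs, hs'⟩ := Submodule.FG.exists_span_finset_card_eq_spanFinrank (IsNoetherian.noetherian I)
  let q := I.spanFinrank
  let e₀ : Fin q ≃ s := (finCongr hs.symm).trans s.equivFin.symm
  let y : Fin q → A := fun k => ((e₀ k : s) : A)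
  have hyI : Ideal.span (Set.range y) = I := by
    rw [show Set.range y = (s : Set A) from ?_]
    · exact hs'
    · rw [show y = Subtype.val ∘ e₀ from rfl, e₀.surjective.range_comp]
      exact Subtype.range_coe
  have hmem : ∀ i, y i ∈ I := fun i => hyI.le (Ideal.subset_span ⟨i, rfl⟩)
  have hy : ∀ k, y k ∉ maximalIdeal A * J ⊔ Ideal.span (y '' {i | i < k}) := by
    intro k hk
    obtain ⟨z, hz, w, hw, hzw⟩ := Submodule.mem_sup.1 hk
    have hwI : w ∈ I := Ideal.span_le.2 (by rintro _ ⟨i, -, rfl⟩; exact hmem i) hw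
    have hzI : z ∈ I := by rw [← add_sub_cancel_right z w, hzw]; exact sub_mem (hmem k) hwI
    let Y : Ideal A := Ideal.span (y '' {i | i ≠ k})
    have hwY : w ∈ Y := Ideal.span_mono (Set.image_mono fun i (hi : i < k) => ne_of_lt hi) hw
    have hI : I ≤ maximalIdeal A * I ⊔ Y := by
      conv_lhs => rw [← hyI]
      refine Ideal.span_le.2 ?_
      rintro _ ⟨i, rfl⟩
      by_cases hi : i = k
      · rw [hi, ← hzw]
        exact add_mem (Ideal.mem_sup_left (hlem z hzI hz)) (Ideal.mem_sup_right hwY)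
      · exact Ideal.mem_sup_right (Ideal.subset_span ⟨i, hi, rfl⟩)
    have hIY : I ≤ Y := Submodule.le_of_le_smul_of_le_jacobson_bot (I := maximalIdeal A)
      (IsNoetherian.noetherian I) (IsLocalRing.jacobson_eq_maximalIdeal ⊥ bot_ne_top).ge
      (by rw [smul_eq_mul, sup_comm]; exact hI)
    have hY : Y = I := le_antisymm (Ideal.span_le.2 (by rintro _ ⟨i, -, rfl⟩; exact hmem i)) hIY
    have hcard : Y.spanFinrank < q := by
      have h1 : y '' {i | i ≠ k} = (((Finset.univ.erase k).image y : Finset A) : Set A) := by ext; simp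
      calc Y.spanFinrank = (Submodule.span A (((Finset.univ.erase k).image y : Finset A) : Set A)).spanFinrank := by
            rw [← h1]
        _ ≤ ((Finset.univ.erase k).image y).card :=
            (Submodule.spanFinrank_span_le_ncard_of_finite (Finset.finite_toSet _)).trans (Set.ncard_coe_finset _).le
        _ ≤ (Finset.univ.erase k).card := Finset.card_image_le
        _ < q := by
          rw [Finset.card_erase_of_mem (Finset.mem_univ k), Finset.card_univ, Fintype.card_fin]
          have := k.pos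
          omega
    rw [hY] at hcard
    exact lt_irrefl _ hcard
  obtain ⟨g, hg, hqr, hgy⟩ := exists_exchange J a hrs y (fun i => hIJ (hmem i)) hy q le_rfl
  have hgreg : IsRegular A (List.ofFn g) := S0611.result a g hreg (hrs.trans hg.symm)
  obtain ⟨p, rfl⟩ := Nat.exists_eq_add_of_le hqr
  let rest : Fin p → A := fun i => g (Fin.natAdd q i)
  have hsplit : List.ofFn g = List.ofFn y ++ List.ofFn rest := by
    rw [← List.ofFn_fin_append]
    congr 1
    funext i
    refine Fin.addCases (fun i => ?_) (fun i => ?_) i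
    · rw [Fin.append_left]
      exact hgy i i.2 (by omega)
    · rw [Fin.append_right]
  have hIm : Ideal.ofList (List.ofFn y) = I := by rw [ofList_ofFn, hyI]
  have hw := hgreg.toIsWeaklyRegular
  rw [hsplit] at hw
  obtain ⟨h1, h2⟩ := (isWeaklyRegular_append_iff A _ _).1 hw
  have hJm := le_maximalIdeal hJ
  refine ⟨⟨List.ofFn y, hIm, .of_isWeaklyRegular_of_mem_maximalIdeal _ (fun x hx => ?_) h1⟩,
    (List.ofFn rest).map (Ideal.Quotient.mk I), ?_, ?_⟩
  · obtain ⟨i, rfl⟩ := List.mem_ofFn.1 hx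
    exact hJm (hIJ (hmem i))
  · rw [← Ideal.map_ofList]
    have h3 : I ⊔ Ideal.ofList (List.ofFn rest) = J := by
      conv_lhs => rw [← hIm, ← Ideal.ofList_append, ← hsplit, ofList_ofFn]
      exact hg
    refine le_antisymm (Ideal.map_mono (h3 ▸ le_sup_right)) ?_
    conv_lhs => rw [← h3]
    rw [Ideal.map_sup, Ideal.map_quotient_self, bot_sup_eq]
  · haveI : Nontrivial (A ⧸ I) := Ideal.Quotient.nontrivial_iff.2 fun h => hJ (top_le_iff.1 (h ▸ hIJ))
    haveI : IsLocalRing (A ⧸ I) := IsLocalRing.of_surjective' (Ideal.Quotient.mk I) Ideal.Quotient.mk_surjective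
    refine .of_isWeaklyRegular_of_mem_maximalIdeal _ (fun x hx => ?_) ?_
    · obtain ⟨z, hz, rfl⟩ := List.mem_map.1 hx
      obtain ⟨i, rfl⟩ := List.mem_ofFn.1 hz
      rw [← IsLocalRing.map_maximalIdeal_of_surjective (Ideal.Quotient.mk I) Ideal.Quotient.mk_surjective]
      exact Ideal.mem_map_of_mem _ (hJm (hg.le (Ideal.subset_span ⟨_, rfl⟩)))
    · show IsWeaklyRegular (A ⧸ I) ((List.ofFn rest).map (algebraMap A (A ⧸ I)))
      rw [isWeaklyRegular_map_algebraMap_iff]
      exact ((Submodule.quotEquivOfEq _ _ (by rw [hIm, smul_eq_mul, Ideal.mul_top])).isWeaklyRegular_congr _).1 h2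

end Groth.Agent.CInt77.Avramov
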