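import Groth.Agent.CInt77.PresCompare
import Groth.Agent.CIntCI.Ascend
import Groth.Agent.CInt77.Ascent

/-!
# Complete intersection homomorphisms of complete local rings
-/

set_option autoImplicit false
set_option linter.style.haveILetI false

universe u

open IsLocalRing RingTheory.Sequence

namespace Groth.Agent.CInt77

variable {A B : Type u} [CommRing A] [CommRing B] [IsNoetherianRing A] [IsNoetherianRing B] [IsLocalRing A]
  [IsLocalRing B] [Algebra A B]

/-- A complete intersection homomorphism to a complete intersection. -/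
theorem ci_of_presentation (hA : Pi1.IsCompleteIntersection A) (S : Type u) [CommRing S] [IsNoetherianRing S]
    [IsLocalRing S] [Algebra A S] [IsLocalHom (algebraMap A S)] [Module.Flat A S]
    [IsRegularLocalRing (EGA4.FibRing A S)] (g : S →ₐ[A] B) (hg : Function.Surjective g) (rs : List S)
    (hrs : Ideal.ofList rs = RingHom.ker g.toRingHom) (hreg : IsRegular S rs) :
    Pi1.IsCompleteIntersection B ∧ DRing.HasFiniteTorDim A B := by
  obtain ⟨n, hn, -⟩ := RegLoc.exists_natCast_eq_ringKrullDim (EGA4.FibRing A S)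
  have hS : Pi1.IsCompleteIntersection S := isCI_of_regular_fibre A hA n S hn
  let e : S ⧸ Ideal.ofList rs ≃+* B :=
    (Ideal.quotEquivOfEq hrs).trans (RingHom.quotientKerEquivOfSurjective hg)
  haveI : IsLocalRing (S ⧸ Ideal.ofList rs) := e.symm.isLocalRing
  refine ⟨CIntCI.isCI_of_ringEquiv e (CIntCI.isCI_of_regular_quotient hS rs hreg), rs.length, ?_⟩
  letI : Algebra S B := g.toRingHom.toAlgebra
  haveI : IsScalarTower A S B := IsScalarTower.of_algebraMap_eq fun a => (g.commutes a).symm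
  let eA : (S ⧸ Ideal.ofList rs) ≃ₐ[S] B := AlgEquiv.ofRingEquiv (f := e) fun x => rfl
  exact FlatMor.PC.hasTorDimLE_mono (by omega)
    (FlatMor.PC.hasTorDimLE_trans (A := A) (B := S) (C := B) (FlatMor.PC.hasTorDimLE_of_flat 0 S)
      (FlatMor.PC.hasTorDimLE_congr eA.toLinearEquiv (torDim_quotient_regular rs hreg)))

/-- A local homomorphism to a complete intersection with finitely many non-zero `Tor`. -/
theorem presentation_of_ci [IsAdicComplete (maximalIdeal A) A] [IsAdicComplete (maximalIdeal B) B]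
    [IsLocalHom (algebraMap A B)] (hB : Pi1.IsCompleteIntersection B) (d : ℕ)
    (hd : Subsingleton (DRing.Tor A (d + 1) B (A ⧸ maximalIdeal A))) :
    Pi1.IsCompleteIntersection A ∧
      ∃ (S : Type u) (_ : CommRing S) (_ : IsNoetherianRing S) (_ : IsLocalRing S) (_ : Algebra A S)
        (_ : Module.Flat A S) (_ : IsRegularLocalRing (EGA4.FibRing A S))
        (g : S →ₐ[A] B), Function.Surjective g ∧
          ∃ rs : List S, Ideal.ofList rs = RingHom.ker g.toRingHom ∧ IsRegular S rs := by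
  obtain ⟨Λ, Λ', _, _, _, n, m, ρ, σ, τ, hcase, hρ, hσ, hsq, hτ, hreg⟩ := S2053.result (A := A) (B := B)
  let R := MvPowerSeries (Fin n) Λ
  let T₀ := MvPowerSeries (Fin m) Λ'
  haveI : IsRegularLocalRing R := isRegular_powerSeries Λ (hcase.imp (fun h => h.2.1) (fun h => h.2.1)) n
  haveI : IsRegularLocalRing T₀ := isRegular_powerSeries Λ' (hcase.imp (fun h => h.2.2) (fun h => h.2.2)) m
  letI : Algebra R T₀ := τ.toAlgebra
  haveI : Module.Flat R T₀ := hτ
  let I := RingHom.ker ρ
  let J := RingHom.ker σ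
  let IT := I.map (algebraMap R T₀)
  let T := T₀ ⧸ IT
  have hle : IT ≤ J := Ideal.map_le_iff_le_comap.2 fun x (hx : ρ x = 0) => by
    show σ (τ x) = 0
    rw [show σ (τ x) = algebraMap A B (ρ x) from RingHom.congr_fun hsq x, hx, map_zero]
  haveI : IsLocalHom (algebraMap R T₀) := by
    haveI : IsLocalHom ρ := IsLocalHom.of_surjective ρ hρ
    exact ⟨fun x hx => by
      have h1 : IsUnit (σ (τ x)) := hx.map σ
      rw [show σ (τ x) = algebraMap A B (ρ x) from RingHom.congr_fun hsq x] at h1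
      exact IsLocalHom.map_nonunit x (IsLocalHom.map_nonunit _ h1)⟩
  let eρ : R ⧸ I ≃+* A := RingHom.quotientKerEquivOfSurjective hρ
  let q : A →+* T := (algebraMap (R ⧸ I) T).comp eρ.symm.toRingHom
  letI : Algebra A T := q.toAlgebra
  have hflat : Module.Flat (R ⧸ I) T :=
    Module.Flat.of_linearEquiv (Algebra.TensorProduct.quotIdealMapEquivQuotTensor T₀ I).toLinearEquiv
  haveI : Module.Flat A T := RingHom.Flat.comp (RingHom.Flat.of_bijective eρ.symm.bijective)
    ((RingHom.flat_algebraMap_iff (S := T)).2 hflat)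
  have hTne : IT ≠ ⊤ := ne_top_of_le_ne_top (RingHom.ker_ne_top σ) hle
  haveI : Nontrivial T := Ideal.Quotient.nontrivial_iff.2 hTne
  haveI : IsLocalRing T := IsLocalRing.of_surjective' (Ideal.Quotient.mk _) Ideal.Quotient.mk_surjective
  have hq : ∀ r : R, q (ρ r) = Ideal.Quotient.mk IT (τ r) := fun r => by
    show (algebraMap (R ⧸ I) T) (eρ.symm (ρ r)) = _
    rw [show eρ.symm (ρ r) = Ideal.Quotient.mk I r from eρ.symm_apply_eq.2 rfl]
    rfl
  let πB : T →+* B := Ideal.Quotient.lift IT σ fun x hx => hle hx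
  have hcom : ∀ a, πB (q a) = algebraMap A B a := fun a => by
    obtain ⟨r, rfl⟩ := hρ a
    rw [hq]
    exact RingHom.congr_fun hsq r
  let g : T →ₐ[A] B := { πB with commutes' := hcom }
  have hg : Function.Surjective g := fun p => by
    obtain ⟨x, rfl⟩ := hσ p
    exact ⟨Ideal.Quotient.mk _ x, rfl⟩
  haveI : IsLocalHom (algebraMap A T) := ⟨fun a ha => IsLocalHom.map_nonunit (f := algebraMap A B) a (by
    have h1 : IsUnit (g (algebraMap A T a)) := ha.map g
    rwa [g.commutes] at h1)⟩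
  have hmT : EGA4.mB A T = (EGA4.mB R T₀).map (Ideal.Quotient.mk IT) := by
    show (maximalIdeal A).map q = _
    rw [← IsLocalRing.map_maximalIdeal_of_surjective ρ hρ, Ideal.map_map, show q.comp ρ =
      (Ideal.Quotient.mk IT).comp τ from RingHom.ext hq, ← Ideal.map_map]
    rfl
  have hsup : IT ⊔ EGA4.mB R T₀ = EGA4.mB R T₀ :=
    sup_eq_right.2 (Ideal.map_mono (le_maximalIdeal (RingHom.ker_ne_top ρ)))
  haveI : IsRegularLocalRing (EGA4.FibRing A T) := by
    let eF : EGA4.FibRing A T ≃+* EGA4.FibRing R T₀ :=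
      (Ideal.quotEquivOfEq hmT).trans ((DoubleQuot.quotQuotEquivQuotSup IT (EGA4.mB R T₀)).trans
        (Ideal.quotEquivOfEq hsup))
    haveI : IsRegularRing (EGA4.FibRing R T₀) := hreg
    haveI : IsRegularRing (EGA4.FibRing A T) := IsRegularRing.of_ringEquiv eF.symm
    haveI : Nontrivial (EGA4.FibRing A T) := Ideal.Quotient.nontrivial_iff.2
      (ne_top_of_le_ne_top (maximalIdeal.isMaximal T).ne_top (IsLocalRing.map_maximalIdeal_le (algebraMap A T)))
    haveI : IsLocalRing (EGA4.FibRing A T) :=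
      IsLocalRing.of_surjective' (Ideal.Quotient.mk _) Ideal.Quotient.mk_surjective
    exact IsRegularLocalRing.of_isRegularRing_of_isLocalRing _
  letI : Algebra T B := g.toRingHom.toAlgebra
  haveI : IsScalarTower A T B := IsScalarTower.of_algebraMap_eq fun a => (g.commutes a).symm
  haveI : Module.Finite T B := Module.Finite.of_surjective (Algebra.linearMap T B) hg
  obtain ⟨f, hf, -⟩ := RegLoc.exists_natCast_eq_ringKrullDim (EGA4.FibRing A T)
  have hTB : DRing.HasTorDimLE T (d + f) B :=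
    torDim_of_pd _ _ (pd_of_torDim_base A T f hf d B (torDim_of_tor_residue A T d B hd))
  let eσ : T₀ ⧸ J ≃+* B := RingHom.quotientKerEquivOfSurjective hσ
  letI : Algebra T (T₀ ⧸ J) := (Ideal.Quotient.factor hle).toAlgebra
  haveI : IsScalarTower T₀ T (T₀ ⧸ J) :=
    IsScalarTower.of_algebraMap_eq (R := T₀) (S := T) (A := T₀ ⧸ J) fun _ => rfl
  let eT : B ≃ₐ[T] T₀ ⧸ J := AlgEquiv.ofRingEquiv (f := eσ.symm) fun x => by
    obtain ⟨t, rfl⟩ := Ideal.Quotient.mk_surjective x
    exact eσ.symm_apply_eq.2 rfl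
  have hfd : DRing.HasFiniteTorDim T (T₀ ⧸ J) := ⟨d + f, FlatMor.PC.hasTorDimLE_congr eT.toLinearEquiv hTB⟩
  haveI : IsLocalRing (T₀ ⧸ J) := eσ.symm.isLocalRing
  have hJreg : ∃ rs : List T₀, Ideal.ofList rs = J ∧ IsRegular T₀ rs :=
    (S2166.result J (RingHom.ker_ne_top σ)).1 (CIntCI.isCI_of_ringEquiv eσ.symm hB)
  obtain ⟨hIT, rs', hrs', hreg'⟩ := Avramov.regular_of_finiteTorDim IT J hle (RingHom.ker_ne_top σ)
    (fun x hx hxm => Avramov.mem_maximal_mul IT J hle (RingHom.ker_ne_top σ) hfd x hx hxm) hJreg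
  haveI : IsLocalRing (R ⧸ I) := eρ.symm.isLocalRing
  refine ⟨CIntCI.isCI_of_ringEquiv eρ ((S2166.result I (RingHom.ker_ne_top ρ)).2
    ((CIntCI.exists_regular_iff_of_flat I (RingHom.ker_ne_top ρ)).2 hIT)), T, inferInstance, inferInstance,
    inferInstance, inferInstance, inferInstance, inferInstance, g, hg, rs', ?_, hreg'⟩
  rw [hrs']
  exact (Ideal.ker_quotient_lift σ (fun x hx => hle hx)).symm

end Groth.Agent.CInt77
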