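import Groth.Agent.CInt77.AvramovLocal
import Groth.Agent.CIntCI.Ascend

/-!
# Localisations of complete intersections
-/

set_option autoImplicit false
set_option linter.style.haveILetI false

universe u

open IsLocalRing RingTheory.Sequence

namespace Groth.Agent.CInt77

/-- Localisations of `R ⧸ (gs)`, `R` regular local and `gs` regular, are CI. -/
theorem isCI_localization_quotient {R A : Type u} [CommRing R] [IsRegularLocalRing R] [CommRing A]
    (gs : List R) (hgreg : IsRegular R gs) (π : R →+* A) (hπ : Function.Surjective π)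
    (hker : RingHom.ker π = Ideal.ofList gs) (P : Ideal A) [P.IsPrime] :
    Pi1.IsCompleteIntersection (Localization.AtPrime P) := by
  haveI : IsRegularRing R := RegLoc.Homological.isRegularRing
  let I := RingHom.ker π
  let e : R ⧸ I ≃+* A := RingHom.quotientKerEquivOfSurjective hπ
  let q : Ideal (R ⧸ I) := P.comap e.toRingHom
  haveI : q.IsPrime := inferInstanceAs (P.comap e.toRingHom).IsPrime
  let Q := q.comap (Ideal.Quotient.mk I)
  let RQ := Localization.AtPrime Q
  haveI : IsLocalization.AtPrime (RQ ⧸ I.map (algebraMap R RQ)) q :=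
    Gor.LCI.isLocalization_quotient_atPrime I q RQ
  let e' : Localization.AtPrime P ≃+* RQ ⧸ I.map (algebraMap R RQ) :=
    (IsLocalization.ringEquivOfRingEquiv (M := P.primeCompl) (T := q.primeCompl)
      (Localization.AtPrime P) (RQ ⧸ I.map (algebraMap R RQ)) e.symm (by
        ext x
        constructor
        · rintro ⟨y, hy, rfl⟩ hm
          exact hy (by simpa [q] using hm)
        · intro hx
          exact ⟨e x, fun hm => hx hm, e.symm_apply_apply x⟩))
  haveI : IsLocalRing (RQ ⧸ I.map (algebraMap R RQ)) := e'.isLocalRing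
  have hne : I.map (algebraMap R RQ) ≠ ⊤ := fun h =>
    not_subsingleton (RQ ⧸ I.map (algebraMap R RQ)) (Ideal.Quotient.subsingleton_iff.2 h)
  have hIR : I.map (algebraMap R RQ) = (Ideal.ofList gs).map (algebraMap R RQ) :=
    congrArg (Ideal.map (algebraMap R RQ)) hker
  refine (CIntCI.isCI_iff_of_ringEquiv e').2 ((S2166.result _ hne).2 ⟨gs.map (algebraMap R RQ), ?_, ?_⟩)
  · rw [← Ideal.map_ofList, hIR]
  · refine .of_isWeaklyRegular_of_mem_maximalIdeal _ (fun x hx => ?_) hgreg.toIsWeaklyRegular.of_flat
    refine IsLocalRing.le_maximalIdeal hne ?_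
    rw [hIR, Ideal.map_ofList]
    exact Ideal.subset_span hx

/-- Localisations of a complete intersection local ring are complete intersections. -/
theorem isCI_localization (A : Type u) [CommRing A] [IsLocalRing A] [IsNoetherianRing A]
    (hA : Pi1.IsCompleteIntersection A) (p : Ideal A) [p.IsPrime] :
    Pi1.IsCompleteIntersection (Localization.AtPrime p) := by
  let T := AdicCompletion (maximalIdeal A) A
  haveI : IsNoetherianRing T :=
    RegLoc.AdicNoeth.isNoetherianRing_adicCompletion _ (IsNoetherian.noetherian (maximalIdeal A))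
  haveI : Module.FaithfullyFlat A T := Module.FaithfullyFlat.of_flat_of_isLocalHom
  obtain ⟨P, hP⟩ := PrimeSpectrum.comap_surjective_of_faithfullyFlat (A := A) (B := T) ⟨p, inferInstance⟩
  have hpP : p = P.asIdeal.comap (algebraMap A T) := (congrArg PrimeSpectrum.asIdeal hP).symm
  obtain ⟨R, _, _, rs, -, hreg, ⟨φ⟩⟩ := hA
  let π : R →+* T := φ.symm.toRingHom.comp (Ideal.Quotient.mk (Ideal.span {r | r ∈ rs}))
  have hker : RingHom.ker π = Ideal.ofList rs := by
    ext x
    simp [π, RingHom.mem_ker, Ideal.Quotient.eq_zero_iff_mem, Ideal.ofList]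
  have hCI := isCI_localization_quotient rs hreg π (φ.symm.surjective.comp Ideal.Quotient.mk_surjective) hker P.asIdeal
  let lh := Localization.localRingHom p P.asIdeal (algebraMap A T) hpP
  letI : Algebra (Localization.AtPrime p) (Localization.AtPrime P.asIdeal) := lh.toAlgebra
  haveI : IsLocalHom (algebraMap (Localization.AtPrime p) (Localization.AtPrime P.asIdeal)) :=
    Localization.isLocalHom_localRingHom p P.asIdeal (algebraMap A T) hpP
  haveI : Module.Flat (Localization.AtPrime p) (Localization.AtPrime P.asIdeal) :=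
    (RingHom.flat_algebraMap_iff.2 (inferInstance : Module.Flat A T)).localRingHom P.asIdeal p hpP
  haveI : IsNoetherianRing (Localization.AtPrime p) := IsLocalization.isNoetherianRing p.primeCompl _ inferInstance
  haveI : IsNoetherianRing (Localization.AtPrime P.asIdeal) :=
    IsLocalization.isNoetherianRing P.asIdeal.primeCompl _ inferInstance
  haveI : Nontrivial (Localization.AtPrime P.asIdeal ⧸ EGA4.mB (Localization.AtPrime p) (Localization.AtPrime P.asIdeal)) :=
    Ideal.Quotient.nontrivial_iff.2 (ne_top_of_le_ne_top (maximalIdeal.isMaximal _).ne_top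
      (IsLocalRing.map_maximalIdeal_le _))
  haveI : IsLocalRing (Localization.AtPrime P.asIdeal ⧸ EGA4.mB (Localization.AtPrime p) (Localization.AtPrime P.asIdeal)) :=
    IsLocalRing.of_surjective' (Ideal.Quotient.mk _) Ideal.Quotient.mk_surjective
  exact ((avramov _ _).1 hCI).1

end Groth.Agent.CInt77
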