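import Groth.Agent.FlatCx.TorLES
import Groth.Agent.TorOne.Basic
import Groth.Agent.LocFlat.Basic
import Groth.Agent.FlatMor.PC.Stalks
import Groth.Agent.EGA4Lib.PDFibre
import Groth.Agent.RegLoc.Homological
import Mathlib.RingTheory.Flat.TorsionFree

/-!
# Tor dimension over the base of a flat local extension
-/

set_option autoImplicit false
set_option linter.style.haveILetI false

universe u

open IsLocalRing CategoryTheory
open scoped TensorProduct

namespace Groth.Agent.CInt77

variable (A C : Type u) [CommRing A] [IsLocalRing A] [IsNoetherianRing A] [CommRing C] [IsLocalRing C]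
  [IsNoetherianRing C] [Algebra A C] [IsLocalHom (algebraMap A C)]

/-- The local criterion of flatness through `Tor₁`. -/
theorem flat_of_tor_residue (M : Type u) [AddCommGroup M] [Module C M] [Module A M] [IsScalarTower A C M]
    [Module.Finite C M] (h : Subsingleton (DRing.Tor A 1 M (A ⧸ maximalIdeal A))) : Module.Flat A M := by
  let g : A →ₗ[A] A ⧸ maximalIdeal A := (maximalIdeal A).mkQ
  have hg : Function.Surjective g := Submodule.mkQ_surjective _
  have h1 : Function.Injective ((LinearMap.ker g).subtype.lTensor M) :=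
    (TorOne.isZero_tor_one_iff M g hg).1 (@ModuleCat.isZero_of_subsingleton A _ _ h)
  have h2 : Function.Injective ((maximalIdeal A).subtype.lTensor M) := by
    have hker : LinearMap.ker g = maximalIdeal A := Submodule.ker_mkQ _
    rw [hker] at h1
    exact h1
  letI : Field (A ⧸ maximalIdeal A) := Ideal.Quotient.field _
  haveI : Module.Flat (A ⧸ maximalIdeal A) ((A ⧸ maximalIdeal A) ⊗[A] M) := Module.Flat.of_free
  exact LocFlat.flat_criterion (S := C) M (maximalIdeal A)
    (LocFlat.map_le_jacobson _ (maximalIdeal.isMaximal A).ne_top)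
    ((LinearMap.lTensor_inj_iff_rTensor_inj M _).1 h2) inferInstance

variable [Module.Flat A C]

/-- Vanishing of a single `Tor` against the residue field bounds the tor dimension. -/
theorem torDim_of_tor_residue : ∀ (d : ℕ) (M : Type u) [AddCommGroup M] [Module C M] [Module A M]
    [IsScalarTower A C M] [Module.Finite C M],
    Subsingleton (DRing.Tor A (d + 1) M (A ⧸ maximalIdeal A)) → DRing.HasTorDimLE A d M := by
  intro d
  induction d with
  | zero =>
    intro M _ _ _ _ _ h
    haveI := flat_of_tor_residue A C M h
    exact FlatMor.PC.hasTorDimLE_of_flat 0 M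
  | succ d ih =>
    intro M _ _ _ _ _ h
    obtain ⟨r, f, hf⟩ := Module.Finite.exists_fin' C M
    haveI : Module.Flat A (Fin r → C) := Module.Flat.trans A C _
    let i : LinearMap.ker f →ₗ[A] (Fin r → C) := (LinearMap.ker f).subtype.restrictScalars A
    obtain ⟨e⟩ := FlatCx.TorLES.nonempty_tor_shift (A ⧸ maximalIdeal A) i (f.restrictScalars A)
      (LinearMap.ker f).injective_subtype hf (LinearMap.exact_subtype_ker_map f) d
    have hK : DRing.HasTorDimLE A d (LinearMap.ker f) :=
      ih (LinearMap.ker f) (haveI := h; e.symm.toEquiv.subsingleton)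
    let eK : LinearMap.ker f ≃ₗ[A] LinearMap.ker (f.restrictScalars A) :=
      { toFun := fun x => ⟨x.1, x.2⟩
        invFun := fun x => ⟨x.1, x.2⟩
        map_add' := fun _ _ => rfl
        map_smul' := fun _ _ => rfl }
    exact (FlatMor.PC.hasTorDimLE_ker_iff (f.restrictScalars A) hf d).1 (FlatMor.PC.hasTorDimLE_congr eK hK)

/-- Projective dimension over a flat local algebra with regular closed fibre. -/
theorem pd_of_torDim_base [IsRegularLocalRing (EGA4.FibRing A C)] (n : ℕ)
    (hn : ringKrullDim (EGA4.FibRing A C) = (n : WithBot ℕ∞)) :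
    ∀ (d : ℕ) (M : Type u) [AddCommGroup M] [Module C M] [Module A M] [IsScalarTower A C M] [Module.Finite C M],
      DRing.HasTorDimLE A d M → HasProjectiveDimensionLE (ModuleCat.of C M) (d + n) := by
  intro d
  induction d with
  | zero =>
    intro M _ _ _ _ _ h
    haveI : Module.Flat A M := (DRing.TorBalance.hasTorDimLE_zero_iff M).1 h
    rw [zero_add]
    exact EGA4Lib.PDFibre.pd_of_fibre A C n M (RegLoc.Homological.pd_le_dim hn _)
  | succ d ih =>
    intro M _ _ _ _ _ h
    obtain ⟨r, f, hf⟩ := Module.Finite.exists_fin' C M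
    haveI : Module.Flat A (Fin r → C) := Module.Flat.trans A C _
    let eK : LinearMap.ker (f.restrictScalars A) ≃ₗ[A] LinearMap.ker f :=
      { toFun := fun x => ⟨x.1, x.2⟩
        invFun := fun x => ⟨x.1, x.2⟩
        map_add' := fun _ _ => rfl
        map_smul' := fun _ _ => rfl }
    have hK : DRing.HasTorDimLE A d (LinearMap.ker f) :=
      FlatMor.PC.hasTorDimLE_congr eK ((FlatMor.PC.hasTorDimLE_ker_iff (f.restrictScalars A) hf d).2 h)
    rw [show d + 1 + n = d + n + 1 by omega, RegLoc.PD.pd_shift f hf]
    exact ih (LinearMap.ker f) hK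

end Groth.Agent.CInt77
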