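import Groth.Agent.CInt77.WEtaleAmp
import Groth.Agent.AlgSp.GorCore
import Groth.Agent.Hens.Unique
import Groth.Agent.Hens.IndEtale

/-!
# Tor amplitude over henselizations
-/

set_option autoImplicit false

universe u

open CategoryTheory

attribute [local instance] HasDerivedCategory.standard

namespace Groth.Agent.CInt77

theorem weaklyEtale_henselization (R S : Type u) [CommRing R] [IsLocalRing R] [CommRing S] [IsLocalRing S]
    [Algebra R S] [IsLocalHom (algebraMap R S)] [Hensel.IsHenselization R S] : Algebra.WeaklyEtale R S :=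
  Groth.Agent.IndAlg.Etale.weaklyEtale (Groth.Agent.IndAlg.fac_algEquiv
    (Groth.Agent.Hens.henselizationEquiv S) Groth.Agent.Hens.fac_etLoc)

theorem torAmp_iff_of_weaklyEtale {A B : Type u} [CommRing A] [CommRing B] [Algebra A B]
    [Algebra.WeaklyEtale A B] (a b : ℤ) (K : Dual.D B) :
    DRing.HasTorAmplitudeIn A a b ((DRing.restrictD (algebraMap A B)).obj K) ↔
      DRing.HasTorAmplitudeIn B a b K := by
  refine WEtaleAmp.torAmp_iff_restrict (algebraMap A B) (RingHom.flat_algebraMap_iff.2 inferInstance) ?_ a b K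
  have e : (algebraMap A B).toAlgebra = (inferInstance : Algebra A B) := Algebra.algebra_ext _ _ fun _ => rfl
  rw [e]
  exact WEtaleTor.isPureDiag_of_flat A B (Algebra.WeaklyEtale.flat_lmul' A B)

theorem tfae_torAmplitude_henselization {A : Type u} [CommRing A] [IsLocalRing A]
    (Ah Ash : Type u) [CommRing Ah] [IsLocalRing Ah] [CommRing Ash] [IsLocalRing Ash]
    [Algebra A Ah] [IsLocalHom (algebraMap A Ah)] [Hensel.IsHenselization A Ah]
    [Algebra A Ash] [IsLocalHom (algebraMap A Ash)] [Hensel.IsStrictHenselization A Ash]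
    [Algebra Ah Ash] [IsScalarTower A Ah Ash] (a b : ℤ) (K : Dual.D Ash) (L : Dual.D Ah) :
    [DRing.HasTorAmplitudeIn A a b ((DRing.restrictD (algebraMap A Ash)).obj K),
     DRing.HasTorAmplitudeIn Ah a b ((DRing.restrictD (algebraMap Ah Ash)).obj K),
     DRing.HasTorAmplitudeIn Ash a b K].TFAE ∧
    (DRing.HasTorAmplitudeIn A a b ((DRing.restrictD (algebraMap A Ah)).obj L) ↔
      DRing.HasTorAmplitudeIn Ah a b L) := by
  haveI := weaklyEtale_henselization A Ah
  haveI := AlgSp.GorCore.weaklyEtale_of_isStrictHenselization A Ash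
  refine ⟨?_, torAmp_iff_of_weaklyEtale a b L⟩
  have h13 := torAmp_iff_of_weaklyEtale (A := A) a b K
  have hfl : (algebraMap Ah Ash).Flat := AlgSp.GorCore.flat_of_weaklyEtale_comp (R := A) _ (by
    rw [← IsScalarTower.algebraMap_eq]; exact RingHom.flat_algebraMap_iff.2 inferInstance)
  have e : (algebraMap Ah Ash).toAlgebra = (inferInstance : Algebra Ah Ash) :=
    Algebra.algebra_ext _ _ fun _ => rfl
  have h23 := WEtaleAmp.torAmp_iff_restrict (algebraMap Ah Ash) hfl (by
    rw [e]
    exact (WEtaleTor.isPureDiag_of_flat A Ash (Algebra.WeaklyEtale.flat_lmul' A Ash)).of_tower A Ash Ah) a b K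
  tfae_have 1 ↔ 3 := h13
  tfae_have 2 ↔ 3 := h23
  tfae_finish

end Groth.Agent.CInt77
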