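import Groth.Agent.AlgSpReg.LciFibre
import Groth.Agent.FlatMor.LCIChart
import Groth.Agent.Synt44.FlatLCI

/-!
# The Koszul locus of a morphism and base change
-/

set_option autoImplicit false
set_option linter.style.haveILetI false

universe u

open AlgebraicGeometry CategoryTheory CategoryTheory.Limits

namespace Groth.Agent.CInt77

variable {X Y : Scheme.{u}}

theorem koszulAt_iff_chart (f : X ⟶ Y) (x : X) :
    Synt.IsKoszulAt f x ↔ ∃ (U : X.Opens) (V : Y.Opens) (_ : IsAffineOpen U) (_ : IsAffineOpen V)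
      (hUV : U ≤ f ⁻¹ᵁ V), x ∈ U ∧
        letI := (f.appLE V U hUV).hom.toAlgebra
        LCI.IsLCI Γ(Y, V) Γ(X, U) := by
  constructor
  · rintro ⟨U, P, i, π, hxU, hlft, hi, hπ, hfac⟩
    obtain ⟨V, hV, hxV, -⟩ := exists_isAffineOpen_mem_and_subset (show f x ∈ (⊤ : Y.Opens) from trivial)
    obtain ⟨W, hW, hxW, hle⟩ := exists_isAffineOpen_mem_and_subset (show x ∈ U ⊓ f ⁻¹ᵁ V from ⟨hxU, hxV⟩)
    have hWV : W ≤ f ⁻¹ᵁ V := fun y hy => (hle hy).2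
    refine ⟨W, V, hW, hV, hWV, hxW, ?_⟩
    have hk : ∀ w, Synt.IsKoszulAt (W.ι ≫ f) w := fun w =>
      RegImm44.isKoszulAt_open_comp W.ι w ⟨U, P, i, π, (hle w.2).1, hlft, hi, hπ, hfac⟩
    haveI : IsAffine W.toScheme := hW
    have e' : (⊤ : W.toScheme.Opens) ≤ (W.ι ≫ f) ⁻¹ᵁ V := fun w _ => hWV w.2
    have eι : (⊤ : W.toScheme.Opens) ≤ W.ι ⁻¹ᵁ W := fun w _ => w.2
    letI : Algebra Γ(Y, V) Γ(X, W) := (f.appLE V W hWV).hom.toAlgebra
    letI : Algebra Γ(Y, V) Γ(W.toScheme, ⊤) := ((W.ι ≫ f).appLE V ⊤ e').hom.toAlgebra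
    have hcomp : (f.appLE V W hWV).hom = W.topIso.hom.hom.comp ((W.ι ≫ f).appLE V ⊤ e').hom := by
      rw [← CommRingCat.hom_comp, ← Scheme.Hom.appLE_comp_appLE W.ι f V W ⊤ hWV eι, Category.assoc,
        show W.ι.appLE W ⊤ eι = W.topIso.inv from by rw [Scheme.Opens.ι_appLE]; rfl, Iso.inv_hom_id,
        Category.comp_id]
    let e : Γ(W.toScheme, ⊤) ≃ₐ[Γ(Y, V)] Γ(X, W) :=
      AlgEquiv.ofRingEquiv (f := W.topIso.commRingCatIsoToRingEquiv) fun a =>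
        (RingHom.congr_fun hcomp a).symm
    exact Synt44.isLCI_of_equiv e
      (FlatMor.LCIChart.isLCI_of_isKoszulAt (W.ι ≫ f) hk ⊤ V (isAffineOpen_top _) hV e')
  · rintro ⟨U, V, hU, hV, hUV, hxU, h⟩
    exact FlatMor.LCIChart.isKoszulAt_of_isLCI f hU hV hUV h x hxU

theorem isOpen_koszul_locus_and_baseChange {S : Scheme.{u}} (f : X ⟶ Y) (g : Y ⟶ S)
    [Flat (f ≫ g)] [LocallyOfFinitePresentation (f ≫ g)] [Flat g] [LocallyOfFinitePresentation g] :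
    IsOpen {x : ↑X | (∃ (U : X.Opens) (V : Y.Opens) (hU : IsAffineOpen U) (hV : IsAffineOpen V) (hUV : U ≤ f ⁻¹ᵁ V), x ∈ U ∧
          letI := (f.appLE V U hUV).hom.toAlgebra
          LCI.IsLCI Γ(Y, V) Γ(X, U))} ∧
      ∀ {X' Y' S' : Scheme.{u}} (h : S' ⟶ S) (gY : Y' ⟶ Y) (g' : Y' ⟶ S') (hY : IsPullback gY g' g h)
        (gX : X' ⟶ X) (f' : X' ⟶ Y') (hX : IsPullback gX (f' ≫ g') (f ≫ g) h) (w : gX ≫ f = f' ≫ gY),
        {x' : ↑X' | (∃ (U : X'.Opens) (V : Y'.Opens) (hU : IsAffineOpen U) (hV : IsAffineOpen V) (hUV : U ≤ f' ⁻¹ᵁ V), x' ∈ U ∧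
          letI := (f'.appLE V U hUV).hom.toAlgebra
          LCI.IsLCI Γ(Y', V) Γ(X', U))} = gX ⁻¹' {x : ↑X | (∃ (U : X.Opens) (V : Y.Opens) (hU : IsAffineOpen U) (hV : IsAffineOpen V) (hUV : U ≤ f ⁻¹ᵁ V), x ∈ U ∧
          letI := (f.appLE V U hUV).hom.toAlgebra
          LCI.IsLCI Γ(Y, V) Γ(X, U))} := by
  refine ⟨?_, fun {X' Y' S'} h gY g' hY gX f' hX w => ?_⟩
  · refine isOpen_iff_forall_mem_open.2 ?_
    rintro x ⟨U, V, hU, hV, hUV, hxU, hl⟩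
    exact ⟨U, fun y hy => ⟨U, V, hU, hV, hUV, hy, hl⟩, U.2, hxU⟩
  · have hX' : IsPullback gX f' f gY := hX.of_bot w hY
    ext x'
    constructor
    · intro hx
      exact (koszulAt_iff_chart f (gX x')).1
        (AlgSpReg.isKoszulAt_of_baseChange_flat hY hX' ((koszulAt_iff_chart f' x').2 hx))
    · intro hx
      exact (koszulAt_iff_chart f' x').1
        (AlgSpReg.isKoszulAt_baseChange hY hX' ((koszulAt_iff_chart f (gX x')).2 hx))

end Groth.Agent.CInt77
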