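import Groth.Agent.CInt77.AvramovSeq
import Groth.Agent.CIntCI.BaseChange
import Groth.Agent.Synt44.CISpread
import Groth.Agent.KReg44.LCILocal
import Groth.Agent.KReg44.Smooth
import Groth.Agent.KReg44.Append
import Groth.Agent.KReg44.Vars
import Groth.Agent.FlatMor.PC.Stalks
import Groth.Agent.FlatMor.PC.TorDim

/-!
# Cancelling a morphism of finite tor dimension from a local complete intersection

If `R → B → C` is a local complete intersection and `B → C` has finite tor dimension, then `B → C`
is a local complete intersection and so is `R → B` near the image of `Spec C`.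
-/

set_option autoImplicit false
set_option linter.style.haveILetI false

universe u

open IsLocalRing RingTheory.Sequence MvPolynomial

namespace Groth.Agent.CInt77

theorem localRingHom_surjective_ker {P B : Type u} [CommRing P] [CommRing B] (φ : P →+* B) (hφ : Function.Surjective φ)
    (p : Ideal P) [p.IsPrime] (q : Ideal B) [q.IsPrime] (hpq : p = q.comap φ) :
    Function.Surjective (Localization.localRingHom p q φ hpq) ∧
      RingHom.ker (Localization.localRingHom p q φ hpq) =
        (RingHom.ker φ).map (algebraMap P (Localization.AtPrime p)) := by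
  have hT : p.primeCompl.map φ = q.primeCompl := by
    ext y
    constructor
    · rintro ⟨x, hx, rfl⟩ hxq
      exact hx (hpq ▸ hxq : x ∈ p)
    · intro hy
      obtain ⟨x, rfl⟩ := hφ y
      exact ⟨x, fun hx => hy (show x ∈ q.comap φ from hpq ▸ hx), rfl⟩
  haveI : IsLocalization (p.primeCompl.map φ) (Localization.AtPrime q) := by
    rw [hT]; infer_instance
  have he : Localization.localRingHom p q φ hpq = IsLocalization.map (S := Localization.AtPrime p)
      (T := p.primeCompl.map φ) (Localization.AtPrime q) φ p.primeCompl.le_comap_map := by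
    refine IsLocalization.ringHom_ext p.primeCompl ?_
    rw [IsLocalization.map_comp]
    exact RingHom.ext fun x => Localization.localRingHom_to_map p q φ hpq x
  rw [he]
  exact ⟨IsLocalization.map_surjective_of_surjective (M := p.primeCompl) (S := Localization.AtPrime p)
      (Q := Localization.AtPrime q) (g := φ) (h := hφ),
    IsLocalization.ker_map (Q := Localization.AtPrime q) (S := Localization.AtPrime p) (g := φ) rfl⟩

/-- A basic open of an affine space cut by a Koszul regular sequence is lci. -/
theorem isLCI_away_of_seq {k A : Type u} [CommRing k] [CommRing A] [Algebra k A] {n : ℕ}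
    (f : MvPolynomial (Fin n) k →ₐ[k] A) (hf : Function.Surjective f)
    (G : MvPolynomial (Fin n) k) {l : List (Localization.Away G)}
    (hl : LCI.IsKoszulRegularSeq (Localization.Away G) l)
    (hspan : (RingHom.ker f.toRingHom).map (algebraMap _ (Localization.Away G)) = Ideal.ofList l) :
    LCI.IsLCI k (Localization.Away (f G)) := by
  let P₀ := MvPolynomial (Fin n) k
  let pol : Polynomial P₀ := Polynomial.C G * Polynomial.X - 1
  have hpol : ∀ x, pol * x = 0 → x = 0 := fun x hx => by
    refine Polynomial.ext fun i => ?_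
    induction i with
    | zero =>
      have h := congrArg (fun z => Polynomial.coeff z 0) hx
      simpa [pol, sub_mul, mul_assoc] using h
    | succ i ih =>
      have h := congrArg (fun z => Polynomial.coeff z (i + 1)) hx
      simp only [pol, sub_mul, one_mul, mul_assoc, Polynomial.coeff_sub, Polynomial.coeff_C_mul,
        Polynomial.coeff_X_mul, Polynomial.coeff_zero] at h
      rw [ih, Polynomial.coeff_zero, mul_zero, zero_sub, neg_eq_zero] at h
      rw [h, Polynomial.coeff_zero]
  let e := MvPolynomial.finSuccEquiv k n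
  let a : AdjoinRoot pol ≃ₐ[k] Localization.Away G :=
    ((Localization.awayEquivAdjoin G).restrictScalars k).symm
  let m : Polynomial P₀ →ₐ[k] AdjoinRoot pol := Ideal.Quotient.mkₐ k (Ideal.span {pol})
  let ψ : MvPolynomial (Fin (n + 1)) k →ₐ[k] Localization.Away G := (a.toAlgHom.comp m).comp e.toAlgHom
  have hψ : Function.Surjective ψ :=
    (a.surjective.comp Ideal.Quotient.mk_surjective).comp e.surjective
  let h₁ := e.symm pol
  have hkψ : RingHom.ker ψ.toRingHom = Ideal.ofList [h₁] := by
    rw [Ideal.ofList_singleton]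
    ext z
    rw [RingHom.mem_ker, Ideal.mem_span_singleton]
    change a (m (e z)) = 0 ↔ _
    rw [EmbeddingLike.map_eq_zero_iff]
    change Ideal.Quotient.mk (Ideal.span {pol}) (e z) = 0 ↔ _
    rw [Ideal.Quotient.eq_zero_iff_mem, Ideal.mem_span_singleton]
    constructor
    · intro hd
      simpa [h₁] using map_dvd e.symm hd
    · intro hd
      simpa [h₁] using map_dvd e hd
  have hf₀ : LCI.IsKoszulRegularSeq (MvPolynomial (Fin (n + 1)) k) [h₁] :=
    KReg44.isKoszulRegularSeq_singleton fun x hx => by
      have h2 := congrArg e hx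
      rw [map_mul, map_zero, e.apply_symm_apply] at h2
      exact e.injective ((hpol _ h2).trans (map_zero e).symm)
  haveI : IsLocalization ((Submonoid.powers G).map f.toRingHom) (Localization.Away (f G)) := by
    rw [Submonoid.map_powers]; exact inferInstanceAs (IsLocalization (Submonoid.powers (f G)) _)
  have hu : ∀ y : Submonoid.powers G,
      IsUnit (((IsScalarTower.toAlgHom k A (Localization.Away (f G))).comp f) y) := by
    rintro ⟨_, m, rfl⟩
    simpa using (IsLocalization.Away.algebraMap_isUnit (S := Localization.Away (f G)) (f G)).pow m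
  let χ : Localization.Away G →ₐ[k] Localization.Away (f G) := IsLocalization.liftAlgHom hu
  have hχe : χ.toRingHom = IsLocalization.map (S := Localization.Away G) (T := (Submonoid.powers G).map f.toRingHom)
      (Localization.Away (f G)) f.toRingHom (Submonoid.powers G).le_comap_map := by
    refine IsLocalization.ringHom_ext (Submonoid.powers G) ?_
    rw [IsLocalization.map_comp]
    exact IsLocalization.lift_comp hu
  have hχ : Function.Surjective χ := by
    change Function.Surjective χ.toRingHom
    rw [hχe]
    exact IsLocalization.map_surjective_of_surjective (M := Submonoid.powers G) (S := Localization.Away G)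
      (Q := Localization.Away (f G)) (g := f.toRingHom) (h := hf)
  have hkχ : RingHom.ker χ.toRingHom = Ideal.ofList l := by
    rw [hχe, ← hspan]
    exact IsLocalization.ker_map (Q := Localization.Away (f G)) (S := Localization.Away G) (g := f.toRingHom) rfl
  obtain ⟨L, rfl⟩ : ∃ L : List (MvPolynomial (Fin (n + 1)) k), L.map ψ.toRingHom = l :=
    List.map_surjective_iff.mpr hψ l
  refine ⟨Algebra.FiniteType.of_surjective (χ.comp ψ) (hχ.comp hψ), n + 1, χ.comp ψ, hχ.comp hψ, ?_⟩
  rw [show RingHom.ker (χ.comp ψ).toRingHom = Ideal.ofList (L ++ [h₁]) by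
    change RingHom.ker (χ.toRingHom.comp ψ.toRingHom) = _
    rw [← RingHom.comap_ker, hkχ, ← Ideal.map_ofList, Ideal.ofList_append, ← hkψ]
    exact Ideal.comap_map_of_surjective' _ hψ _]
  exact KReg44.isKoszulRegularIdeal_of_seq (KReg44.isKoszulRegularSeq_append ψ.toRingHom hf₀ hψ hkψ hl)

/-- The local algebra of the cancellation. -/
theorem regular_of_quotient_maps {A D E : Type u} [CommRing A] [IsNoetherianRing A] [IsLocalRing A]
    [CommRing D] [CommRing E] [Algebra D E] [Nontrivial E] (πD : A →+* D) (hπD : Function.Surjective πD)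
    (πE : A →+* E) (hπE : Function.Surjective πE) (hcomp : (algebraMap D E).comp πD = πE)
    (htd : DRing.HasFiniteTorDim D E)
    (hJreg : ∃ rs : List A, Ideal.ofList rs = RingHom.ker πE ∧ IsRegular A rs) :
    (∃ rs : List A, Ideal.ofList rs = RingHom.ker πD ∧ IsRegular A rs) ∧
      ∃ ys : List D, IsWeaklyRegular D ys ∧ Ideal.ofList ys = RingHom.ker (algebraMap D E) := by
  let IA := RingHom.ker πD
  let JA := RingHom.ker πE
  have hIJ : IA ≤ JA := fun x (hx : πD x = 0) => by
    show πE x = 0
    rw [← hcomp, RingHom.comp_apply, hx, map_zero]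
  have hJA : JA ≠ ⊤ := RingHom.ker_ne_top πE
  let eD : A ⧸ IA ≃+* D := RingHom.quotientKerEquivOfSurjective hπD
  let eE : A ⧸ JA ≃+* E := RingHom.quotientKerEquivOfSurjective hπE
  letI : Algebra (A ⧸ IA) (A ⧸ JA) := (Ideal.Quotient.factor hIJ).toAlgebra
  haveI : IsScalarTower A (A ⧸ IA) (A ⧸ JA) :=
    IsScalarTower.of_algebraMap_eq (R := A) (S := A ⧸ IA) (A := A ⧸ JA) fun _ => rfl
  letI : Algebra (A ⧸ IA) D := eD.toRingHom.toAlgebra
  letI : Algebra (A ⧸ IA) E := ((algebraMap D E).comp eD.toRingHom).toAlgebra
  haveI : IsScalarTower (A ⧸ IA) D E := IsScalarTower.of_algebraMap_eq fun _ => rfl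
  haveI : Module.Flat (A ⧸ IA) D := RingHom.Flat.of_bijective eD.bijective
  let eAE : E ≃ₐ[A ⧸ IA] A ⧸ JA := AlgEquiv.ofRingEquiv (f := eE.symm) fun x => by
    obtain ⟨a, rfl⟩ := Ideal.Quotient.mk_surjective x
    rw [RingEquiv.symm_apply_eq]
    exact RingHom.congr_fun hcomp a
  have hfd : DRing.HasFiniteTorDim (A ⧸ IA) (A ⧸ JA) := by
    obtain ⟨d', hd'⟩ := FlatMor.PC.finTorDim_trans (A := A ⧸ IA) (B := D) (C := E)
      FlatMor.PC.finTorDim_of_flat htd
    exact ⟨d', FlatMor.PC.hasTorDimLE_congr eAE.toLinearEquiv hd'⟩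
  obtain ⟨hIreg, rs', hrs', hreg'⟩ := Avramov.regular_of_finiteTorDim IA JA hIJ hJA
    (fun x hx hxm => Avramov.mem_maximal_mul IA JA hIJ hJA hfd x hx hxm) hJreg
  refine ⟨hIreg, rs'.map eD, Synt44.isWeaklyRegular_map_ringEquiv eD hreg'.toIsWeaklyRegular, ?_⟩
  rw [show rs'.map eD = rs'.map (eD : A ⧸ IA →+* D) from rfl, ← Ideal.map_ofList, hrs', Ideal.map_map,
    show (eD : A ⧸ IA →+* D).comp (Ideal.Quotient.mk IA) = πD from RingHom.ext fun _ => rfl,
    show JA = (RingHom.ker (algebraMap D E)).comap πD by rw [RingHom.comap_ker, hcomp],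
    Ideal.map_comap_of_surjective πD hπD]

/-- The cancellation at a prime. -/
theorem regular_at_prime {Q By C : Type u} [CommRing Q] [IsNoetherianRing Q] [CommRing By] [CommRing C]
    [Algebra By C] (μ : Q →+* By) (hμ : Function.Surjective μ) (hψ : Function.Surjective (algebraMap By C))
    (hL : LCI.IsKoszulRegularIdeal (RingHom.ker ((algebraMap By C).comp μ)))
    (htd : DRing.HasFiniteTorDim By C) (q : Ideal C) [q.IsPrime] :
    (∃ ys : List (Localization.AtPrime (q.comap (algebraMap By C))),
      IsWeaklyRegular (Localization.AtPrime (q.comap (algebraMap By C))) ys ∧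
        Ideal.ofList ys = (RingHom.ker (algebraMap By C)).map
          (algebraMap By (Localization.AtPrime (q.comap (algebraMap By C))))) ∧
    ∃ rs : List (Localization.AtPrime (q.comap ((algebraMap By C).comp μ))),
      Ideal.ofList rs = (RingHom.ker μ).map
          (algebraMap Q (Localization.AtPrime (q.comap ((algebraMap By C).comp μ)))) ∧
        IsRegular (Localization.AtPrime (q.comap ((algebraMap By C).comp μ))) rs := by
  let ψ := algebraMap By C
  let σ := ψ.comp μ
  let q₁ := q.comap ψ
  let q₂ := q.comap σ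
  have hσ : Function.Surjective σ := hψ.comp hμ
  let A := Localization.AtPrime q₂
  let D := Localization.AtPrime q₁
  let E := Localization.AtPrime q
  let πD : A →+* D := Localization.localRingHom q₂ q₁ μ rfl
  let πE : A →+* E := Localization.localRingHom q₂ q σ rfl
  let πDE : D →+* E := Localization.localRingHom q₁ q ψ rfl
  obtain ⟨hπD, hkD⟩ := localRingHom_surjective_ker μ hμ q₂ q₁ rfl
  obtain ⟨hπE, hkE⟩ := localRingHom_surjective_ker σ hσ q₂ q rfl
  have hcomp : πDE.comp πD = πE := (Localization.localRingHom_comp q₂ q₁ q μ rfl ψ rfl).symm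
  haveI : IsNoetherianRing A := IsLocalization.isNoetherianRing q₂.primeCompl _ inferInstance
  letI algDE : Algebra D E := πDE.toAlgebra
  haveI : IsScalarTower By D E := IsScalarTower.of_algebraMap_eq fun x => by
    show algebraMap By E x = πDE (algebraMap By D x)
    rw [Localization.localRingHom_to_map, IsScalarTower.algebraMap_apply By C E]
  haveI : Module.Flat C E := IsLocalization.flat E q.primeCompl
  have htdE : DRing.HasFiniteTorDim D E :=
    FlatMor.PC.finTorDim_of_localization_base (A := By) q₁.primeCompl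
      (FlatMor.PC.finTorDim_trans (B := C) htd FlatMor.PC.finTorDim_of_flat)
  have hσq : RingHom.ker σ ≤ q₂ := fun x (hx : σ x = 0) => by
    show σ x ∈ q
    rw [hx]; exact zero_mem q
  have hJreg : ∃ rs : List A, Ideal.ofList rs = RingHom.ker πE ∧ IsRegular A rs := by
    obtain ⟨rs, h1, h2⟩ := Synt44.isRegularIdeal_map_atPrime hL q₂ hσq
    exact ⟨rs, h2.trans hkE.symm, h1⟩
  obtain ⟨⟨rs, hrs, hrsreg⟩, ys, hys, hysp⟩ := regular_of_quotient_maps πD hπD πE hπE hcomp htdE hJreg
  exact ⟨⟨ys, hys, hysp.trans (localRingHom_surjective_ker ψ hψ q₁ q rfl).2⟩, rs, hrs.trans hkD, hrsreg⟩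

/-- Cancelling a morphism of finite tor dimension. -/
theorem lci_cancel {R B C : Type u} [CommRing R] [IsNoetherianRing R] [CommRing B] [CommRing C] [Algebra R B]
    [Algebra B C] [Algebra R C] [IsScalarTower R B C] [Algebra.FiniteType R B] (hC : LCI.IsLCI R C)
    (htd : DRing.HasFiniteTorDim B C) :
    LCI.IsLCI B C ∧ ∀ (q : Ideal C) [q.IsPrime], ∃ b ∉ q.comap (algebraMap B C),
      LCI.IsLCI R (Localization.Away b) := by
  haveI : Algebra.FiniteType R C := hC.1
  haveI : Algebra.FiniteType B C := Algebra.FiniteType.of_restrictScalars_finiteType R B C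
  haveI : IsNoetherianRing B := Algebra.FiniteType.isNoetherianRing R B
  obtain ⟨m, φ, hφ⟩ := Algebra.FiniteType.iff_quotient_mvPolynomial''.1 (inferInstance : Algebra.FiniteType R B)
  obtain ⟨n, ψ, hψ⟩ := Algebra.FiniteType.iff_quotient_mvPolynomial''.1 (inferInstance : Algebra.FiniteType B C)
  let P := MvPolynomial (Fin m) R
  let Q := MvPolynomial (Fin n) P
  let By := MvPolynomial (Fin n) B
  let μ : Q →ₐ[R] By := MvPolynomial.mapAlgHom φ
  have hμ : Function.Surjective μ := MvPolynomial.map_surjective φ.toRingHom hφ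
  have hkμ : RingHom.ker μ.toRingHom = (RingHom.ker φ.toRingHom).map MvPolynomial.C :=
    MvPolynomial.ker_map φ.toRingHom
  let ψR : By →ₐ[R] C := ψ.restrictScalars R
  let σ : Q →ₐ[R] C := ψR.comp μ
  have hσ : Function.Surjective σ := hψ.comp hμ
  -- the composite presentation is Koszul regular
  have hL : LCI.IsKoszulRegularIdeal (RingHom.ker σ.toRingHom) := by
    obtain ⟨-, N, α, hα, hker⟩ := hC
    let e : MvPolynomial (Fin (n + m)) R ≃ₐ[R] Q :=
      (MvPolynomial.renameEquiv R finSumFinEquiv.symm).trans (MvPolynomial.sumAlgEquiv R (Fin n) (Fin m))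
    have hβ : Function.Surjective (σ.comp e.toAlgHom) := hσ.comp e.surjective
    have h := KReg44.isKoszulRegularIdeal_ker_of_presentation α hα (σ.comp e.toAlgHom) hβ hker
    refine KReg44.isKoszulRegularIdeal_of_equiv e.symm.toRingEquiv ?_
    convert h using 1
    ext z
    rw [Ideal.mem_map_iff_of_surjective e.symm.toRingEquiv.toRingHom e.symm.surjective]
    constructor
    · rintro ⟨x, hx, rfl⟩
      show σ (e (e.symm x)) = 0
      rw [e.apply_symm_apply]
      exact hx
    · intro hz
      exact ⟨e z, hz, e.symm_apply_apply z⟩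
  -- the situation at a prime
  letI algByC : Algebra By C := ψ.toRingHom.toAlgebra
  haveI : IsScalarTower B By C := IsScalarTower.of_algebraMap_eq fun b => (ψ.commutes b).symm
  have htd' : DRing.HasFiniteTorDim By C := FlatMor.PC.finTorDim_polynomial (A := B) (n := n) htd
  have hL' : LCI.IsKoszulRegularIdeal (RingHom.ker ((algebraMap By C).comp μ.toRingHom)) := hL
  have key : ∀ (q : Ideal C) [q.IsPrime], ∃ b ∉ q.comap (algebraMap B C), LCI.IsLCI R (Localization.Away b) := by
    intro q _
    obtain ⟨-, rs, hrs, hrsreg⟩ := regular_at_prime μ.toRingHom hμ hψ hL' htd' q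
    let q₂ := q.comap ((algebraMap By C).comp μ.toRingHom)
    let A := Localization.AtPrime q₂
    -- descend to the presentation of `B`
    let p := q₂.comap (algebraMap P Q)
    haveI : p.IsPrime := inferInstanceAs (q₂.comap (algebraMap P Q)).IsPrime
    let Pp := Localization.AtPrime p
    let lh := Localization.localRingHom p q₂ (algebraMap P Q) rfl
    letI : Algebra Pp A := lh.toAlgebra
    haveI : IsLocalHom (algebraMap Pp A) := Localization.isLocalHom_localRingHom p q₂ (algebraMap P Q) rfl
    haveI : Module.Flat Pp A := (RingHom.flat_algebraMap_iff.2 (inferInstance : Module.Flat P Q)).localRingHom q₂ p rfl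
    haveI : IsNoetherianRing Pp := IsLocalization.isNoetherianRing p.primeCompl _ inferInstance
    let IP := (RingHom.ker φ.toRingHom).map (algebraMap P Pp)
    have hIPA : IP.map (algebraMap Pp A) = (RingHom.ker μ.toRingHom).map (algebraMap Q A) := by
      show (Ideal.map (algebraMap P Pp) _).map lh = _
      rw [Ideal.map_map, hkμ, Ideal.map_map]
      congr 1
      exact RingHom.ext fun x => Localization.localRingHom_to_map p q₂ (algebraMap P Q) rfl x
    have hcy : ∀ x : P, σ (MvPolynomial.C x) = algebraMap B C (φ x) := fun x => by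
      show ψ (MvPolynomial.map φ.toRingHom (MvPolynomial.C x)) = _
      rw [MvPolynomial.map_C]
      exact ψ.commutes (φ x)
    have hIPne : IP ≠ ⊤ := by
      refine ne_top_of_le_ne_top (maximalIdeal.isMaximal Pp).ne_top ?_
      rw [← Localization.AtPrime.map_eq_maximalIdeal]
      refine Ideal.map_mono fun x (hx : φ x = 0) => ?_
      show σ (MvPolynomial.C x) ∈ q
      rw [hcy, hx, map_zero]
      exact zero_mem q
    obtain ⟨ys, hys, hysreg⟩ := (CIntCI.exists_regular_iff_of_flat IP hIPne).2 ⟨rs, hrs.trans hIPA.symm, hrsreg⟩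
    obtain ⟨G, hG, l, hl, hspan⟩ :=
      Synt44.exists_away_of_regular_atPrime (RingHom.ker φ.toRingHom) p ys hysreg.toIsWeaklyRegular hys
    refine ⟨φ G, fun hmem => hG ?_, isLCI_away_of_seq φ hφ G hl hspan⟩
    show σ (MvPolynomial.C G) ∈ q
    rw [hcy]
    exact hmem
  refine ⟨⟨inferInstance, n, ψ, hψ, fun P₁ hP₁ => ?_⟩, key⟩
  let q : Ideal C := P₁.asIdeal.map ψ.toRingHom
  haveI : q.IsPrime := Ideal.map_isPrime_of_surjective hψ hP₁
  have hq : q.comap ψ.toRingHom = P₁.asIdeal := by
    rw [Ideal.comap_map_of_surjective ψ.toRingHom hψ, ← RingHom.ker_eq_comap_bot, sup_eq_left]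
    exact hP₁
  obtain ⟨⟨ys, hys, hspan⟩, -⟩ := regular_at_prime μ.toRingHom hμ hψ hL' htd' q
  obtain ⟨g, hg, l, hl, hl'⟩ :=
    Synt44.exists_away_of_regular_atPrime (RingHom.ker ψ.toRingHom) (q.comap ψ.toRingHom) ys hys hspan
  exact ⟨g, hq ▸ hg, l, hl, hl'⟩

end Groth.Agent.CInt77
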