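import Groth.Agent.CInt77.LCICancel
import Groth.Agent.FlatMor.LCIChart
import Groth.Agent.Synt44.FlatLCI
import Groth.Prelude.Def_MoreMor

/-!
# The target of a local complete intersection with finite tor dimension
-/

set_option autoImplicit false
set_option linter.style.haveILetI false

universe u

open AlgebraicGeometry CategoryTheory

namespace Groth.Agent.CInt77

theorem lci_and_koszulAt_target {X Y S : Scheme.{u}} (f : X ⟶ Y) (g : Y ⟶ S) [IsLocallyNoetherian S]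
    [LocallyOfFiniteType g]
    (hf : ∀ (U : X.Opens) (V : Y.Opens) (_ : IsAffineOpen U) (_ : IsAffineOpen V) (hUV : U ≤ f ⁻¹ᵁ V),
      (f.appLE V U hUV).hom.FiniteType →
      letI := (f.appLE V U hUV).hom.toAlgebra
      DRing.HasFiniteTorDim Γ(Y, V) Γ(X, U))
    (h : ∀ x : X, Synt.IsKoszulAt (f ≫ g) x) :
    (∀ x : X, Synt.IsKoszulAt f x) ∧ ∀ x : X, Synt.IsKoszulAt g (f x) := by
  have key : ∀ x : X, Synt.IsKoszulAt f x ∧ Synt.IsKoszulAt g (f x) := by
    intro x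
    obtain ⟨W, hW, hxW, -⟩ := exists_isAffineOpen_mem_and_subset (show g (f x) ∈ (⊤ : S.Opens) from trivial)
    obtain ⟨V, hV, hxV, eV⟩ := exists_isAffineOpen_mem_and_subset (show f x ∈ g ⁻¹ᵁ W from hxW)
    obtain ⟨U, hU, hxU, eU⟩ := exists_isAffineOpen_mem_and_subset (show x ∈ f ⁻¹ᵁ V from hxV)
    have eV' : V ≤ g ⁻¹ᵁ W := eV
    have eU' : U ≤ f ⁻¹ᵁ V := eU
    have eUW : U ≤ (f ≫ g) ⁻¹ᵁ W := fun y hy => eV' (eU' hy)
    letI algRB : Algebra Γ(S, W) Γ(Y, V) := (g.appLE W V eV').hom.toAlgebra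
    letI algBC : Algebra Γ(Y, V) Γ(X, U) := (f.appLE V U eU').hom.toAlgebra
    letI algRC : Algebra Γ(S, W) Γ(X, U) := ((f ≫ g).appLE W U eUW).hom.toAlgebra
    haveI : IsScalarTower Γ(S, W) Γ(Y, V) Γ(X, U) := IsScalarTower.of_algebraMap_eq' (by
      show ((f ≫ g).appLE W U eUW).hom = (f.appLE V U eU').hom.comp (g.appLE W V eV').hom
      rw [← CommRingCat.hom_comp, Scheme.Hom.appLE_comp_appLE])
    haveI : IsNoetherianRing Γ(S, W) := IsLocallyNoetherian.component_noetherian ⟨W, hW⟩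
    haveI hB : Algebra.FiniteType Γ(S, W) Γ(Y, V) := g.finiteType_appLE hW hV eV'
    have hC : LCI.IsLCI Γ(S, W) Γ(X, U) :=
      FlatMor.LCIChart.isLCI_of_isKoszulAt (f ≫ g) h U W hU hW eUW
    haveI : Algebra.FiniteType Γ(S, W) Γ(X, U) := hC.1
    haveI : Algebra.FiniteType Γ(Y, V) Γ(X, U) :=
      Algebra.FiniteType.of_restrictScalars_finiteType Γ(S, W) Γ(Y, V) Γ(X, U)
    obtain ⟨hBC, hRB⟩ := lci_cancel hC (hf U V hU hV eU' (inferInstance : Algebra.FiniteType Γ(Y, V) Γ(X, U)))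
    refine ⟨FlatMor.LCIChart.isKoszulAt_of_isLCI f hU hV eU' hBC x hxU, ?_⟩
    let q := (hU.primeIdealOf ⟨x, hxU⟩).asIdeal
    obtain ⟨b, hb, hlci⟩ := hRB q
    have hbx : f x ∈ Y.basicOpen b := by
      have h1 : (hU.primeIdealOf ⟨x, hxU⟩) ∈ PrimeSpectrum.basicOpen ((f.appLE V U eU').hom b) := hb
      rw [← hU.fromSpec_preimage_basicOpen] at h1
      have h2 : hU.fromSpec (hU.primeIdealOf ⟨x, hxU⟩) ∈ X.basicOpen ((f.appLE V U eU').hom b) := h1
      rw [hU.fromSpec_primeIdealOf] at h2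
      rw [Scheme.basicOpen_appLE] at h2
      exact h2.2
    have ele : Y.basicOpen b ≤ g ⁻¹ᵁ W := (Y.basicOpen_le b).trans eV'
    letI : Algebra Γ(S, W) Γ(Y, Y.basicOpen b) := (g.appLE W (Y.basicOpen b) ele).hom.toAlgebra
    haveI : IsScalarTower Γ(S, W) Γ(Y, V) Γ(Y, Y.basicOpen b) := IsScalarTower.of_algebraMap_eq' (by
      show (g.appLE W (Y.basicOpen b) ele).hom = _
      rw [← Scheme.Hom.appLE_map g eV' (homOfLE (Y.basicOpen_le b)).op]
      rfl)
    haveI := hV.isLocalization_basicOpen b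
    let e : Localization.Away b ≃ₐ[Γ(S, W)] Γ(Y, Y.basicOpen b) :=
      (IsLocalization.algEquiv (Submonoid.powers b) (Localization.Away b) Γ(Y, Y.basicOpen b)).restrictScalars Γ(S, W)
    exact FlatMor.LCIChart.isKoszulAt_of_isLCI g (hV.basicOpen b) hW ele (Synt44.isLCI_of_equiv e hlci) (f x) hbx
  exact ⟨fun x => (key x).1, fun x => (key x).2⟩

end Groth.Agent.CInt77
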