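import Groth.Agent.CInt77.RelativeCI
import Groth.Agent.CInt77.AvramovLocal
import Groth.Agent.CIntCI.TransReg
import Groth.Agent.Hensel.Completion
import Groth.Agent.S2840
import Groth.Agent.Synt44.CILocal
import Groth.Agent.EGA4Lib.CplFlat

/-!
# Independence of the presentation for complete intersection homomorphisms
-/

set_option autoImplicit false
set_option linter.style.haveILetI false

universe u

open IsLocalRing RingTheory.Sequence
open scoped TensorProduct

namespace Groth.Agent.CInt77

theorem isAdicComplete_prod {R : Type u} [CommRing R] (I : Ideal R) {M N : Type u} [AddCommGroup M] [Module R M]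
    [AddCommGroup N] [Module R N] [IsAdicComplete I M] [IsAdicComplete I N] : IsAdicComplete I (M × N) := by
  have hmem : ∀ (n : ℕ) (x : M × N), x.1 ∈ (I ^ n • ⊤ : Submodule R M) → x.2 ∈ (I ^ n • ⊤ : Submodule R N) →
      x ∈ (I ^ n • ⊤ : Submodule R (M × N)) := fun n x h1 h2 => by
    have e : x = LinearMap.inl R M N x.1 + LinearMap.inr R M N x.2 := by simp
    rw [e]
    refine add_mem ?_ ?_
    · have hh := Submodule.mem_map_of_mem (f := LinearMap.inl R M N) h1
      rw [Submodule.map_smul''] at hh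
      exact Submodule.smul_mono le_rfl le_top hh
    · have hh := Submodule.mem_map_of_mem (f := LinearMap.inr R M N) h2
      rw [Submodule.map_smul''] at hh
      exact Submodule.smul_mono le_rfl le_top hh
  have hproj : ∀ (n : ℕ) (x : M × N), x ∈ (I ^ n • ⊤ : Submodule R (M × N)) →
      x.1 ∈ (I ^ n • ⊤ : Submodule R M) ∧ x.2 ∈ (I ^ n • ⊤ : Submodule R N) := fun n x hx => by
    constructor
    · have hh := Submodule.mem_map_of_mem (f := LinearMap.fst R M N) hx
      rw [Submodule.map_smul''] at hh
      exact Submodule.smul_mono le_rfl le_top hh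
    · have hh := Submodule.mem_map_of_mem (f := LinearMap.snd R M N) hx
      rw [Submodule.map_smul''] at hh
      exact Submodule.smul_mono le_rfl le_top hh
  refine { haus' := fun x hx => ?_, prec' := fun f hf => ?_ }
  · exact Prod.ext (IsHausdorff.haus (I := I) inferInstance x.1 fun n => SModEq.zero.2 (hproj n x (SModEq.zero.1 (hx n))).1)
      (IsHausdorff.haus (I := I) inferInstance x.2 fun n => SModEq.zero.2 (hproj n x (SModEq.zero.1 (hx n))).2)
  · obtain ⟨L₁, hL₁⟩ := IsPrecomplete.prec (I := I) inferInstance (f := fun n => (f n).1)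
      fun h => SModEq.sub_mem.2 (hproj _ _ (SModEq.sub_mem.1 (hf h))).1
    obtain ⟨L₂, hL₂⟩ := IsPrecomplete.prec (I := I) inferInstance (f := fun n => (f n).2)
      fun h => SModEq.sub_mem.2 (hproj _ _ (SModEq.sub_mem.1 (hf h))).2
    exact ⟨(L₁, L₂), fun n => SModEq.sub_mem.2 (hmem n _ (SModEq.sub_mem.1 (hL₁ n)) (SModEq.sub_mem.1 (hL₂ n)))⟩

section FibreProduct

variable {A B S S' : Type u} [CommRing A] [CommRing B] [CommRing S] [CommRing S'] [IsLocalRing A]
  [IsLocalRing B] [IsLocalRing S] [IsLocalRing S'] [IsNoetherianRing B] [IsNoetherianRing S] [IsNoetherianRing S']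
  [IsAdicComplete (maximalIdeal S) S] [IsAdicComplete (maximalIdeal S') S']
  [Algebra A B] [Algebra A S] [Algebra A S'] [IsLocalHom (algebraMap A S)]

/-- The fibre product of two complete Noetherian local rings over a common quotient. -/
theorem exists_fibre_product (g : S →ₐ[A] B) (g' : S' →ₐ[A] B) (hg : Function.Surjective g)
    (hg' : Function.Surjective g') :
    ∃ (P : Type u) (_ : CommRing P) (_ : IsLocalRing P) (_ : IsNoetherianRing P)
      (_ : IsAdicComplete (maximalIdeal P) P) (_ : Algebra A P) (_ : IsLocalHom (algebraMap A P))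
      (p1 : P →ₐ[A] S) (p2 : P →ₐ[A] S'),
        Function.Surjective p1 ∧ Function.Surjective p2 ∧ g.comp p1 = g'.comp p2 := by
  haveI : IsLocalHom g := ⟨fun a ha => (IsLocalHom.of_surjective g.toRingHom hg).map_nonunit a ha⟩
  haveI : IsLocalHom g' := ⟨fun a ha => (IsLocalHom.of_surjective g'.toRingHom hg').map_nonunit a ha⟩
  let P : Subalgebra A (S × S') := AlgHom.equalizer (g.comp (AlgHom.fst A S S')) (g'.comp (AlgHom.snd A S S'))
  let p1 : P →ₐ[A] S := (AlgHom.fst A S S').comp P.val
  let p2 : P →ₐ[A] S' := (AlgHom.snd A S S').comp P.val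
  have hcomm : ∀ x : P, g (p1 x) = g' (p2 x) := fun x => x.2
  have h1 : Function.Surjective p1 := fun s => by
    obtain ⟨s', hs'⟩ := hg' (g s)
    exact ⟨⟨(s, s'), hs'.symm⟩, rfl⟩
  have h2 : Function.Surjective p2 := fun s' => by
    obtain ⟨s, hs⟩ := hg (g' s')
    exact ⟨⟨(s, s'), hs⟩, rfl⟩
  letI : Algebra P S := p1.toRingHom.toAlgebra
  letI : Algebra P S' := p2.toRingHom.toAlgebra
  haveI : IsNoetherian P S := S2840.isNoetherian_of_surjective_algebraMap h1
  haveI : IsNoetherian P S' := S2840.isNoetherian_of_surjective_algebraMap h2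
  letI : Module P (S × S') := Prod.instModule
  haveI : IsNoetherian P (S × S') := inferInstance
  let ι : P →ₗ[P] S × S' :=
    { toFun := fun x => x.1
      map_add' := fun _ _ => rfl
      map_smul' := fun _ _ => rfl }
  have hι : Function.Injective ι := fun a b h => Subtype.ext h
  haveI : IsNoetherianRing P := isNoetherian_of_injective ι hι
  haveI : Nontrivial P := (p1 : P →+* S).domain_nontrivial
  have hunit : ∀ x : P, IsUnit (p1 x) → IsUnit x := fun x hx => by
    have h' : IsUnit (g (p1 x)) := hx.map g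
    rw [hcomm] at h'
    obtain ⟨u, hu⟩ := hx
    obtain ⟨v, hv⟩ := IsLocalHom.map_nonunit (f := g') _ h'
    refine IsUnit.of_mul_eq_one (⟨((↑u⁻¹ : S), (↑v⁻¹ : S')), ?_⟩ : P) (Subtype.ext (Prod.ext ?_ ?_))
    · show g (↑u⁻¹ : S) = g' (↑v⁻¹ : S')
      refine (u.isUnit.map g).mul_left_cancel ?_
      rw [← map_mul, Units.mul_inv, map_one, hu, hcomm x, ← hv, ← map_mul, Units.mul_inv, map_one]
    · show p1 x * (↑u⁻¹ : S) = 1
      rw [← hu, Units.mul_inv]
    · show p2 x * (↑v⁻¹ : S') = 1
      rw [← hv, Units.mul_inv]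
  haveI : IsLocalHom (p1 : P →+* S) := ⟨hunit⟩
  haveI : IsLocalRing P := (p1 : P →+* S).domain_isLocalRing
  haveI : Module.Finite P (S × S') := Module.IsNoetherian.finite P (S × S')
  haveI hcS : IsAdicComplete (maximalIdeal P) S := by
    rw [← IsAdicComplete.map_algebraMap_iff (S := S), IsLocalRing.map_maximalIdeal_of_surjective (algebraMap P S) h1]
    infer_instance
  haveI hcS' : IsAdicComplete (maximalIdeal P) S' := by
    rw [← IsAdicComplete.map_algebraMap_iff (S := S'), IsLocalRing.map_maximalIdeal_of_surjective (algebraMap P S') h2]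
    infer_instance
  haveI hcSS : IsAdicComplete (maximalIdeal P) (S × S') := isAdicComplete_prod (maximalIdeal P)
  have hbij : Function.Bijective (AdicCompletion.of (maximalIdeal P) P) := by
    have hM := (AdicCompletion.of_bijective_iff (I := maximalIdeal P) (M := S × S')).2 hcSS
    constructor
    · intro a b hab
      refine hι (hM.1 ?_)
      rw [← AdicCompletion.map_of, ← AdicCompletion.map_of, hab]
    · intro x
      obtain ⟨m, hm⟩ := hM.2 (AdicCompletion.map (maximalIdeal P) ι x)
      have h0 : AdicCompletion.of (maximalIdeal P) ((S × S') ⧸ LinearMap.range ι) ((LinearMap.range ι).mkQ m) = 0 := by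
        rw [← AdicCompletion.map_of, hm, ← LinearMap.comp_apply, AdicCompletion.map_comp,
          (LinearMap.range_mkQ_comp ι), AdicCompletion.map_zero, LinearMap.zero_apply]
      have h1' : (LinearMap.range ι).mkQ m = 0 :=
        AdicCompletion.of_injective (maximalIdeal P) ((S × S') ⧸ LinearMap.range ι) (h0.trans (map_zero _).symm)
      obtain ⟨a, ha⟩ := (Submodule.Quotient.mk_eq_zero _).1 h1'
      refine ⟨a, AdicCompletion.map_injective (maximalIdeal P) hι ?_⟩
      rw [AdicCompletion.map_of, ha, hm]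
  haveI : IsAdicComplete (maximalIdeal P) P := AdicCompletion.of_bijective_iff.1 hbij
  haveI : IsLocalHom (algebraMap A P) := ⟨fun a ha => IsLocalHom.map_nonunit (f := algebraMap A S) a (by
    have h := ha.map p1
    rwa [p1.commutes] at h)⟩
  exact ⟨P, inferInstance, inferInstance, inferInstance, inferInstance, inferInstance, inferInstance, p1, p2,
    h1, h2, AlgHom.ext hcomm⟩

end FibreProduct

variable {A : Type u} [CommRing A] [IsLocalRing A] [IsNoetherianRing A]

/-- The kernel of a surjection between flat local algebras with regular closed fibres. -/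
theorem kernel_of_regular_fibres {T S : Type u} [CommRing T] [CommRing S] [IsLocalRing T] [IsLocalRing S]
    [IsNoetherianRing T] [IsNoetherianRing S] [Algebra A T] [Algebra A S]
    [IsLocalHom (algebraMap A T)] [IsLocalHom (algebraMap A S)]
    [Module.Flat A T] [Module.Flat A S] [IsRegularLocalRing (EGA4.FibRing A T)]
    [IsRegularLocalRing (EGA4.FibRing A S)] (π : T →ₐ[A] S) (hπ : Function.Surjective π) :
    (∃ rs : List T, Ideal.ofList rs = RingHom.ker π.toRingHom ∧ IsRegular T rs) ∧
      ∀ x ∈ RingHom.ker π.toRingHom, x ∈ maximalIdeal T * maximalIdeal T →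
        x ∈ maximalIdeal T * RingHom.ker π.toRingHom := by
  set K : Ideal T := RingHom.ker π.toRingHom
  set mT := EGA4.mB A T
  let mk : T →+* EGA4.FibRing A T := Ideal.Quotient.mk mT
  let Kb : Ideal (EGA4.FibRing A T) := K.map mk
  haveI : Module.Flat A (T ⧸ K) :=
    Module.Flat.of_linearEquiv (Ideal.quotientKerAlgEquivOfSurjective hπ).toLinearEquiv
  have hm : (EGA4.mB A T).map π.toRingHom = EGA4.mB A S := by
    show ((maximalIdeal A).map (algebraMap A T)).map π.toRingHom = _
    rw [Ideal.map_map, show π.toRingHom.comp (algebraMap A T) = algebraMap A S from RingHom.ext π.commutes]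
  let ψ : T →+* EGA4.FibRing A S := (Ideal.Quotient.mk _).comp π.toRingHom
  have hψ : Function.Surjective ψ := Ideal.Quotient.mk_surjective.comp hπ
  have hkψ : RingHom.ker ψ = mT ⊔ K := by
    rw [← RingHom.comap_ker, Ideal.mk_ker, ← hm, Ideal.comap_map_of_surjective π.toRingHom hπ,
      ← RingHom.ker_eq_comap_bot]
  let e : EGA4.FibRing A T ⧸ Kb ≃+* EGA4.FibRing A S :=
    (DoubleQuot.quotQuotEquivQuotSup mT K).trans
      ((Ideal.quotEquivOfEq hkψ.symm).trans (RingHom.quotientKerEquivOfSurjective hψ))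
  haveI : IsRegularLocalRing (EGA4.FibRing A T ⧸ Kb) := IsRegularLocalRing.of_ringEquiv e.symm
  have hKbne : Kb ≠ ⊤ := Ideal.Quotient.nontrivial_iff.1 inferInstance
  let F := EGA4.FibRing A T
  let m := maximalIdeal F
  have hmne : m ≠ ⊤ := (maximalIdeal.isMaximal F).ne_top
  letI : Algebra (F ⧸ Kb) (F ⧸ m) := (Ideal.Quotient.factor (le_maximalIdeal hKbne)).toAlgebra
  haveI : IsScalarTower F (F ⧸ Kb) (F ⧸ m) :=
    IsScalarTower.of_algebraMap_eq (R := F) (S := F ⧸ Kb) (A := F ⧸ m) fun _ => rfl
  obtain ⟨n, hn, -⟩ := RegLoc.exists_natCast_eq_ringKrullDim (F ⧸ Kb)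
  have hfd : DRing.HasFiniteTorDim (F ⧸ Kb) (F ⧸ m) :=
    ⟨n, torDim_of_pd n _ (RegLoc.Homological.pd_le_dim hn _)⟩
  have hlem : ∀ x ∈ Kb, x ∈ m * m → x ∈ m * Kb :=
    fun x hx hxm => Avramov.mem_maximal_mul Kb m (le_maximalIdeal hKbne) hmne hfd x hx hxm
  have hmreg : ∃ rs : List F, Ideal.ofList rs = m ∧ IsRegular F rs :=
    (Synt44.exists_regular_iff_spanFinrank m hmne).2 (by
      rw [ringKrullDim_eq_zero_of_isField ((Ideal.Quotient.maximal_ideal_iff_isField_quotient m).1
        (maximalIdeal.isMaximal F)), add_zero]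
      exact le_of_eq (IsRegularLocalRing.spanFinrank_maximalIdeal (R := F)))
  refine ⟨?_, ?_⟩
  · obtain ⟨⟨rs, hrs, hreg⟩, -⟩ :=
      Avramov.regular_of_finiteTorDim Kb m (le_maximalIdeal hKbne) hmne hlem hmreg
    have hlift : ∀ r ∈ rs, ∃ x ∈ K, mk x = r := fun r hr =>
      (Ideal.mem_map_iff_of_surjective mk Ideal.Quotient.mk_surjective).1 (hrs.le (Ideal.subset_span hr))
    choose! lift hliftK hliftmk using hlift
    let hs := rs.map lift
    have hmap : hs.map mk = rs := by
      rw [List.map_map]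
      conv_rhs => rw [← List.map_id rs]
      exact List.map_congr_left hliftmk
    have htr : RegImm.IsTransRegularSeq A T hs :=
      (CIntCI.isTransRegularSeq_iff hs).2 (hmap.symm ▸ hreg.toIsWeaklyRegular)
    have hle : Ideal.ofList hs ≤ K := Ideal.span_le.2 fun x hx => by
      obtain ⟨r, hr, rfl⟩ := List.mem_map.1 hx
      exact hliftK r hr
    have heq : Ideal.ofList hs = K := by
      refine CIntCI.eq_of_flat_quotient (A := A) hle ?_
      rw [← Ideal.comap_map_quotientMk mT (Ideal.ofList hs), Ideal.map_ofList, hmap, hrs]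
      exact Ideal.le_comap_map
    refine ⟨hs, heq, .of_isWeaklyRegular_of_mem_maximalIdeal _ (fun x hx => ?_) htr.1⟩
    exact le_maximalIdeal (RingHom.ker_ne_top _) (heq ▸ Ideal.subset_span hx : x ∈ K)
  · intro x hx hxm
    have hmF : m = (maximalIdeal T).map mk :=
      (IsLocalRing.map_maximalIdeal_of_surjective _ Ideal.Quotient.mk_surjective).symm
    have h1 : mk x ∈ m * Kb := hlem _ (Ideal.mem_map_of_mem mk hx) (by
      rw [hmF, ← Ideal.map_mul]
      exact Ideal.mem_map_of_mem mk hxm)
    rw [hmF, ← Ideal.map_mul, ← Ideal.mem_comap, Ideal.comap_map_quotientMk] at h1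
    obtain ⟨z, hz, y, hy, rfl⟩ := Submodule.mem_sup.1 h1
    refine add_mem ?_ hy
    have hyK : y ∈ K := (Ideal.mul_le_right : maximalIdeal T * K ≤ K) hy
    have hzK : z ∈ K := by
      have h2 := K.sub_mem hx hyK
      simpa only [add_sub_cancel_right] using h2
    have h := NilFree.inf_smul_top_le_smul_of_flat (R := A) (K.mkQ.restrictScalars A) K.mkQ_surjective
      (maximalIdeal A) (x := z) ⟨(Submodule.Quotient.mk_eq_zero K).2 hzK, by
        rw [Ideal.smul_top_eq_map]; exact hz⟩
    refine Submodule.smul_induction_on h (fun r hr w hw => ?_) fun u v hu hv => add_mem hu hv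
    rw [Algebra.smul_def r w]
    exact Ideal.mul_mem_mul (IsLocalRing.map_maximalIdeal_le (algebraMap A T) (Ideal.mem_map_of_mem _ hr))
      ((Submodule.Quotient.mk_eq_zero K).1 hw)

/-- Regularity of the kernel does not change when the presentation is refined. -/
theorem regular_ker_comp_iff {T S B : Type u} [CommRing T] [CommRing S] [CommRing B] [Nontrivial B]
    [IsLocalRing T] [IsLocalRing S]
    [IsNoetherianRing T] [IsNoetherianRing S] [Algebra A T] [Algebra A S]
    [IsLocalHom (algebraMap A T)] [IsLocalHom (algebraMap A S)]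
    [Module.Flat A T] [Module.Flat A S] [IsRegularLocalRing (EGA4.FibRing A T)]
    [IsRegularLocalRing (EGA4.FibRing A S)] (π : T →ₐ[A] S) (hπ : Function.Surjective π) (g : S →+* B) :
    (∃ rs : List T, Ideal.ofList rs = RingHom.ker (g.comp π.toRingHom) ∧ IsRegular T rs) ↔
      ∃ rs : List S, Ideal.ofList rs = RingHom.ker g ∧ IsRegular S rs := by
  obtain ⟨hKreg, hlem⟩ := kernel_of_regular_fibres π hπ
  set K := RingHom.ker π.toRingHom
  set L := RingHom.ker (g.comp π.toRingHom)
  let e : T ⧸ K ≃+* S := RingHom.quotientKerEquivOfSurjective hπ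
  have hemk : (e : T ⧸ K →+* S).comp (Ideal.Quotient.mk K) = π.toRingHom := RingHom.ext fun _ => rfl
  have hKL : K ≤ L := fun x (hx : π.toRingHom x = 0) => by
    show g (π.toRingHom x) = 0
    rw [hx, map_zero]
  have hLne : L ≠ ⊤ := RingHom.ker_ne_top _
  have hL : L = (RingHom.ker g).comap π.toRingHom := (RingHom.comap_ker g π.toRingHom).symm
  constructor
  · intro h
    obtain ⟨-, rs', hrs', hreg'⟩ := Avramov.regular_of_finiteTorDim K L hKL hLne
      (fun x hx hxm => hlem x hx (Ideal.mul_mono_right (le_maximalIdeal hLne) hxm)) h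
    have heq : Ideal.ofList (rs'.map e) = RingHom.ker g := by
      rw [show rs'.map e = rs'.map (e : T ⧸ K →+* S) from rfl, ← Ideal.map_ofList, hrs', Ideal.map_map, hemk, hL,
        Ideal.map_comap_of_surjective π.toRingHom hπ]
    refine ⟨rs'.map e, heq, .of_isWeaklyRegular_of_mem_maximalIdeal _ (fun x hx => ?_)
      (Synt44.isWeaklyRegular_map_ringEquiv e hreg'.toIsWeaklyRegular)⟩
    exact le_maximalIdeal (RingHom.ker_ne_top g) (heq ▸ Ideal.subset_span hx)
  · rintro ⟨rs, hrs, hreg⟩
    obtain ⟨l, hl⟩ : ∃ l : List T, l.map π.toRingHom = rs := (List.map_surjective_iff.2 hπ) rs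
    obtain ⟨rs₁, hrs₁, hreg₁⟩ := hKreg
    have hLeq : Ideal.ofList (rs₁ ++ l) = L := by
      rw [Ideal.ofList_append, hrs₁, hL, ← hrs, ← hl, ← Ideal.map_ofList,
        Ideal.comap_map_of_surjective π.toRingHom hπ, ← RingHom.ker_eq_comap_bot, sup_comm]
    refine ⟨rs₁ ++ l, hLeq, .of_isWeaklyRegular_of_mem_maximalIdeal _
      (fun x hx => le_maximalIdeal hLne (hLeq ▸ Ideal.subset_span hx)) ?_⟩
    rw [isWeaklyRegular_append_iff]
    refine ⟨hreg₁.toIsWeaklyRegular, ?_⟩
    have h1 : IsWeaklyRegular (T ⧸ K) (rs.map e.symm) :=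
      Synt44.isWeaklyRegular_map_ringEquiv e.symm hreg.toIsWeaklyRegular
    have h2 : rs.map e.symm = l.map (algebraMap T (T ⧸ K)) := by
      rw [← hl, List.map_map]
      exact List.map_congr_left fun x _ => e.symm_apply_eq.2 rfl
    rw [h2, isWeaklyRegular_map_algebraMap_iff] at h1
    exact ((Submodule.quotEquivOfEq _ K (by rw [hrs₁, smul_eq_mul, Ideal.mul_top])).isWeaklyRegular_congr l).2 h1

/-- Completing the source of a presentation. -/
theorem exists_completion {S B : Type u} [CommRing S] [CommRing B] [IsLocalRing S] [IsLocalRing B]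
    [IsNoetherianRing S] [IsNoetherianRing B] [IsAdicComplete (maximalIdeal B) B] [Algebra A S] [Algebra A B]
    [IsLocalHom (algebraMap A S)] [Module.Flat A S] [IsRegularLocalRing (EGA4.FibRing A S)]
    (g : S →ₐ[A] B) (hg : Function.Surjective g) :
    ∃ (T : Type u) (_ : CommRing T) (_ : IsLocalRing T) (_ : IsNoetherianRing T)
      (_ : IsAdicComplete (maximalIdeal T) T) (_ : Algebra A T) (_ : IsLocalHom (algebraMap A T))
      (_ : Module.Flat A T) (_ : IsRegularLocalRing (EGA4.FibRing A T)) (h : T →ₐ[A] B),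
        Function.Surjective h ∧
          ((∃ rs : List S, Ideal.ofList rs = RingHom.ker g.toRingHom ∧ IsRegular S rs) ↔
            ∃ rs : List T, Ideal.ofList rs = RingHom.ker h.toRingHom ∧ IsRegular T rs) := by
  letI algSB : Algebra S B := g.toRingHom.toAlgebra
  haveI : IsScalarTower A S B := IsScalarTower.of_algebraMap_eq fun a => (g.commutes a).symm
  haveI : IsLocalHom (algebraMap S B) := IsLocalHom.of_surjective g.toRingHom hg
  let T := AdicCompletion (maximalIdeal S) S
  let Bh := AdicCompletion (maximalIdeal B) B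
  haveI : IsNoetherianRing T := RegLoc.Completion.isNoetherianRing_adicCompletion' _
  obtain ⟨_, _, _⟩ := EGA4Lib.exists_algebra_cpl S B
  let eB : B ≃+* Bh :=
    RingEquiv.ofBijective (algebraMap B Bh) (AdicCompletion.of_bijective (maximalIdeal B) B)
  let h₀ : T →+* B := eB.symm.toRingHom.comp (algebraMap T Bh)
  have hST : ∀ s : S, h₀ (algebraMap S T s) = g s := fun s => by
    show eB.symm (algebraMap T Bh (algebraMap S T s)) = g s
    rw [← IsScalarTower.algebraMap_apply, IsScalarTower.algebraMap_apply S B Bh]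
    exact eB.symm_apply_apply _
  haveI : IsLocalHom (algebraMap S T) := inferInstance
  haveI : IsLocalHom (algebraMap A T) := by
    rw [IsScalarTower.algebraMap_eq A S T]
    exact RingHom.isLocalHom_comp _ _
  haveI : Module.Flat A T := Module.Flat.trans A S T
  have hcom : ∀ a, h₀ (algebraMap A T a) = algebraMap A B a := fun a => by
    rw [IsScalarTower.algebraMap_apply A S T, hST, g.commutes]
  let h : T →ₐ[A] B := { h₀ with commutes' := hcom }
  have hh : Function.Surjective h := fun b => by
    obtain ⟨s, rfl⟩ := hg b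
    exact ⟨algebraMap S T s, hST s⟩
  let J := RingHom.ker g.toRingHom
  have hker : RingHom.ker h.toRingHom = J.map (algebraMap S T) := by
    refine le_antisymm (fun x hx => ?_) (Ideal.map_le_iff_le_comap.2 fun s hs => ?_)
    · have hne : J.map (algebraMap S T) ≠ ⊤ := ne_top_of_le_ne_top (maximalIdeal.isMaximal T).ne_top
        (((Ideal.map_mono (le_maximalIdeal (RingHom.ker_ne_top _)))).trans
          (IsLocalRing.map_maximalIdeal_le (algebraMap S T)))
      haveI : Nontrivial (T ⧸ J.map (algebraMap S T)) := Ideal.Quotient.nontrivial_iff.2 hne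
      haveI : IsLocalRing (T ⧸ J.map (algebraMap S T)) :=
        IsLocalRing.of_surjective' (Ideal.Quotient.mk _) Ideal.Quotient.mk_surjective
      rw [← Ideal.Quotient.eq_zero_iff_mem, ← Ideal.mem_bot,
        ← Ideal.iInf_pow_eq_bot_of_isLocalRing (maximalIdeal (T ⧸ J.map (algebraMap S T)))
          (maximalIdeal.isMaximal _).ne_top, Ideal.mem_iInf]
      intro n
      rw [← IsLocalRing.map_maximalIdeal_of_surjective (Ideal.Quotient.mk (J.map (algebraMap S T)))
        Ideal.Quotient.mk_surjective, ← Ideal.map_pow, ← Ideal.mem_comap, Ideal.comap_map_quotientMk]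
      obtain ⟨s, hs⟩ : ∃ s : S, x - algebraMap S T s ∈ maximalIdeal T ^ n := by
        obtain ⟨s, hs⟩ := Submodule.mkQ_surjective _ (AdicCompletion.eval (maximalIdeal S) S n x)
        refine ⟨s, ?_⟩
        have hk : x - algebraMap S T s ∈ (maximalIdeal S ^ n • ⊤ : Submodule S T) := by
          rw [AdicCompletion.pow_smul_top_eq_ker_eval (IsNoetherian.noetherian _), LinearMap.mem_ker,
            map_sub, sub_eq_zero, ← hs]
          rfl
        rw [Ideal.smul_top_eq_map, Submodule.restrictScalars_mem, Ideal.map_pow,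
          ← AdicCompletion.maximalIdeal_eq_map] at hk
        exact hk
      have hgs : g s ∈ ((maximalIdeal S) ^ n).map g.toRingHom := by
        have h1 : h (x - algebraMap S T s) ∈ (maximalIdeal T ^ n).map h.toRingHom :=
          Ideal.mem_map_of_mem h.toRingHom hs
        have hT : (maximalIdeal T).map h.toRingHom = (maximalIdeal S).map g.toRingHom := by
          rw [IsLocalRing.map_maximalIdeal_of_surjective h.toRingHom hh,
            IsLocalRing.map_maximalIdeal_of_surjective g.toRingHom hg]
        rw [Ideal.map_pow, hT, ← Ideal.map_pow, map_sub, show h x = 0 from hx, zero_sub, neg_mem_iff,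
          show h (algebraMap S T s) = g s from hST s] at h1
        exact h1
      obtain ⟨s', hs', hgs'⟩ := (Ideal.mem_map_iff_of_surjective g.toRingHom hg).1 hgs
      have hJ : s - s' ∈ J := by
        show g.toRingHom (s - s') = 0
        rw [map_sub, hgs']
        exact sub_self _
      have e1 : x = (x - algebraMap S T s + algebraMap S T s') + algebraMap S T (s - s') := by
        rw [map_sub]; ring
      rw [e1, sup_comm]
      refine add_mem (Ideal.mem_sup_left (add_mem hs ?_)) (Ideal.mem_sup_right (Ideal.mem_map_of_mem _ hJ))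
      rw [AdicCompletion.maximalIdeal_eq_map (R := S), ← Ideal.map_pow]
      exact Ideal.mem_map_of_mem _ hs'
    · show h (algebraMap S T s) = 0
      exact (hST s).trans hs
  have hmT : EGA4.mB A T = (EGA4.mB A S).map (algebraMap S T) := by
    show (maximalIdeal A).map (algebraMap A T) = ((maximalIdeal A).map (algebraMap A S)).map _
    rw [Ideal.map_map, ← IsScalarTower.algebraMap_eq]
  haveI : Nontrivial (S ⧸ EGA4.mB A S) := inferInstanceAs (Nontrivial (EGA4.FibRing A S))
  obtain ⟨eF⟩ := Hensel.nonempty_quotient_completion_equiv S (EGA4.mB A S)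
  haveI : IsRegularLocalRing (AdicCompletion (maximalIdeal (EGA4.FibRing A S)) (EGA4.FibRing A S)) :=
    (RegLoc.Completion.isRegularLocalRing_completion_iff _).1 inferInstance
  haveI : IsRegularLocalRing (EGA4.FibRing A T) :=
    IsRegularLocalRing.of_ringEquiv (eF.trans (Ideal.quotEquivOfEq hmT.symm))
  refine ⟨T, inferInstance, inferInstance, inferInstance, inferInstance, inferInstance, inferInstance,
    inferInstance, inferInstance, h, hh, ?_⟩
  rw [hker]
  exact CIntCI.exists_regular_iff_of_flat J (RingHom.ker_ne_top _)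

/-- A common refinement of two presentations. -/
theorem regular_ker_iff {B S S' : Type u} [CommRing B] [CommRing S] [CommRing S'] [IsNoetherianRing B]
    [IsNoetherianRing S] [IsNoetherianRing S'] [IsLocalRing B] [IsLocalRing S] [IsLocalRing S']
    [IsAdicComplete (maximalIdeal A) A] [IsAdicComplete (maximalIdeal B) B] [Algebra A B] [Algebra A S]
    [Algebra A S'] [IsLocalHom (algebraMap A S)] [IsLocalHom (algebraMap A S')]
    [Module.Flat A S] [Module.Flat A S'] [IsRegularLocalRing (EGA4.FibRing A S)]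
    [IsRegularLocalRing (EGA4.FibRing A S')] (g : S →ₐ[A] B) (g' : S' →ₐ[A] B) (hg : Function.Surjective g)
    (hg' : Function.Surjective g') :
    (∃ rs : List S, Ideal.ofList rs = RingHom.ker g.toRingHom ∧ IsRegular S rs) ↔
      ∃ rs : List S', Ideal.ofList rs = RingHom.ker g'.toRingHom ∧ IsRegular S' rs := by
  obtain ⟨T₁, _, _, _, _, _, _, _, _, h₁, hh₁, e₁⟩ := exists_completion g hg
  obtain ⟨T₂, _, _, _, _, _, _, _, _, h₂, hh₂, e₂⟩ := exists_completion g' hg'
  rw [e₁, e₂]
  obtain ⟨P, _, _, _, _, _, _, p1, p2, hp1, hp2, hp⟩ := exists_fibre_product h₁ h₂ hh₁ hh₂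
  obtain ⟨Λ, Λ', _, _, _, n, m, ρ, σ, τ, hcase, hρ, hσ, hsq, hτ, hreg⟩ := S2053.result (A := A) (B := P)
  let R := MvPowerSeries (Fin n) Λ
  let T₀ := MvPowerSeries (Fin m) Λ'
  haveI : IsRegularLocalRing R := isRegular_powerSeries Λ (hcase.imp (fun h => h.2.1) (fun h => h.2.1)) n
  haveI : IsRegularLocalRing T₀ := isRegular_powerSeries Λ' (hcase.imp (fun h => h.2.2) (fun h => h.2.2)) m
  letI : Algebra R T₀ := τ.toAlgebra
  haveI : Module.Flat R T₀ := hτ
  let I := RingHom.ker ρ
  let T := T₀ ⧸ I.map τ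
  have hle : I.map τ ≤ RingHom.ker σ := Ideal.map_le_iff_le_comap.2 fun x (hx : ρ x = 0) => by
    show σ (τ x) = 0
    rw [show σ (τ x) = algebraMap A P (ρ x) from RingHom.congr_fun hsq x, hx, map_zero]
  let eρ : R ⧸ I ≃+* A := RingHom.quotientKerEquivOfSurjective hρ
  let q : A →+* T := (algebraMap (R ⧸ I) (T₀ ⧸ I.map (algebraMap R T₀))).comp eρ.symm.toRingHom
  letI : Algebra A T := q.toAlgebra
  have hflat : Module.Flat (R ⧸ I) (T₀ ⧸ I.map (algebraMap R T₀)) :=
    Module.Flat.of_linearEquiv (Algebra.TensorProduct.quotIdealMapEquivQuotTensor T₀ I).toLinearEquiv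
  haveI : Module.Flat A T := RingHom.Flat.comp (RingHom.Flat.of_bijective eρ.symm.bijective)
    ((RingHom.flat_algebraMap_iff (S := T₀ ⧸ I.map (algebraMap R T₀))).2 hflat)
  have hTne : I.map τ ≠ ⊤ := ne_top_of_le_ne_top (RingHom.ker_ne_top σ) hle
  haveI : Nontrivial T := Ideal.Quotient.nontrivial_iff.2 hTne
  haveI : IsLocalRing T := IsLocalRing.of_surjective' (Ideal.Quotient.mk _) Ideal.Quotient.mk_surjective
  let πP : T →+* P := Ideal.Quotient.lift (I.map τ) σ fun x hx => hle hx
  have hq : ∀ r : R, q (ρ r) = Ideal.Quotient.mk (I.map τ) (τ r) := fun r => by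
    show (algebraMap (R ⧸ I) (T₀ ⧸ I.map (algebraMap R T₀))) (eρ.symm (ρ r)) = _
    rw [show eρ.symm (ρ r) = Ideal.Quotient.mk I r from eρ.symm_apply_eq.2 rfl]
    rfl
  have hcom : ∀ a, πP (q a) = algebraMap A P a := fun a => by
    obtain ⟨r, rfl⟩ := hρ a
    rw [hq]
    exact RingHom.congr_fun hsq r
  let πA : T →ₐ[A] P := { πP with commutes' := hcom }
  have hπA : Function.Surjective πA := fun p => by
    obtain ⟨x, rfl⟩ := hσ p
    exact ⟨Ideal.Quotient.mk _ x, rfl⟩
  haveI : IsLocalHom (algebraMap A T) := ⟨fun a ha => IsLocalHom.map_nonunit (f := algebraMap A P) a (by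
    have h1 : IsUnit (πA (algebraMap A T a)) := ha.map πA
    rwa [πA.commutes] at h1)⟩
  have hmT : EGA4.mB A T = (EGA4.mB R T₀).map (Ideal.Quotient.mk (I.map τ)) := by
    show (maximalIdeal A).map q = _
    rw [← IsLocalRing.map_maximalIdeal_of_surjective ρ hρ, Ideal.map_map, show q.comp ρ =
      (Ideal.Quotient.mk (I.map τ)).comp τ from RingHom.ext hq, ← Ideal.map_map]
    rfl
  have hsup : I.map τ ⊔ EGA4.mB R T₀ = EGA4.mB R T₀ :=
    sup_eq_right.2 (Ideal.map_mono (le_maximalIdeal (RingHom.ker_ne_top ρ)))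
  haveI : IsRegularLocalRing (EGA4.FibRing A T) := by
    let eF : EGA4.FibRing A T ≃+* EGA4.FibRing R T₀ :=
      (Ideal.quotEquivOfEq hmT).trans ((DoubleQuot.quotQuotEquivQuotSup (I.map τ) (EGA4.mB R T₀)).trans
        (Ideal.quotEquivOfEq hsup))
    haveI : IsRegularRing (EGA4.FibRing R T₀) := hreg
    haveI : IsRegularRing (EGA4.FibRing A T) := IsRegularRing.of_ringEquiv eF.symm
    haveI : Nontrivial (EGA4.FibRing A T) := Ideal.Quotient.nontrivial_iff.2
      (ne_top_of_le_ne_top (maximalIdeal.isMaximal T).ne_top (IsLocalRing.map_maximalIdeal_le (algebraMap A T)))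
    haveI : IsLocalRing (EGA4.FibRing A T) :=
      IsLocalRing.of_surjective' (Ideal.Quotient.mk _) Ideal.Quotient.mk_surjective
    exact IsRegularLocalRing.of_isRegularRing_of_isLocalRing _
  rw [← regular_ker_comp_iff (p1.comp πA) (hp1.comp hπA) h₁.toRingHom,
    ← regular_ker_comp_iff (p2.comp πA) (hp2.comp hπA) h₂.toRingHom]
  have : h₁.toRingHom.comp (p1.comp πA).toRingHom = h₂.toRingHom.comp (p2.comp πA).toRingHom :=
    RingHom.ext fun x => AlgHom.congr_fun hp (πA x)
  rw [this]

end Groth.Agent.CInt77
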