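import Groth.Agent.CInt77.LCICancel
import Groth.Agent.RegImm44.Affine
import Groth.Agent.Omega.QuasiRegular
import Groth.Agent.KReg44.Syzygy
import Groth.Agent.RegLoc.H1Seq
import Groth.Prelude.Def_MoreMor

/-!
# Factoring a regular immersion through a perfect immersion
-/

set_option autoImplicit false
set_option linter.style.haveILetI false

universe u

open AlgebraicGeometry CategoryTheory Limits RingTheory.Sequence

namespace Groth.Agent.CInt77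

theorem koszulSeq_of_regular {R : Type u} [CommRing R] {rs : List R} (h : IsRegular R rs) :
    RegImm.Kind.koszul.Seq R rs :=
  KReg44.isKoszulRegularSeq_of_isWeaklyRegular _ rs rfl h.toIsWeaklyRegular

theorem h1Seq_of_koszul {R : Type u} [CommRing R] {rs : List R} (h : RegImm.Kind.koszul.Seq R rs) :
    RegImm.Kind.h1.Seq R rs :=
  KReg44.isH1Regular rs.get (by rw [List.ofFn_get]; exact h)

theorem quasiSeq_of_h1 {R : Type u} [CommRing R] {rs : List R} (h : RegImm.Kind.h1.Seq R rs) :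
    RegImm.Kind.quasi.Seq R rs :=
  RegLoc.H1Seq.isQuasiRegular rs.get h

/-- Over a locally Noetherian scheme the kinds of regular immersion agree at each point. -/
theorem isRegularImmersionAt_kind {X Z : Scheme.{u}} [IsLocallyNoetherian X] {i : Z ⟶ X} {z : Z}
    (k k' : RegImm.Kind) (h : RegImm.IsRegularImmersionAt k i z) : RegImm.IsRegularImmersionAt k' i z := by
  have hq : RegImm.IsRegularImmersionAt .quasi i z := by
    obtain ⟨U, hz, hci, rs, hrs, hker⟩ := h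
    refine ⟨U, hz, hci, rs, ?_, hker⟩
    cases k
    · exact quasiSeq_of_h1 (h1Seq_of_koszul (koszulSeq_of_regular hrs))
    · exact quasiSeq_of_h1 (h1Seq_of_koszul hrs)
    · exact quasiSeq_of_h1 hrs
    · exact hrs
  obtain ⟨U, hz, hci, rs, hrs, hker⟩ := Omega.isRegularImmersionAt_of_quasi hq
  refine ⟨U, hz, hci, rs, ?_, hker⟩
  cases k'
  · exact hrs
  · exact koszulSeq_of_regular hrs
  · exact h1Seq_of_koszul (koszulSeq_of_regular hrs)
  · exact quasiSeq_of_h1 (h1Seq_of_koszul (koszulSeq_of_regular hrs))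

/-- Spreading out a regular sequence from the prime of a point. -/
theorem isRegularImmersionAt_of_atPrime {X Y : Scheme.{u}} (i : Y ⟶ X) [IsLocallyNoetherian X] {U : X.Opens}
    (hU : IsAffineOpen U) [IsClosedImmersion (i ∣_ U)] (z : Y) (hz : i z ∈ U) (p : Ideal Γ(X, U)) [p.IsPrime]
    (hp : p = (hU.primeIdealOf ⟨i z, hz⟩).asIdeal) (ys : List (Localization.AtPrime p))
    (hreg : IsWeaklyRegular (Localization.AtPrime p) ys)
    (hspan : Ideal.ofList ys = (RingHom.ker (i.app U).hom).map (algebraMap Γ(X, U) (Localization.AtPrime p))) :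
    RegImm.IsRegularImmersionAt .koszul i z := by
  haveI : IsNoetherianRing Γ(X, U) := IsLocallyNoetherian.component_noetherian ⟨U, hU⟩
  obtain ⟨f, hf, l, hl, hspan'⟩ :=
    Synt44.exists_away_of_regular_atPrime (RingHom.ker (i.app U).hom) p ys hreg hspan
  haveI := hU.isLocalization_basicOpen f
  let e : Localization.Away f ≃ₐ[Γ(X, U)] Γ(X, X.basicOpen f) :=
    IsLocalization.algEquiv (Submonoid.powers f) _ _
  obtain ⟨l', hl', hl'I⟩ := KReg44.exists_map e.toRingEquiv.toRingHom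
    (RingHom.Flat.of_bijective e.bijective) ⟨l, hl, hspan'.symm⟩
  refine ⟨⟨X.basicOpen f, hU.basicOpen f⟩, (RegImm44.mem_basicOpen_iff hU ⟨i z, hz⟩ f).2 (hp ▸ hf),
    RegImm44.isClosedImmersion_restrict_of_le i (X.basicOpen_le f), l', hl', ?_⟩
  rw [hl'I, RegImm44.ker_app_restrict i hU (hU.basicOpen f) (X.basicOpen_le f), Ideal.map_map]
  congr 1
  ext x
  exact (e.commutes x).symm

theorem comap_primeIdealOf_app {X Y : Scheme.{u}} (i : Y ⟶ X) {U : X.Opens} (hU : IsAffineOpen U)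
    (hV : IsAffineOpen (i ⁻¹ᵁ U)) (y : Y) (hy : i y ∈ U) :
    (hV.primeIdealOf ⟨y, hy⟩).asIdeal.comap (i.app U).hom = (hU.primeIdealOf ⟨i y, hy⟩).asIdeal := by
  have h1 := IsAffineOpen.comap_primeIdealOf_appLE U hU (i ⁻¹ᵁ U) hV (le_refl _) (f := i) (x := y) hy
  rw [← Scheme.Hom.app_eq_appLE] at h1
  exact congrArg PrimeSpectrum.asIdeal h1

/-- The factorisation at a point. -/
theorem koszulAt_factor {Z Y X : Scheme.{u}} (i : Z ⟶ Y) (j : Y ⟶ X) [IsImmersion i] [IsImmersion j]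
    [IsLocallyNoetherian X] (h : ∀ z, RegImm.IsRegularImmersionAt .koszul (i ≫ j) z)
    (hi : MoreMor.IsPerfectMor i) (z : Z) :
    RegImm.IsRegularImmersionAt .koszul i z ∧ RegImm.IsRegularImmersionAt .koszul j (i z) := by
  haveI : IsLocallyNoetherian Y := LocallyOfFiniteType.isLocallyNoetherian j
  obtain ⟨U₁, hU₁, hz₁, hci₁⟩ := RegImm44.exists_chart (i ≫ j) z
  obtain ⟨U₂, hU₂, hz₂, hci₂⟩ := RegImm44.exists_chart j (i z)
  obtain ⟨U, hU, hzU, hle⟩ := exists_isAffineOpen_mem_and_subset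
    (show j (i z) ∈ U₁ ⊓ U₂ from ⟨hz₁, hz₂⟩)
  haveI hcij : IsClosedImmersion ((i ≫ j) ∣_ U) :=
    RegImm44.isClosedImmersion_restrict_of_le (i ≫ j) (hle.trans inf_le_left)
  haveI hcj : IsClosedImmersion (j ∣_ U) :=
    RegImm44.isClosedImmersion_restrict_of_le j (hle.trans inf_le_right)
  haveI hci : IsClosedImmersion (i ∣_ (j ⁻¹ᵁ U)) := by
    haveI : IsClosedImmersion (i ∣_ (j ⁻¹ᵁ U) ≫ j ∣_ U) := by
      rw [← morphismRestrict_comp]; exact hcij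
    exact IsClosedImmersion.of_comp _ (j ∣_ U)
  have hV : IsAffineOpen (j ⁻¹ᵁ U) := RegImm44.isAffineOpen_preimage j hU
  have hW : IsAffineOpen (i ⁻¹ᵁ (j ⁻¹ᵁ U)) := RegImm44.isAffineOpen_preimage i hV
  haveI : IsNoetherianRing Γ(X, U) := IsLocallyNoetherian.component_noetherian ⟨U, hU⟩
  let μ : Γ(X, U) →+* Γ(Y, j ⁻¹ᵁ U) := (j.app U).hom
  letI : Algebra Γ(Y, j ⁻¹ᵁ U) Γ(Z, i ⁻¹ᵁ (j ⁻¹ᵁ U)) := (i.app (j ⁻¹ᵁ U)).hom.toAlgebra
  have hμ : Function.Surjective μ := RegImm44.app_surjective j hU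
  have hψ : Function.Surjective (algebraMap Γ(Y, j ⁻¹ᵁ U) Γ(Z, i ⁻¹ᵁ (j ⁻¹ᵁ U))) :=
    RegImm44.app_surjective i hV
  have hL : LCI.IsKoszulRegularIdeal (RingHom.ker ((algebraMap Γ(Y, j ⁻¹ᵁ U) Γ(Z, i ⁻¹ᵁ (j ⁻¹ᵁ U))).comp μ)) :=
    RegImm44.isKoszulRegularIdeal_ker (i ≫ j) h hU
  have htd : DRing.HasFiniteTorDim Γ(Y, j ⁻¹ᵁ U) Γ(Z, i ⁻¹ᵁ (j ⁻¹ᵁ U)) := by
    have h1 : ∀ φ : Γ(Y, j ⁻¹ᵁ U) ⟶ Γ(Z, i ⁻¹ᵁ (j ⁻¹ᵁ U)), φ = i.appLE (j ⁻¹ᵁ U) (i ⁻¹ᵁ (j ⁻¹ᵁ U)) le_rfl →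
        letI := φ.hom.toAlgebra
        DRing.HasFiniteTorDim Γ(Y, j ⁻¹ᵁ U) Γ(Z, i ⁻¹ᵁ (j ⁻¹ᵁ U)) := by
      rintro _ rfl
      exact (hi (i ⁻¹ᵁ (j ⁻¹ᵁ U)) (j ⁻¹ᵁ U) hW hV le_rfl).2
    exact h1 _ (Scheme.Hom.app_eq_appLE _)
  let q := (hW.primeIdealOf ⟨z, hzU⟩).asIdeal
  obtain ⟨⟨ys, hys, hysp⟩, rs, hrs, hrsreg⟩ := regular_at_prime μ hμ hψ hL htd q
  have hq₁ : q.comap (algebraMap Γ(Y, j ⁻¹ᵁ U) Γ(Z, i ⁻¹ᵁ (j ⁻¹ᵁ U))) = (hV.primeIdealOf ⟨i z, hzU⟩).asIdeal :=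
    comap_primeIdealOf_app i hV hW z hzU
  refine ⟨isRegularImmersionAt_of_atPrime i hV z hzU _ hq₁ ys hys hysp,
    isRegularImmersionAt_of_atPrime j hU (i z) hzU _ ?_ rs hrsreg.toIsWeaklyRegular hrs⟩
  rw [← Ideal.comap_comap, hq₁]
  exact comap_primeIdealOf_app j hU hV (i z) hzU

end Groth.Agent.CInt77
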