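import Groth.Agent.CInt77.FibreTorDim
import Groth.Agent.CInt77.Avramov
import Groth.Agent.CIntCI.BaseChange
import Mathlib.RingTheory.Regular.ProjectiveDimension

/-!
# Relative complete intersections and finite tor dimension
-/

set_option autoImplicit false
set_option linter.style.haveILetI false

universe u

open IsLocalRing RingTheory.Sequence CategoryTheory
open scoped TensorProduct

namespace Groth.Agent.CInt77

/-- A quotient by a regular sequence has finite tor dimension. -/
theorem torDim_quotient_regular {C : Type u} [CommRing C] [IsLocalRing C] [IsNoetherianRing C] (rs : List C)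
    (h : IsRegular C rs) : DRing.HasTorDimLE C rs.length (C ⧸ Ideal.ofList rs) := by
  refine torDim_of_pd _ _ (RegLoc.PD.pd_congr (Shrink.linearEquiv C (C ⧸ Ideal.ofList rs)) _ ?_)
  exact (projectiveDimension_le_iff _ _).1 (ModuleCat.projectiveDimension_quotient_eq_length rs h).le

/-- The three conditions of the relative complete intersection lemma. -/
theorem relative_ci {R S : Type u} [CommRing R] [CommRing S] [IsNoetherianRing R]
    [IsNoetherianRing S] [IsLocalRing R] [IsLocalRing S] [Algebra R S] [IsLocalHom (algebraMap R S)]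
    [Module.Flat R S] [IsRegularLocalRing (EGA4.FibRing R S)]
    (I : Ideal R) (J : Ideal S) (hI : I ≠ ⊤) (hJ : J ≠ ⊤) (hIJ : I.map (algebraMap R S) ≤ J)
    [Algebra (R ⧸ I) (S ⧸ J)] [IsScalarTower R (R ⧸ I) (S ⧸ J)] :
    let P3 := (∃ rs : List R, Ideal.ofList rs = I ∧ IsRegular R rs) ∧
      ∃ rs' : List (S ⧸ I.map (algebraMap R S)),
        Ideal.ofList rs' = J.map (Ideal.Quotient.mk (I.map (algebraMap R S))) ∧
          IsRegular (S ⧸ I.map (algebraMap R S)) rs'
    let Jreg := ∃ rs : List S, Ideal.ofList rs = J ∧ IsRegular S rs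
    ((Jreg ∧ DRing.HasFiniteTorDim (R ⧸ I) (S ⧸ J)) → P3) ∧
      (P3 → (Jreg ∧ DRing.HasFiniteTorDim (R ⧸ I) (S ⧸ J))) ∧
      (DRing.HasFiniteTorDim (R ⧸ I) (S ⧸ J) ↔ Set.Finite {p : ℕ | ¬Subsingleton (DRing.Tor (R ⧸ I) p (S ⧸ J)
        ((R ⧸ I) ⧸ (maximalIdeal R).map (Ideal.Quotient.mk I)))}) := by
  classical
  intro P3 Jreg
  set IS := I.map (algebraMap R S) with hIS
  let mS := EGA4.mB R S
  let A' := R ⧸ I
  let C := S ⧸ IS
  haveI : Nontrivial A' := Ideal.Quotient.nontrivial_iff.2 hI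
  haveI : IsLocalRing A' := IsLocalRing.of_surjective' (Ideal.Quotient.mk I) Ideal.Quotient.mk_surjective
  haveI : Nontrivial (S ⧸ J) := Ideal.Quotient.nontrivial_iff.2 hJ
  haveI : IsLocalRing (S ⧸ J) := IsLocalRing.of_surjective' (Ideal.Quotient.mk J) Ideal.Quotient.mk_surjective
  haveI : Nontrivial C := Ideal.Quotient.nontrivial_iff.2 (ne_top_of_le_ne_top hJ hIJ)
  haveI : IsLocalRing C := IsLocalRing.of_surjective' (Ideal.Quotient.mk IS) Ideal.Quotient.mk_surjective
  haveI : Module.Flat A' C :=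
    Module.Flat.of_linearEquiv (Algebra.TensorProduct.quotIdealMapEquivQuotTensor S I).toLinearEquiv
  have hmA : maximalIdeal A' = (maximalIdeal R).map (Ideal.Quotient.mk I) :=
    (IsLocalRing.map_maximalIdeal_of_surjective _ Ideal.Quotient.mk_surjective).symm
  have hmC : EGA4.mB A' C = mS.map (Ideal.Quotient.mk IS) := by
    show (maximalIdeal A').map (algebraMap A' C) = _
    rw [hmA, Ideal.map_map, show mS = (maximalIdeal R).map (algebraMap R S) from rfl, Ideal.map_map]
    rfl
  have hmS : mS ≤ maximalIdeal S := IsLocalRing.map_maximalIdeal_le (algebraMap R S)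
  haveI : IsLocalHom (algebraMap A' C) := by
    refine ((IsLocalRing.local_hom_TFAE _).out 0 2).mpr ?_
    show EGA4.mB A' C ≤ _
    rw [hmC, ← IsLocalRing.map_maximalIdeal_of_surjective (Ideal.Quotient.mk IS) Ideal.Quotient.mk_surjective]
    exact Ideal.map_mono hmS
  letI algC : Algebra C (S ⧸ J) := (Ideal.Quotient.factor hIJ).toAlgebra
  haveI : IsScalarTower S C (S ⧸ J) := IsScalarTower.of_algebraMap_eq fun _ => rfl
  haveI : IsScalarTower A' C (S ⧸ J) := IsScalarTower.of_algebraMap_eq fun x => by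
    obtain ⟨r, rfl⟩ := Ideal.Quotient.mk_surjective x
    exact (IsScalarTower.algebraMap_apply R A' (S ⧸ J) r).symm
  haveI : Module.Finite C (S ⧸ J) :=
    Module.Finite.of_surjective (Algebra.linearMap C (S ⧸ J)) (Ideal.Quotient.factor_surjective hIJ)
  refine ⟨?_, ?_, ?_⟩
  · rintro ⟨hJreg, d, hd⟩
    have hsupIS : IS ⊔ mS = mS := sup_eq_right.2 (Ideal.map_mono (le_maximalIdeal hI))
    let eF : EGA4.FibRing A' C ≃+* EGA4.FibRing R S :=
      (Ideal.quotEquivOfEq hmC).trans ((DoubleQuot.quotQuotEquivQuotSup IS mS).trans (Ideal.quotEquivOfEq hsupIS))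
    haveI : IsRegularLocalRing (EGA4.FibRing A' C) := IsRegularLocalRing.of_ringEquiv eF.symm
    obtain ⟨n, hn, -⟩ := RegLoc.exists_natCast_eq_ringKrullDim (EGA4.FibRing A' C)
    have hfd : DRing.HasFiniteTorDim C (S ⧸ J) :=
      ⟨d + n, torDim_of_pd _ _ (pd_of_torDim_base A' C n hn d (S ⧸ J) hd)⟩
    obtain ⟨hISreg, hJC⟩ := Avramov.regular_of_finiteTorDim IS J hIJ hJ
      (fun x hx hxm => Avramov.mem_maximal_mul IS J hIJ hJ hfd x hx hxm) hJreg
    exact ⟨(CIntCI.exists_regular_iff_of_flat I hI).2 hISreg, hJC⟩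
  · rintro ⟨hIreg, rs', hrs', hreg'⟩
    obtain ⟨l, hl⟩ : ∃ l : List S, l.map (Ideal.Quotient.mk IS) = rs' :=
      (List.map_surjective_iff.2 Ideal.Quotient.mk_surjective) rs'
    obtain ⟨rs₁, hrs₁, hreg₁⟩ := (CIntCI.exists_regular_iff_of_flat (R' := S) I hI).1 hIreg
    have hJeq : Ideal.ofList (rs₁ ++ l) = J := by
      have h1 : (Ideal.ofList l).map (Ideal.Quotient.mk IS) = J.map (Ideal.Quotient.mk IS) := by
        rw [Ideal.map_ofList, hl, hrs']
      have h2 := congrArg (Ideal.comap (Ideal.Quotient.mk IS)) h1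
      rw [Ideal.comap_map_quotientMk, Ideal.comap_map_quotientMk, sup_eq_right.2 hIJ] at h2
      rw [Ideal.ofList_append, hrs₁, h2]
    refine ⟨⟨rs₁ ++ l, hJeq, .of_isWeaklyRegular_of_mem_maximalIdeal _
      (fun x hx => le_maximalIdeal hJ (hJeq ▸ Ideal.subset_span hx)) ?_⟩, rs'.length, ?_⟩
    · rw [isWeaklyRegular_append_iff]
      refine ⟨hreg₁.toIsWeaklyRegular, ?_⟩
      have hC : IsWeaklyRegular C l :=
        (isWeaklyRegular_map_algebraMap_iff C C l).1 (hl.symm ▸ hreg'.toIsWeaklyRegular)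
      exact ((Submodule.quotEquivOfEq _ IS (by rw [hrs₁, smul_eq_mul, Ideal.mul_top])).isWeaklyRegular_congr l).2 hC
    · have h1 := torDim_quotient_regular rs' hreg'
      let e : (C ⧸ Ideal.ofList rs') ≃ₐ[C] S ⧸ J :=
        AlgEquiv.ofRingEquiv
          (f := (Ideal.quotEquivOfEq hrs').trans (DoubleQuot.quotQuotEquivQuotOfLE hIJ)) fun x => by
          obtain ⟨s, rfl⟩ := Ideal.Quotient.mk_surjective x
          rfl
      exact FlatMor.PC.hasTorDimLE_mono (by omega)
        (FlatMor.PC.hasTorDimLE_trans (A := A') (B := C) (C := S ⧸ J) (FlatMor.PC.hasTorDimLE_of_flat 0 C)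
          (FlatMor.PC.hasTorDimLE_congr e.toLinearEquiv h1))
  · rw [← hmA]
    constructor
    · rintro ⟨d, hd⟩
      refine (Set.finite_Iic d).subset fun p hp => ?_
      by_contra hpd
      exact hp (hd _ p (not_le.1 hpd))
    · intro hfin
      obtain ⟨d, hd⟩ := hfin.bddAbove
      refine ⟨d, torDim_of_tor_residue A' C d (S ⧸ J) ?_⟩
      by_contra hne
      exact absurd (hd hne) (by omega)

end Groth.Agent.CInt77
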