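import Groth.Agent.AlgSp.GorCore
import Groth.Agent.WEtale.Olivier
import Groth.Agent.Hens.Local
import Groth.Agent.Hens.Unique

/-!
# Strict henselizations and weakly etale local homomorphisms
-/

set_option autoImplicit false

universe u

open IsLocalRing TensorProduct AlgebraicGeometry CategoryTheory

namespace Groth.Agent.CInt77.StrictWEtale

/-- Strict henselizations transport along isomorphisms of algebras. -/
theorem isStrictHenselization_of_algEquiv {A S R : Type u} [CommRing A] [IsLocalRing A] [CommRing S]
    [IsLocalRing S] [CommRing R] [HenselianLocalRing R] [IsSepClosed (ResidueField R)]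
    [Algebra A S] [IsLocalHom (algebraMap A S)] [Algebra A R] [IsLocalHom (algebraMap A R)]
    [hS : _root_.Hensel.IsStrictHenselization A S] (e : S ≃ₐ[A] R) :
    _root_.Hensel.IsStrictHenselization A R := by
  haveI : IsLocalHom (e.toRingEquiv : S →+* R) := inferInstance
  haveI : IsLocalHom (e.symm.toRingEquiv : R →+* S) := inferInstance
  let φ : ResidueField S →+* ResidueField R := ResidueField.map (e.toRingEquiv : S →+* R)
  have hφ : φ.comp (ResidueField.map (algebraMap A S)) = ResidueField.map (algebraMap A R) :=
    RingHom.ext fun y => by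
      obtain ⟨a, rfl⟩ := residue_surjective y
      exact congrArg (residue R) (e.commutes a)
  have sep : ∀ x : ResidueField R, IsSeparable (ResidueField A) x := fun x => by
    haveI := hS.isSepClosure.separable
    let ψ : ResidueField S →ₐ[ResidueField A] ResidueField R :=
      { φ with commutes' := fun y => RingHom.congr_fun hφ y }
    obtain ⟨r, rfl⟩ := residue_surjective x
    obtain ⟨s, rfl⟩ := e.surjective r
    have h1 : IsSeparable (ResidueField A) (ψ (residue S s)) := IsSeparable.map ψ (RingHom.injective φ) (Algebra.IsSeparable.isSeparable (ResidueField A) (residue S s))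
    have h2 : ψ (residue S s) = residue R (e s) := ResidueField.map_residue (e.toRingEquiv : S →+* R) s
    rw [← h2]
    exact h1
  refine ⟨inferInstance, ⟨inferInstance, ⟨sep⟩⟩, fun T _ _ f _ τ hτ => ?_⟩
  obtain ⟨k, ⟨hk, hkr⟩, hu⟩ := hS.universal T f (τ.comp φ) (by rw [RingHom.comp_assoc, hφ, hτ])
  refine ⟨k.comp (e.symm.toRingEquiv : R →+* S), ⟨RingHom.ext fun a => ?_, fun r => ?_⟩, fun k' hk' => ?_⟩
  · show k (e.symm (algebraMap A R a)) = f a
    rw [e.symm.commutes]
    exact RingHom.congr_fun hk a
  · show residue T (k (e.symm r)) = τ (residue R r)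
    rw [hkr]
    exact congrArg (fun z => τ (residue R z)) (e.apply_symm_apply r)
  · have h := hu (k'.comp (e.toRingEquiv : S →+* R)) ⟨RingHom.ext fun a => by
      show k' (e (algebraMap A S a)) = f a
      rw [e.commutes]
      exact RingHom.congr_fun hk'.1 a, fun s => hk'.2 (e s)⟩
    rw [← h]
    exact RingHom.ext fun r => congrArg k' (e.apply_symm_apply r).symm

/-- A local weakly etale algebra which is strictly henselian is a strict henselization. -/
theorem isStrictHenselization_of_weaklyEtale (A R : Type u) [CommRing A] [IsLocalRing A] [CommRing R]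
    [HenselianLocalRing R] [IsSepClosed (ResidueField R)] [Algebra A R] [IsLocalHom (algebraMap A R)]
    [Algebra.WeaklyEtale A R] : _root_.Hensel.IsStrictHenselization A R := by
  let S := Hens.StrictHenselization A
  have hS : _root_.Hensel.IsStrictHenselization A S := inferInstance
  haveI := hS.henselian
  haveI := hS.isSepClosure.sep_closed
  haveI := hS.isSepClosure.separable
  let τ : ResidueField S →ₐ[ResidueField A] ResidueField R := IsSepClosed.lift
  obtain ⟨g, ⟨hg, hgr⟩, -⟩ := hS.universal R (algebraMap A R) τ.toRingHom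
    (RingHom.ext fun x => τ.commutes x)
  haveI hgl : IsLocalHom g := ⟨fun s hs => by
    rw [← residue_ne_zero_iff_isUnit] at hs ⊢
    intro h
    exact hs (by rw [hgr, h, map_zero])⟩
  letI := g.toAlgebra
  haveI : IsLocalHom (algebraMap S R) := hgl
  haveI : IsScalarTower A S R := IsScalarTower.of_algebraMap_eq' hg.symm
  haveI hAS : Algebra.WeaklyEtale A S := AlgSp.GorCore.weaklyEtale_of_isStrictHenselization A S
  haveI : Algebra.WeaklyEtale S R := by
    rw [← ProEtS.Affine.weaklyEtale_SpecMap_iff]
    have := (ProEtS.Affine.weaklyEtale_SpecMap_iff A S).2 hAS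
    have hc : WeaklyEtale (Spec.map (CommRingCat.ofHom (algebraMap S R)) ≫
        Spec.map (CommRingCat.ofHom (algebraMap A S))) := by
      rw [← Spec.map_comp, ← CommRingCat.ofHom_comp, ← IsScalarTower.algebraMap_eq A S R]
      exact (ProEtS.Affine.weaklyEtale_SpecMap_iff A R).2 ‹_›
    exact WeaklyEtale.of_comp _ (Spec.map (CommRingCat.ofHom (algebraMap A S)))
  exact isStrictHenselization_of_algEquiv
    (AlgEquiv.ofBijective (IsScalarTower.toAlgHom A S R) (WEtale.Olivier.bijective S R))

/-- Weak etaleness descends along a faithfully flat weakly etale algebra. -/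
theorem weaklyEtale_of_faithfullyFlat (A B R : Type u) [CommRing A] [CommRing B] [CommRing R]
    [Algebra A B] [Algebra A R] [Algebra B R] [IsScalarTower A B R] [Module.FaithfullyFlat B R]
    [Algebra.WeaklyEtale A R] : Algebra.WeaklyEtale A B := by
  refine ⟨Thick.FlatCancel.module_flat_of_comp A B R, ?_⟩
  let m : B ⊗[A] B →+* B := (Algebra.TensorProduct.lmul' A (S := B)).toRingHom
  let ι : B →ₐ[A] R := IsScalarTower.toAlgHom A B R
  have hι : ι.Flat := by
    show (algebraMap B R).Flat
    exact RingHom.flat_algebraMap_iff.2 inferInstance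
  have hc : ((algebraMap B R).comp m).Flat := by
    have e : (algebraMap B R).comp m = (Algebra.TensorProduct.lmul' A (S := R)).toRingHom.comp
        (Algebra.TensorProduct.map ι ι).toRingHom := by
      apply Algebra.TensorProduct.ringHom_ext <;> ext x <;> simp [m, ι]
    rw [e]
    exact (RingHom.Flat.tensorProductMap hι hι).comp (Algebra.WeaklyEtale.flat_lmul' A R)
  letI := m.toAlgebra
  letI := ((algebraMap B R).comp m).toAlgebra
  haveI : IsScalarTower (B ⊗[A] B) B R := IsScalarTower.of_algebraMap_eq' rfl
  haveI : Module.Flat (B ⊗[A] B) R := hc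
  exact RingHom.flat_algebraMap_iff.2 (Thick.FlatCancel.module_flat_of_comp (B ⊗[A] B) B R)

end Groth.Agent.CInt77.StrictWEtale
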