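import Groth.Agent.CInt77.AvramovLocal
import Groth.Agent.CIntCI.Syntomic
import Groth.Agent.CIntCI.FibreImm
import Groth.Agent.FlatMor.FibreStalk
import Groth.Agent.S0114

/-!
# Syntomic morphisms descend along fppf covers of the source
-/

set_option autoImplicit false
set_option linter.style.haveILetI false

universe u

open CategoryTheory AlgebraicGeometry IsLocalRing

namespace Groth.Agent.CInt77

theorem flat_of_comp_faithfullyFlat {R A B : Type u} [CommRing R] [CommRing A] [CommRing B] (φ : R →+* A)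
    (ψ : A →+* B) [IsLocalRing A] [IsLocalRing B] [IsLocalHom ψ] (hψ : ψ.Flat) (h : (ψ.comp φ).Flat) : φ.Flat := by
  letI := φ.toAlgebra
  letI := ψ.toAlgebra
  letI := (ψ.comp φ).toAlgebra
  haveI : IsScalarTower R A B := IsScalarTower.of_algebraMap_eq fun _ => rfl
  haveI : IsLocalHom (algebraMap A B) := inferInstanceAs (IsLocalHom ψ)
  haveI : Module.Flat A B := hψ
  haveI : Module.Flat R B := h
  haveI : Module.FaithfullyFlat A B := Module.FaithfullyFlat.of_flat_of_isLocalHom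
  exact LocFlat.flat_of_faithfullyFlat_tower (S := A) B

/-- Avramov for the fibres of a composite. -/
theorem ci_fibre_of_comp {R A B : Type u} [CommRing R] [IsLocalRing R] [CommRing A] [IsLocalRing A]
    [CommRing B] [IsLocalRing B] (φ : R →+* A) (ψ : A →+* B) [IsLocalHom φ] [IsLocalHom ψ] (hψ : ψ.Flat)
    [IsLocalRing (A ⧸ (maximalIdeal R).map φ)] [IsNoetherianRing (A ⧸ (maximalIdeal R).map φ)]
    [IsLocalRing (B ⧸ (maximalIdeal R).map (ψ.comp φ))] [IsNoetherianRing (B ⧸ (maximalIdeal R).map (ψ.comp φ))]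
    [IsLocalRing (B ⧸ (maximalIdeal A).map ψ)]
    (h : Pi1.IsCompleteIntersection (B ⧸ (maximalIdeal R).map (ψ.comp φ))) :
    Pi1.IsCompleteIntersection (A ⧸ (maximalIdeal R).map φ) ∧
      Pi1.IsCompleteIntersection (B ⧸ (maximalIdeal A).map ψ) := by
  letI := ψ.toAlgebra
  haveI : Module.Flat A B := hψ
  let I := (maximalIdeal R).map φ
  let K := I.map (algebraMap A B)
  have hK : (maximalIdeal R).map (ψ.comp φ) = K := (Ideal.map_map _ _).symm
  haveI : IsLocalRing (B ⧸ K) := (Ideal.quotEquivOfEq hK).isLocalRing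
  haveI : IsNoetherianRing (B ⧸ K) := isNoetherianRing_of_ringEquiv _ (Ideal.quotEquivOfEq hK)
  replace h : Pi1.IsCompleteIntersection (B ⧸ K) := CIntCI.isCI_of_ringEquiv (Ideal.quotEquivOfEq hK) h
  haveI : Module.Flat (A ⧸ I) (B ⧸ K) :=
    Module.Flat.of_linearEquiv (Algebra.TensorProduct.quotIdealMapEquivQuotTensor B I).toLinearEquiv
  have hm : EGA4.mB (A ⧸ I) (B ⧸ K) = ((maximalIdeal A).map (algebraMap A B)).map (Ideal.Quotient.mk K) := by
    show (maximalIdeal (A ⧸ I)).map (algebraMap (A ⧸ I) (B ⧸ K)) = _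
    rw [← IsLocalRing.map_maximalIdeal_of_surjective (Ideal.Quotient.mk I) Ideal.Quotient.mk_surjective,
      Ideal.map_map]
    exact (Ideal.map_map (I := maximalIdeal A) (algebraMap A B) (Ideal.Quotient.mk K)).symm
  haveI : IsLocalHom (algebraMap A B) := inferInstanceAs (IsLocalHom ψ)
  haveI : IsLocalHom (algebraMap (A ⧸ I) (B ⧸ K)) := by
    refine ((IsLocalRing.local_hom_TFAE _).out 0 2).mpr ?_
    show EGA4.mB (A ⧸ I) (B ⧸ K) ≤ _
    rw [hm, ← IsLocalRing.map_maximalIdeal_of_surjective (Ideal.Quotient.mk K) Ideal.Quotient.mk_surjective]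
    exact Ideal.map_mono (IsLocalRing.map_maximalIdeal_le (algebraMap A B))
  have hle : K ≤ (maximalIdeal A).map ψ := Ideal.map_mono (IsLocalRing.map_maximalIdeal_le φ)
  let e : (B ⧸ K) ⧸ EGA4.mB (A ⧸ I) (B ⧸ K) ≃+* B ⧸ (maximalIdeal A).map ψ :=
    (Ideal.quotEquivOfEq hm).trans (DoubleQuot.quotQuotEquivQuotOfLE hle)
  haveI : IsLocalRing ((B ⧸ K) ⧸ EGA4.mB (A ⧸ I) (B ⧸ K)) := e.symm.isLocalRing
  obtain ⟨h1, h2⟩ := (avramov (A ⧸ I) (B ⧸ K)).1 h
  exact ⟨h1, CIntCI.isCI_of_ringEquiv e h2⟩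

variable {X Y S : Scheme.{u}} (f : X ⟶ Y) (q : Y ⟶ S)

theorem isNoetherianRing_fiberStalk (g : X ⟶ S) [LocallyOfFiniteType g] (x : X) :
    IsNoetherianRing (CInt.fiberStalk g x) := by
  haveI := CIntCI.isLocallyNoetherian_fiber g (g x)
  infer_instance

theorem syntomic_descent [Surjective f] [Flat f] [LocallyOfFinitePresentation f]
    (h : Synt.IsSyntomicMor (f ≫ q)) : Synt.IsSyntomicMor q ∧ Synt.IsSyntomicMor f := by
  obtain ⟨hfl, hfp⟩ := CIntCI.flat_lfp_of_isSyntomicMor h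
  haveI hqfp : LocallyOfFinitePresentation q := S0114.result f q
  have hci := ((CIntCI.isCIMorphism_iff (f ≫ q)).2 h).2.2
  have key : ∀ x : X, (q.stalkMap (f x)).hom.Flat ∧ Pi1.IsCompleteIntersection (CInt.fiberStalk q (f x)) ∧
      Pi1.IsCompleteIntersection (CInt.fiberStalk f x) := by
    intro x
    have hcomp : ((f ≫ q).stalkMap x).hom = (f.stalkMap x).hom.comp (q.stalkMap (f x)).hom :=
      (congrArg CommRingCat.Hom.hom (Scheme.Hom.stalkMap_comp f q x)).trans rfl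
    haveI hl1 : IsLocalHom (q.stalkMap (f x)).hom := inferInstance
    haveI hl2 : IsLocalHom (f.stalkMap x).hom := inferInstance
    refine ⟨flat_of_comp_faithfullyFlat _ _ (Flat.stalkMap f x) (hcomp ▸ Flat.stalkMap (f ≫ q) x), ?_⟩
    obtain ⟨e₁⟩ := FlatMor.FibreStalk.exists_fibre_stalk_equiv q (f x)
    obtain ⟨e₂⟩ := FlatMor.FibreStalk.exists_fibre_stalk_equiv f x
    obtain ⟨e₃⟩ := FlatMor.FibreStalk.exists_fibre_stalk_equiv (f ≫ q) x
    haveI := isNoetherianRing_fiberStalk q (f x)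
    haveI := isNoetherianRing_fiberStalk (f ≫ q) x
    have hK : (maximalIdeal (S.presheaf.stalk (q (f x)))).map
        ((f.stalkMap x).hom.comp (q.stalkMap (f x)).hom) =
        (maximalIdeal (S.presheaf.stalk ((f ≫ q) x))).map ((f ≫ q).stalkMap x).hom := by
      rw [hcomp]
      rfl
    let e₃' := (Ideal.quotEquivOfEq hK).trans e₃
    haveI := e₁.symm.isLocalRing
    haveI := e₂.symm.isLocalRing
    haveI := e₃'.symm.isLocalRing
    haveI : IsNoetherianRing _ := isNoetherianRing_of_ringEquiv _ e₁.symm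
    haveI : IsNoetherianRing _ := isNoetherianRing_of_ringEquiv _ e₃'.symm
    obtain ⟨h1, h2⟩ := ci_fibre_of_comp (q.stalkMap (f x)).hom (f.stalkMap x).hom (Flat.stalkMap f x)
      (CIntCI.isCI_of_ringEquiv e₃'.symm (hci x))
    exact ⟨CIntCI.isCI_of_ringEquiv e₁ h1, CIntCI.isCI_of_ringEquiv e₂ h2⟩
  refine ⟨fun y => ?_, fun x => (CIntCI.isSyntomicAt_iff f x).2 ⟨Flat.stalkMap f x, (key x).2.2⟩⟩
  obtain ⟨x, rfl⟩ := f.surjective y
  exact (CIntCI.isSyntomicAt_iff q (f x)).2 ⟨(key x).1, (key x).2.1⟩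

end Groth.Agent.CInt77
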