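import Groth.Agent.CInt77.LCICancel
import Groth.Agent.Omega.KoszulSplit
import Groth.Agent.Synt44.QuotientLift
import Groth.Agent.Synt44.BaseChange
import Groth.Agent.BlowUpSmooth.Core
import Groth.Agent.RelGCI.Main
import Mathlib.RingTheory.Spectrum.Prime.Chevalley
import Mathlib.RingTheory.Flat.FaithfullyFlat.Algebra

/-!
# Local complete intersections descend along syntomic maps of the source

If `A → C` is syntomic and `R → C` is a local complete intersection, then so is `R → A` near the image
of `Spec C`. The syntomic map is lifted to a flat algebra `Q = P[y]/(F)` over a polynomial presentation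
`P → A` with kernel `I`; the ideal `I Q` is Koszul-regular, as `F` stays part of a minimal set of
generators of `I P[y] + (F)`, and Koszul-regularity of `I` follows by descent.
-/

set_option autoImplicit false
set_option linter.style.haveILetI false

universe u

open IsLocalRing MvPolynomial

namespace Groth.Agent.CInt77

/-- Independence modulo the maximal ideal. -/
theorem indep_aux {S : Type u} [CommRing S] [IsLocalRing S] {n : ℕ} (F : Fin n → S) (KS : Ideal S)
    (hKS : KS ≤ maximalIdeal S) (hF : Ideal.span (Set.range F) ≤ maximalIdeal S)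
    (hreg : LCI.IsKoszulRegularSeq S (List.ofFn F))
    (hinf : KS ⊓ Ideal.span (Set.range F) ≤ KS * Ideal.span (Set.range F)) (c : Fin n → S)
    (hc : ∑ k, c k * F k ∈ maximalIdeal S * (KS ⊔ Ideal.span (Set.range F))) (k : Fin n) :
    c k ∈ maximalIdeal S := by
  have hsum : ∀ (L : Ideal S) (w : S), w ∈ L * Ideal.span (Set.range F) →
      ∃ b : Fin n → S, (∀ i, b i ∈ L) ∧ ∑ i, b i * F i = w := fun L w hw => by
    induction hw using Submodule.mul_induction_on' with
    | mem_mul_mem r hr x hx =>
      obtain ⟨d, hd⟩ := Ideal.mem_span_range_iff_exists_fun.1 hx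
      exact ⟨fun i => r * d i, fun i => Ideal.mul_mem_right _ _ hr,
        by simp only [mul_assoc, ← Finset.mul_sum, hd]⟩
    | add x _ y _ ihx ihy =>
      obtain ⟨b₁, h₁, e₁⟩ := ihx
      obtain ⟨b₂, h₂, e₂⟩ := ihy
      exact ⟨fun i => b₁ i + b₂ i, fun i => add_mem (h₁ i) (h₂ i),
        by simp only [add_mul, Finset.sum_add_distrib, e₁, e₂]⟩
  rw [Ideal.mul_sup] at hc
  obtain ⟨z, hz, w, hw, hzw⟩ := Submodule.mem_sup.1 hc
  obtain ⟨b, hb, hbw⟩ := hsum (maximalIdeal S) w hw
  have hzspan : z ∈ Ideal.span (Set.range F) := by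
    rw [show z = ∑ i, (c i - b i) * F i by
      rw [Finset.sum_congr rfl fun i _ => sub_mul (c i) (b i) (F i), Finset.sum_sub_distrib, hbw, ← hzw,
        add_sub_cancel_right]]
    exact Ideal.sum_mem _ fun i _ => Ideal.mul_mem_left _ _ (Ideal.subset_span ⟨i, rfl⟩)
  obtain ⟨a, ha, haz⟩ := hsum KS z (hinf (Ideal.mem_inf.2 ⟨(Ideal.mul_le_right : maximalIdeal S * KS ≤ KS) hz, hzspan⟩))
  have hrel : ∑ i, (c i - b i - a i) * F i = 0 := by
    rw [Finset.sum_congr rfl fun i _ => (show (c i - b i - a i) * F i = c i * F i - b i * F i - a i * F i by ring),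
      Finset.sum_sub_distrib, Finset.sum_sub_distrib, hbw, haz, ← hzw, add_sub_cancel_right, sub_self]
  have h := add_mem (add_mem (hF (KReg44.coeff_mem_of_relation F hreg hrel k)) (hKS (ha k))) (hb k)
  rwa [sub_add_cancel, sub_add_cancel] at h

/-- A Koszul-regular sequence `f` with `(f) ∩ K ≤ K (f)` can be divided out of a Koszul-regular
ideal `K + (f)`. -/
theorem isKoszulRegularIdeal_map_quotient {D Q : Type u} [CommRing D] [CommRing Q] (π : D →+* Q)
    (hπ : Function.Surjective π) (f : List D) (hker : RingHom.ker π = Ideal.ofList f)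
    (hf : LCI.IsKoszulRegularSeq D f) (K : Ideal D) (hK : Ideal.ofList f ⊓ K ≤ K * Ideal.ofList f)
    (hJ : LCI.IsKoszulRegularIdeal (K ⊔ Ideal.ofList f)) : LCI.IsKoszulRegularIdeal (K.map π) := by
  intro p hp
  let P : PrimeSpectrum D := ⟨p.asIdeal.comap π, inferInstance⟩
  have hfP : Ideal.ofList f ≤ P.asIdeal := fun x hx => by
    rw [← hker, RingHom.mem_ker] at hx
    show π x ∈ p.asIdeal
    rw [hx]
    exact zero_mem _
  have hKP : K ≤ P.asIdeal := Ideal.map_le_iff_le_comap.1 hp
  obtain ⟨g, hg, l, hl, hspan⟩ := hJ P (sup_le hKP hfP)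
  change _ = Ideal.ofList l at hspan
  let A := Localization.Away g
  let φ := algebraMap D A
  have hdisj : Disjoint (Submonoid.powers g : Set D) P.asIdeal :=
    (Ideal.disjoint_powers_iff_notMem_of_isPrime g).2 hg
  let P' := P.asIdeal.map φ
  haveI hP' : P'.IsPrime := IsLocalization.isPrime_of_isPrime_disjoint _ A _ P.isPrime hdisj
  let S := Localization.AtPrime P'
  haveI : Module.Flat D A := IsLocalization.flat A (Submonoid.powers g)
  haveI : Module.Flat A S := IsLocalization.flat S P'.primeCompl
  haveI : Module.Flat D S := Module.Flat.trans D A S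
  have hfh : Ideal.ofList (f.map φ) ≤ Ideal.ofList l := by
    rw [← Ideal.map_ofList]
    exact (Ideal.map_mono le_sup_right).trans hspan.le
  have hmax : ∀ L : Ideal D, L ≤ P.asIdeal → L.map (algebraMap D S) ≤ maximalIdeal S := fun L hL => by
    rw [IsScalarTower.algebraMap_eq D A S, ← Ideal.map_map, ← Localization.AtPrime.map_eq_maximalIdeal]
    exact Ideal.map_mono (Ideal.map_mono hL)
  let fS : List S := f.map (algebraMap D S)
  have hfS : LCI.IsKoszulRegularSeq S fS :=
    KReg44.isKoszulRegularSeq_map _ (RingHom.flat_algebraMap_iff.2 inferInstance) hf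
  have hspanS : (Ideal.ofList l).map (algebraMap A S) =
      K.map (algebraMap D S) ⊔ Ideal.ofList fS := by
    rw [← hspan, Ideal.map_map, ← IsScalarTower.algebraMap_eq, Ideal.map_sup, Ideal.map_ofList]
  obtain ⟨g', hg', s, hs⟩ := Omega.KoszulSplit.exists_extension S P' (f.map φ) l hl hfh (fun c hc k => by
    let F : Fin (f.map φ).length → S := fun i => algebraMap A S (f.map φ)[i]
    have hF : fS = List.ofFn F := by
      rw [show F = algebraMap A S ∘ (fun i => (f.map φ)[i]) from rfl, ← List.map_ofFn,
        show List.ofFn (fun i : Fin (f.map φ).length => (f.map φ)[i]) = f.map φ from List.ofFn_getElem,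
        List.map_map]
      rfl
    refine indep_aux F (K.map (algebraMap D S)) (hmax K hKP) ?_ (hF ▸ hfS) ?_ c ?_ k
    · rw [KReg44.span_range_eq_ofList, ← hF, ← Ideal.map_ofList]
      exact hmax _ hfP
    · rw [KReg44.span_range_eq_ofList, ← hF, ← Ideal.map_ofList, ← Ideal.map_mul, inf_comm,
        ← IsLocalization.map_inf (P'.comap φ).primeCompl S]
      exact Ideal.map_mono hK
    · rwa [KReg44.span_range_eq_ofList, ← hF, ← hspanS])
  obtain ⟨⟨a, t⟩, ha⟩ := IsLocalization.surj (Submonoid.powers g) g'
  have hau : Associated g' (algebraMap D A a) := ⟨(IsLocalization.map_units A t).unit, ha⟩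
  have haP : a ∉ P.asIdeal := fun h1 => hg' (by
    show g' ∈ P.asIdeal.map φ
    rw [← Ideal.mul_unit_mem_iff_mem _ (IsLocalization.map_units A t), ha]
    exact Ideal.mem_map_of_mem _ h1)
  let T := Localization.Away g'
  haveI : IsLocalization.Away (algebraMap D A a) T := IsLocalization.Away.of_associated hau
  haveI : IsLocalization.Away (g * a) T := IsLocalization.Away.mul' A T g a
  obtain ⟨hreg, hgen⟩ := hs T
  let QG := Localization.Away (π (g * a))
  haveI : IsLocalization ((Submonoid.powers (g * a)).map π) QG := by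
    rw [Submonoid.map_powers]; exact inferInstanceAs (IsLocalization (Submonoid.powers (π (g * a))) QG)
  let πT : T →+* QG := IsLocalization.map QG π (Submonoid.powers (g * a)).le_comap_map
  have hπT : Function.Surjective πT :=
    IsLocalization.map_surjective_of_surjective (M := Submonoid.powers (g * a)) (S := T) (Q := QG) (g := π) (h := hπ)
  have hcomp : (algebraMap A T).comp φ = algebraMap D T := (IsScalarTower.algebraMap_eq D A T).symm
  have hπTk : RingHom.ker πT = Ideal.ofList ((f.map φ).map (algebraMap A T)) := by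
    rw [show RingHom.ker πT = (RingHom.ker π).map (algebraMap D T) from
      IsLocalization.ker_map (Q := QG) (S := T) (g := π) rfl, hker, Ideal.map_ofList, List.map_map, ← hcomp]
    rfl
  rw [List.map_append] at hreg hgen
  have hfT : LCI.IsKoszulRegularSeq T ((f.map φ).map (algebraMap A T)) := by
    rw [List.map_map, show (algebraMap A T) ∘ φ = algebraMap D T from congrArg DFunLike.coe hcomp]
    exact KReg44.isKoszulRegularSeq_map _
      (RingHom.flat_algebraMap_iff.2 (IsLocalization.flat T (Submonoid.powers (g * a)))) hf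
  refine ⟨π (g * a), P.isPrime.mul_notMem hg haP, _,
    KReg44.isKoszulRegularSeq_of_append πT hfT hπT hπTk hreg, ?_⟩
  rw [← hspan, Ideal.map_map, hcomp] at hgen
  refine Eq.trans ?_ ((congrArg (Ideal.map πT) hgen.symm).trans ?_)
  · rw [Ideal.map_map, Ideal.map_map, IsLocalization.map_comp, Ideal.map_sup, ← Ideal.map_map _ _ (I := Ideal.ofList f),
      (Ideal.map_eq_bot_iff_le_ker π).2 hker.ge, Ideal.map_bot, sup_bot_eq]
  · rw [Ideal.ofList_append, Ideal.map_sup, ← hπTk, (Ideal.map_eq_bot_iff_le_ker _).2 le_rfl, sup_bot_eq,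
      Ideal.map_ofList]

/-- If `A → C` is syntomic and `R → C` is lci, then `R → A` is lci near the image of `Spec C`. -/
theorem lci_away_of_syntomic {R A C : Type u} [CommRing R] [CommRing A] [CommRing C] [Algebra R A]
    [Algebra A C] [Algebra R C] [IsScalarTower R A C] [Algebra.FiniteType R A] (hs : Synt.IsSyntomic A C)
    (hC : ∀ g : C, LCI.IsLCI R (Localization.Away g)) (q : Ideal C) [q.IsPrime] :
    ∃ b ∉ q.comap (algebraMap A C), LCI.IsLCI R (Localization.Away b) := by
  obtain ⟨m, φ, hφ⟩ := Algebra.FiniteType.iff_quotient_mvPolynomial''.1 (inferInstance : Algebra.FiniteType R A)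
  let P := MvPolynomial (Fin m) R
  let I : Ideal P := RingHom.ker φ.toRingHom
  let eA : P ⧸ I ≃+* A := RingHom.quotientKerEquivOfSurjective (f := φ.toRingHom) hφ
  letI : Algebra P C := ((algebraMap A C).comp φ.toRingHom).toAlgebra
  letI : Algebra (P ⧸ I) C := ((algebraMap A C).comp eA.toRingHom).toAlgebra
  haveI : IsScalarTower P (P ⧸ I) C := IsScalarTower.of_algebraMap_eq (R := P) (S := P ⧸ I) (A := C) fun _ => rfl
  haveI : IsScalarTower R P C := IsScalarTower.of_algebraMap_eq fun r => by
    show algebraMap R C r = algebraMap A C (φ (algebraMap R P r))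
    rw [AlgHom.commutes, ← IsScalarTower.algebraMap_apply]
  have hs' : Synt.IsSyntomic (P ⧸ I) C :=
    Synt44.syntomicHom_algebraMap.1 (Synt44.syntomicHom_respectsIso.2 (algebraMap A C) eA
      (Synt44.syntomicHom_algebraMap.2 hs))
  obtain ⟨g, hg, n, c, F, hrel, ⟨e⟩⟩ := Synt44.exists_lift_syntomic I C hs' q
  let D := MvPolynomial (Fin n) P
  let Q := Synt.RelGCIRing P n c F
  let π : D →ₐ[P] Q := Ideal.Quotient.mkₐ P (Ideal.span (Set.range F))
  have hπ : Function.Surjective π := Ideal.Quotient.mk_surjective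
  have hkπ : RingHom.ker π.toRingHom = Ideal.ofList (List.ofFn F) :=
    Ideal.mk_ker.trans (KReg44.span_range_eq_ofList F)
  haveI : Module.Flat P Q := RelGCI.flat hrel
  haveI : Algebra.FinitePresentation P Q :=
    Algebra.FinitePresentation.quotient (Submodule.fg_span (Set.finite_range F))
  let IQ := I.map (algebraMap P Q)
  let ρ : Q →ₐ[P] Localization.Away g := e.symm.toAlgHom.comp (Ideal.Quotient.mkₐ P IQ)
  have hρ : Function.Surjective ρ := e.symm.surjective.comp Ideal.Quotient.mk_surjective
  let σ : D →ₐ[R] Localization.Away g := (ρ.comp π).restrictScalars R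
  have hσ : Function.Surjective σ := hρ.comp hπ
  let K : Ideal D := I.map (algebraMap P D)
  have hkρ : RingHom.ker ρ.toRingHom = IQ := by
    show RingHom.ker (e.symm.toRingEquiv.toRingHom.comp (Ideal.Quotient.mk IQ)) = IQ
    rw [RingHom.ker_comp_of_injective _ e.symm.injective, Ideal.mk_ker]
  have hKπ : K.map π.toRingHom = IQ := by
    rw [Ideal.map_map]
    congr 1
  have hkσ : RingHom.ker σ.toRingHom = K ⊔ Ideal.ofList (List.ofFn F) := by
    show RingHom.ker (ρ.toRingHom.comp π.toRingHom) = _
    rw [← RingHom.comap_ker, hkρ, ← hKπ, Ideal.comap_map_of_surjective' π.toRingHom hπ, hkπ]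
  -- the composite presentation is Koszul regular
  have hJ : LCI.IsKoszulRegularIdeal (K ⊔ Ideal.ofList (List.ofFn F)) := by
    rw [← hkσ]
    obtain ⟨-, N, α, hα, hker⟩ := hC g
    let ep : MvPolynomial (Fin (n + m)) R ≃ₐ[R] D :=
      (MvPolynomial.renameEquiv R finSumFinEquiv.symm).trans (MvPolynomial.sumAlgEquiv R (Fin n) (Fin m))
    have h := KReg44.isKoszulRegularIdeal_ker_of_presentation α hα (σ.comp ep.toAlgHom)
      (hσ.comp ep.surjective) hker
    refine KReg44.isKoszulRegularIdeal_of_equiv ep.symm.toRingEquiv ?_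
    convert h using 1
    ext z
    rw [Ideal.mem_map_iff_of_surjective ep.symm.toRingEquiv.toRingHom ep.symm.surjective]
    constructor
    · rintro ⟨x, hx, rfl⟩
      show σ (ep (ep.symm x)) = 0
      rw [ep.apply_symm_apply]
      exact hx
    · intro hz
      exact ⟨ep z, hz, ep.symm_apply_apply z⟩
  have hinf : Ideal.ofList (List.ofFn F) ⊓ K ≤ K * Ideal.ofList (List.ofFn F) := by
    rw [← KReg44.span_range_eq_ofList]
    haveI : Module.Flat P (D ⧸ Ideal.span (Set.range F)) := ‹Module.Flat P Q›
    exact BlowUpSmooth.Core.inf_map_le_map_mul (Ideal.span (Set.range F)) I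
  have hIQ : LCI.IsKoszulRegularIdeal IQ := by
    rw [← hKπ]
    exact isKoszulRegularIdeal_map_quotient π.toRingHom hπ _ hkπ (RelGCI.isKoszulRegularSeq hrel) K hinf hJ
  -- descend along the flat map to an open neighbourhood of the image point
  let p : PrimeSpectrum P := ⟨(q.comap (algebraMap A C)).comap φ.toRingHom, inferInstance⟩
  have hIp : I ≤ p.asIdeal := fun x (hx : φ x = 0) => by
    show algebraMap A C (φ x) ∈ q
    rw [hx, map_zero]
    exact zero_mem _
  have hdisj : Disjoint (Submonoid.powers g : Set C) q := (Ideal.disjoint_powers_iff_notMem_of_isPrime g).2 hg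
  let qg := q.map (algebraMap C (Localization.Away g))
  haveI : qg.IsPrime := IsLocalization.isPrime_of_isPrime_disjoint _ _ _ inferInstance hdisj
  have hqg : qg.comap (algebraMap C (Localization.Away g)) = q :=
    IsLocalization.under_map_of_isPrime_disjoint _ _ inferInstance hdisj
  have hp_mem : p ∈ Set.range (PrimeSpectrum.comap (algebraMap P Q)) := by
    refine ⟨⟨qg.comap ρ.toRingHom, inferInstance⟩, PrimeSpectrum.ext ?_⟩
    show (qg.comap ρ.toRingHom).comap (algebraMap P Q) = _
    rw [Ideal.comap_comap, show ρ.toRingHom.comp (algebraMap P Q) =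
      (algebraMap C (Localization.Away g)).comp ((algebraMap A C).comp φ.toRingHom) from ρ.comp_algebraMap,
      ← Ideal.comap_comap, hqg, ← Ideal.comap_comap]
  obtain ⟨_, ⟨G, rfl⟩, hpG, hGle⟩ := PrimeSpectrum.isTopologicalBasis_basic_opens.exists_subset_of_mem_open
    hp_mem (PrimeSpectrum.isOpenMap_comap_of_hasGoingDown_of_finitePresentation (R := P) (S := Q)).isOpen_range
  let PG := Localization.Away G
  let QG := Localization.Away (algebraMap P Q G)
  letI algG : Algebra PG QG := (Localization.awayMap (algebraMap P Q) G).toAlgebra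
  haveI : IsScalarTower P PG QG := IsScalarTower.of_algebraMap_eq fun x => by
    show algebraMap P QG x = Localization.awayMap (algebraMap P Q) G (algebraMap P PG x)
    rw [IsScalarTower.algebraMap_apply P Q QG]
    exact (IsLocalization.map_eq _ x).symm
  haveI : Module.Flat Q QG := IsLocalization.flat QG (Submonoid.powers (algebraMap P Q G))
  haveI : Module.Flat P QG := Module.Flat.trans P Q QG
  haveI : Module.Flat PG QG := (Module.flat_iff_of_isLocalization PG (Submonoid.powers G) QG).2 inferInstance
  haveI : Module.FaithfullyFlat PG QG := by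
    refine Module.FaithfullyFlat.of_comap_surjective fun p' => ?_
    have h0 : PrimeSpectrum.comap (algebraMap P PG) p' ∈ (PrimeSpectrum.basicOpen G : Set (PrimeSpectrum P)) := by
      rw [← PrimeSpectrum.localization_away_comap_range PG G]; exact ⟨p', rfl⟩
    obtain ⟨Q₀, hQ₀⟩ := hGle h0
    have hGQ : Q₀ ∈ (PrimeSpectrum.basicOpen (algebraMap P Q G) : Set (PrimeSpectrum Q)) := fun hmem => by
      rw [← hQ₀] at h0
      exact h0 hmem
    rw [← PrimeSpectrum.localization_away_comap_range QG (algebraMap P Q G)] at hGQ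
    obtain ⟨Q₁, rfl⟩ := hGQ
    refine ⟨Q₁, (PrimeSpectrum.localization_comap_injective PG (Submonoid.powers G)) ?_⟩
    rw [← hQ₀, ← PrimeSpectrum.comap_comp_apply, ← PrimeSpectrum.comap_comp_apply,
      ← IsScalarTower.algebraMap_eq, ← IsScalarTower.algebraMap_eq]
  have hIPG : LCI.IsKoszulRegularIdeal (I.map (algebraMap P PG)) := by
    refine KReg44.isKoszulRegularIdeal_of_map (B := QG) ?_
    rw [Ideal.map_map, ← IsScalarTower.algebraMap_eq, IsScalarTower.algebraMap_eq P Q QG, ← Ideal.map_map]
    exact KReg44.isKoszulRegularIdeal_map _ (RingHom.flat_algebraMap_iff.2 inferInstance) hIQ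
  obtain ⟨G', hG', l, hl, hspan⟩ := KReg44.exists_away_of_away p hIp hpG hIPG
  exact ⟨φ G', fun h => hG' h, isLCI_away_of_seq φ hφ G' hl hspan⟩

end Groth.Agent.CInt77
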