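import Groth.Agent.CInt77.SyntomicPrecomp
import Groth.Agent.FlatMor.LCIChart
import Groth.Agent.RegImm44.KoszulMor
import Groth.Agent.Synt44.Mor
import Groth.Agent.Synt44.FlatLCI
import Groth.Agent.CIntCI.Syntomic
import Groth.Agent.GrpdLib.FppfSourceDescentScheme

/-!
# Local complete intersection morphisms and syntomic covers of the source
-/

set_option autoImplicit false
set_option linter.style.haveILetI false

universe u

open AlgebraicGeometry CategoryTheory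

namespace Groth.Agent.CInt77

variable {X' X Y : Scheme.{u}}

theorem isKoszulAt_of_syntomicMor {g : X' ⟶ X} (hg : Synt.IsSyntomicMor g) (x : X') : Synt.IsKoszulAt g x := by
  have h := (Synt44.isSyntomicMor_iff_appLE g).1 hg
  refine FlatMor.LCIChart.forall_isKoszulAt_of_charts g (fun U V hU hV e => ?_) x
  letI := (g.appLE V U e).hom.toAlgebra
  exact Synt44.isLCI_of_isSyntomic (h ⟨V, hV⟩ ⟨U, hU⟩ e)

/-- Composing with a surjective syntomic morphism does not change being lci. -/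
theorem lci_iff_of_syntomic_precomp (g : X' ⟶ X) (hg : Synt.IsSyntomicMor g) [Surjective g] (f : X ⟶ Y) :
    (∀ x' : X', Synt.IsKoszulAt (g ≫ f) x') ↔ (∀ x : X, Synt.IsKoszulAt f x) := by
  refine ⟨fun h x => ?_, fun h x' => RegImm44.isKoszulAt_comp g f (isKoszulAt_of_syntomicMor hg) h x'⟩
  obtain ⟨hgfl, hgfp⟩ := CIntCI.flat_lfp_of_isSyntomicMor hg
  haveI := RegImm44.locallyOfFiniteType_of_isKoszulAt h
  haveI : LocallyOfFiniteType f := GrpdLib.FppfSourceDescent.locallyOfFiniteType_of_comp_fppf g f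
  obtain ⟨x', rfl⟩ := g.surjective x
  obtain ⟨V, hV, hxV, -⟩ := exists_isAffineOpen_mem_and_subset (show f (g x') ∈ (⊤ : Y.Opens) from trivial)
  obtain ⟨U, hU, hxU, eU⟩ := exists_isAffineOpen_mem_and_subset (show g x' ∈ f ⁻¹ᵁ V from hxV)
  obtain ⟨W, hW, hxW, eW⟩ := exists_isAffineOpen_mem_and_subset (show x' ∈ g ⁻¹ᵁ U from hxU)
  have eU' : U ≤ f ⁻¹ᵁ V := eU
  have eW' : W ≤ g ⁻¹ᵁ U := eW
  have eWV : W ≤ (g ≫ f) ⁻¹ᵁ V := fun y hy => eU' (eW' hy)
  letI algRA : Algebra Γ(Y, V) Γ(X, U) := (f.appLE V U eU').hom.toAlgebra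
  letI algAC : Algebra Γ(X, U) Γ(X', W) := (g.appLE U W eW').hom.toAlgebra
  letI algRC : Algebra Γ(Y, V) Γ(X', W) := ((g ≫ f).appLE V W eWV).hom.toAlgebra
  haveI : IsScalarTower Γ(Y, V) Γ(X, U) Γ(X', W) := IsScalarTower.of_algebraMap_eq' (by
    show ((g ≫ f).appLE V W eWV).hom = (g.appLE U W eW').hom.comp (f.appLE V U eU').hom
    rw [← CommRingCat.hom_comp, Scheme.Hom.appLE_comp_appLE])
  haveI : Algebra.FiniteType Γ(Y, V) Γ(X, U) := f.finiteType_appLE hV hU eU'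
  have hs : Synt.IsSyntomic Γ(X, U) Γ(X', W) := (Synt44.isSyntomicMor_iff_appLE g).1 hg ⟨U, hU⟩ ⟨W, hW⟩ eW'
  have hC : ∀ c : Γ(X', W), LCI.IsLCI Γ(Y, V) (Localization.Away c) := fun c => by
    have ele : X'.basicOpen c ≤ (g ≫ f) ⁻¹ᵁ V := (X'.basicOpen_le c).trans eWV
    letI : Algebra Γ(Y, V) Γ(X', X'.basicOpen c) := ((g ≫ f).appLE V (X'.basicOpen c) ele).hom.toAlgebra
    haveI : IsScalarTower Γ(Y, V) Γ(X', W) Γ(X', X'.basicOpen c) := IsScalarTower.of_algebraMap_eq' (by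
      show ((g ≫ f).appLE V (X'.basicOpen c) ele).hom = _
      rw [← Scheme.Hom.appLE_map (g ≫ f) eWV (homOfLE (X'.basicOpen_le c)).op]
      rfl)
    haveI := hW.isLocalization_basicOpen c
    let e : Γ(X', X'.basicOpen c) ≃ₐ[Γ(Y, V)] Localization.Away c :=
      (IsLocalization.algEquiv (Submonoid.powers c) Γ(X', X'.basicOpen c) (Localization.Away c)).restrictScalars Γ(Y, V)
    exact Synt44.isLCI_of_equiv e (FlatMor.LCIChart.isLCI_of_isKoszulAt (g ≫ f) h _ V (hW.basicOpen c) hV ele)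
  obtain ⟨b, hb, hlci⟩ := lci_away_of_syntomic hs hC (hW.primeIdealOf ⟨x', hxW⟩).asIdeal
  have hbx : g x' ∈ X.basicOpen b := by
    refine (RegImm44.mem_basicOpen_iff hU ⟨g x', hxU⟩ b).2 fun hmem => hb ?_
    have h1 := congrArg PrimeSpectrum.asIdeal (IsAffineOpen.comap_primeIdealOf_appLE U hU W hW eW' hxW)
    exact h1.ge hmem
  have ele : X.basicOpen b ≤ f ⁻¹ᵁ V := (X.basicOpen_le b).trans eU'
  letI : Algebra Γ(Y, V) Γ(X, X.basicOpen b) := (f.appLE V (X.basicOpen b) ele).hom.toAlgebra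
  haveI : IsScalarTower Γ(Y, V) Γ(X, U) Γ(X, X.basicOpen b) := IsScalarTower.of_algebraMap_eq' (by
    show (f.appLE V (X.basicOpen b) ele).hom = _
    rw [← Scheme.Hom.appLE_map f eU' (homOfLE (X.basicOpen_le b)).op]
    rfl)
  haveI := hU.isLocalization_basicOpen b
  let e : Localization.Away b ≃ₐ[Γ(Y, V)] Γ(X, X.basicOpen b) :=
    (IsLocalization.algEquiv (Submonoid.powers b) (Localization.Away b) Γ(X, X.basicOpen b)).restrictScalars Γ(Y, V)
  exact FlatMor.LCIChart.isKoszulAt_of_isLCI f (hU.basicOpen b) hV ele (Synt44.isLCI_of_equiv e hlci) (g x') hbx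

end Groth.Agent.CInt77
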