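import Groth.Agent.CInt77.WEtaleTor
import Groth.Agent.DRing.TensorAmp
import Groth.Agent.DRing.Descent
import Groth.Agent.DRing.TorBalance
import Groth.Agent.DRing.RelPC

/-!
# Tor amplitude over a weakly étale algebra
-/

set_option autoImplicit false
set_option linter.style.haveILetI false

universe u

open CategoryTheory CategoryTheory.Limits DerivedCategory MonoidalCategory

attribute [local instance] HasDerivedCategory.standard

namespace Groth.Agent.CInt77.WEtaleAmp

open Groth.Agent.DRing Groth.Agent.DRing.Tensor Groth.Agent.DRing.DBasic Groth.Agent.DRing.KFlat Groth.Agent.DRing.TorAmp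

variable {A B : Type u} [CommRing A] [CommRing B] (φ : A →+* B)

theorem exactAt_extCx (hφ : φ.Flat) {Z : DRing.Cx A} {i : ℤ} (h : Z.ExactAt i) :
    ((KFlat.BaseChange.extCx φ).obj Z).ExactAt i := by
  have := ModuleCat.preservesFiniteLimits_extendScalars_of_flat hφ
  have := (ModuleCat.extendRestrictScalarsAdj.{u} φ).leftAdjoint_preservesColimits
  rw [HomologicalComplex.exactAt_iff] at h ⊢
  exact h.map (ModuleCat.extendScalars.{u, u, u} φ)

/-- Restriction along a flat map preserves K-flatness. -/
theorem isKFlat_restrict (hφ : φ.Flat) {P : DRing.Cx B} (hP : KFlat.IsKFlat P) :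
    KFlat.IsKFlat ((DRing.restrictCx φ).obj P) := by
  intro L hL i
  have h1 : (((KFlat.BaseChange.extCx φ).obj L) ⊗ P).ExactAt i :=
    (HomologicalComplex.exactAt_iff_isZero_homology _ _).2 (hP _ (fun j =>
      (HomologicalComplex.exactAt_iff_isZero_homology _ _).1
        (exactAt_extCx φ hφ ((HomologicalComplex.exactAt_iff_isZero_homology _ _).2 (hL j)))) i)
  rw [exactAt_iff_of_quasiIso (braid ((KFlat.BaseChange.extCx φ).obj L) P).hom i,
    ← TensorAmp.exactAt_restrictCx_iff φ] at h1
  replace h1 := (exactAt_iff_of_quasiIso (KFlat.BaseChange.projCxIso φ P L).hom i).1 h1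
  rw [← HomologicalComplex.exactAt_iff_isZero_homology]
  exact (exactAt_iff_of_quasiIso (braid L ((DRing.restrictCx φ).obj P)).hom i).2 h1

theorem exactAt_tensor_of_restrict
    (hp : letI := φ.toAlgebra; WEtaleTor.IsPureDiag A B) (P : DRing.Cx B) (M : ModuleCat.{u} B) (i : ℤ)
    (h : (DRing.tensorCx ((DRing.restrictCx φ).obj P) ((ModuleCat.restrictScalars φ).obj M)).ExactAt i) :
    (DRing.tensorCx P M).ExactAt i := by
  letI := φ.toAlgebra
  letI : ∀ j, Module A (P.X j) := fun j => Module.compHom (P.X j) φ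
  letI : Module A M := Module.compHom M φ
  haveI : ∀ j, IsScalarTower A B (P.X j) := fun j => IsScalarTower.of_algebraMap_smul fun _ _ => rfl
  haveI : IsScalarTower A B M := IsScalarTower.of_algebraMap_smul fun _ _ => rfl
  rw [HomologicalComplex.exactAt_iff' _ (i - 1) i (i + 1) (by simp) (by simp),
    ShortComplex.ShortExact.moduleCat_exact_iff_function_exact] at h ⊢
  exact @WEtaleTor.exact_rTensor A B _ _ _ (P.X i) M _ _ _ _ _ _ _ _ (P.X (i - 1)) (P.X (i + 1)) _ _ _ _ _ _ _ _ hp (P.d (i - 1) i).hom (P.d i (i + 1)).hom h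

/-- Tor amplitude over a weakly étale algebra can be checked over the base. -/
theorem torAmp_iff_restrict (hφ : φ.Flat) (hp : letI := φ.toAlgebra; WEtaleTor.IsPureDiag A B)
    (a b : ℤ) (K : Dual.D B) :
    DRing.HasTorAmplitudeIn A a b ((DRing.restrictD φ).obj K) ↔ DRing.HasTorAmplitudeIn B a b K := by
  constructor
  · intro h
    obtain ⟨P, hP, -, ⟨e⟩⟩ := exists_kproj_iso K
    rw [hasTorAmp_iff (isKFlat_restrict φ hφ (isKFlat_of_isKProjective P)) (TensorAmp.restrictDIso φ e)] at h
    rw [hasTorAmp_iff (isKFlat_of_isKProjective P) e]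
    exact fun M i hi => exactAt_tensor_of_restrict φ hp P M i (h _ i hi)
  · intro h
    algebraize [φ]
    have hB : DRing.HasTorAmplitudeIn A (-((0 : ℕ) : ℤ)) 0 (Dual.inD A B) :=
      (TorBalance.hasTorDimLE_iff 0 B).1 ((TorBalance.hasTorDimLE_zero_iff B).2 hφ)
    have h2 := TensorAmp.torAmp_restrict_algebra h hB
    simp only [CharP.cast_eq_zero, neg_zero, add_zero] at h2
    exact h2

end Groth.Agent.CInt77.WEtaleAmp
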