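import Mathlib.RingTheory.Etale.Weakly
import Mathlib.RingTheory.Flat.EquationalCriterion
import Mathlib.LinearAlgebra.TensorProduct.Quotient

/-!
# Exactness of tensor products over a weakly étale algebra

If the kernel of `B ⊗[A] B → B` is pure, tensor products over `B` of a sequence of `B`-modules are exact as
soon as the tensor products over `A` are.
-/

set_option autoImplicit false

universe u

open TensorProduct

namespace Groth.Agent.CInt77.WEtaleTor

variable (A B : Type u) [CommRing A] [CommRing B] [Algebra A B]

/-- The standard elements of the diagonal ideal. -/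
noncomputable def dd (b : B) : B ⊗[A] B := b ⊗ₜ 1 - 1 ⊗ₜ b

/-- The diagonal ideal is pure. -/
def IsPureDiag : Prop :=
  ∀ s : Finset B, ∃ e : B ⊗[A] B, Algebra.TensorProduct.lmul' A (S := B) e = 0 ∧ ∀ b ∈ s, e * dd A B b = dd A B b

theorem lmul'_dd (b : B) : Algebra.TensorProduct.lmul' A (S := B) (dd A B b) = 0 := by simp [dd]

theorem isPureDiag_of_flat (h : (Algebra.TensorProduct.lmul' A (S := B)).Flat) : IsPureDiag A B := by
  classical
  let μ := Algebra.TensorProduct.lmul' A (S := B)
  letI : Algebra (B ⊗[A] B) B := μ.toRingHom.toAlgebra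
  haveI : Module.Flat (B ⊗[A] B) B := h
  have key : ∀ j, μ j = 0 → ∃ e, μ e = 0 ∧ e * j = j := fun j hj => by
    have h0 : ∑ _i : Fin 1, j • (1 : B) = 0 := by
      simp only [Finset.univ_unique, Finset.sum_singleton]
      show μ j * 1 = 0
      rw [hj, zero_mul]
    obtain ⟨k, a, y, hy, ha⟩ := Module.Flat.isTrivialRelation_of_sum_smul_eq_zero
      (f := fun _ : Fin 1 => j) (x := fun _ : Fin 1 => (1 : B)) h0
    refine ⟨1 - ∑ l, a 0 l * (y l ⊗ₜ 1), ?_, ?_⟩
    · have h1 : (1 : B) = ∑ l, μ (a 0 l) * y l := hy 0
      rw [map_sub, map_one, map_sum, sub_eq_zero]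
      refine h1.trans (Finset.sum_congr rfl fun l _ => ?_)
      rw [map_mul]
      simp [μ]
    · have h2 : ∀ l, a 0 l * j = 0 := fun l => by
        have := ha l
        simp only [Finset.univ_unique, Finset.sum_singleton] at this
        rw [mul_comm]; simpa using this
      rw [sub_mul, one_mul, Finset.sum_mul, sub_eq_self]
      exact Finset.sum_eq_zero fun l _ => by rw [mul_right_comm, h2, zero_mul]
  intro s
  induction s using Finset.induction_on with
  | empty => exact ⟨0, map_zero _, by simp⟩
  | insert b s _ ih =>
    obtain ⟨e, he, hes⟩ := ih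
    obtain ⟨e', he', heb⟩ := key (dd A B b) (lmul'_dd A B b)
    refine ⟨e + e' - e * e', ?_, fun c hc => ?_⟩
    · change μ (e + e' - e * e') = 0
      rw [map_sub, map_add, map_mul, show μ e = 0 from he, he']
      simp
    rcases Finset.mem_insert.1 hc with rfl | hc
    · rw [sub_mul, add_mul, mul_assoc, heb]; ring
    · rw [sub_mul, add_mul, mul_comm e e', mul_assoc, hes c hc]; ring

/-- A quotient of the base keeps the diagonal pure. -/
theorem IsPureDiag.of_tower (A' : Type u) [CommRing A'] [Algebra A A'] [Algebra A' B] [IsScalarTower A A' B]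
    (h : IsPureDiag A B) : IsPureDiag A' B := fun s => by
  obtain ⟨e, he, hes⟩ := h s
  let φ : B ⊗[A] B →ₐ[A] B ⊗[A'] B := Algebra.TensorProduct.lift
    ((Algebra.TensorProduct.includeLeft (R := A') (S := A') (A := B) (B := B)).restrictScalars A)
    ((Algebra.TensorProduct.includeRight (R := A') (A := B) (B := B)).restrictScalars A)
    (fun _ _ => Commute.all _ _)
  have hμ : ∀ x, Algebra.TensorProduct.lmul' A' (S := B) (φ x) = Algebra.TensorProduct.lmul' A (S := B) x := fun x => by
    induction x using TensorProduct.induction_on with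
    | zero => simp
    | tmul a b => simp [φ]
    | add a b ha hb => simp [map_add, ha, hb]
  have hd : ∀ b, φ (dd A B b) = dd A' B b := fun b => by simp [φ, dd]
  exact ⟨φ e, (hμ e).trans he, fun b hb => by rw [← hd, ← map_mul, hes b hb]⟩

variable {B}
variable (Y M : Type u) [AddCommGroup Y] [Module A Y] [Module B Y] [IsScalarTower A B Y]
  [AddCommGroup M] [Module A M] [Module B M] [IsScalarTower A B M]

/-- `B ⊗ B` acts on `Y ⊗ M`. -/
noncomputable def act : B ⊗[A] B →ₗ[A] Module.End A (Y ⊗[A] M) :=
  TensorProduct.lift
    (LinearMap.mk₂ A (fun u v => TensorProduct.map (Algebra.lsmul A A Y u) (Algebra.lsmul A A M v))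
      (fun u u' v => by rw [map_add, TensorProduct.map_add_left])
      (fun c u v => by rw [map_smul, TensorProduct.map_smul_left])
      (fun u v v' => by rw [map_add, TensorProduct.map_add_right])
      (fun c u v => by rw [map_smul, TensorProduct.map_smul_right]))

@[simp] theorem act_tmul (u v : B) (y : Y) (m : M) : act A Y M (u ⊗ₜ v) (y ⊗ₜ m) = (u • y) ⊗ₜ (v • m) := rfl

theorem act_one (w : Y ⊗[A] M) : act A Y M (1 : B ⊗[A] B) w = w := by
  induction w using TensorProduct.induction_on with
  | zero => simp
  | tmul y m => simp [Algebra.TensorProduct.one_def]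
  | add a b ha hb => simp [ha, hb]

theorem act_mul (r r' : B ⊗[A] B) (w : Y ⊗[A] M) : act A Y M (r * r') w = act A Y M r (act A Y M r' w) := by
  induction r using TensorProduct.induction_on with
  | zero => simp
  | add a b ha hb => simp [add_mul, ha, hb]
  | tmul u v =>
    induction r' using TensorProduct.induction_on with
    | zero => simp
    | add a b ha hb => simp [mul_add, ha, hb]
    | tmul u' v' =>
      induction w using TensorProduct.induction_on with
      | zero => simp
      | tmul y m => simp [mul_smul]
      | add a b ha hb => simp only [map_add] at *; rw [ha, hb]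

theorem smul_eq_act (c : B) (w : Y ⊗[A] M) : c • w = act A Y M (c ⊗ₜ (1 : B)) w := by
  induction w using TensorProduct.induction_on with
  | zero => simp
  | tmul y m => simp [TensorProduct.smul_tmul']
  | add a b ha hb => rw [smul_add, map_add, ha, hb]

variable {Y} in
/-- The projection to the tensor product over `B`. -/
noncomputable abbrev proj : Y ⊗[A] M →ₗ[B] Y ⊗[B] M := TensorProduct.mapOfCompatibleSMul B A B Y M

theorem proj_act (r : B ⊗[A] B) (w : Y ⊗[A] M) :
    proj A (B := B) M (act A Y M r w) = Algebra.TensorProduct.lmul' A (S := B) r • proj A (B := B) M w := by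
  induction w using TensorProduct.induction_on with
  | zero => simp
  | add a b ha hb => simp only [map_add, smul_add, ha, hb]
  | tmul y m =>
    induction r using TensorProduct.induction_on with
    | zero => simp
    | add a b ha hb => simp only [map_add, LinearMap.add_apply, add_smul, ha, hb]
    | tmul u v =>
      simp only [act_tmul, TensorProduct.mapOfCompatibleSMul_tmul, Algebra.TensorProduct.lmul'_apply_tmul,
        TensorProduct.tmul_smul, TensorProduct.smul_tmul']
      rw [smul_smul, mul_comm]

variable {Y M}

theorem exists_fix (x : Y ⊗[A] M) (hx : proj A (B := B) M x = 0) :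
    ∃ s : Finset B, ∀ e : B ⊗[A] B, (∀ b ∈ s, e * dd A B b = dd A B b) → act A Y M e x = x := by
  classical
  have hx' : x ∈ (TensorProduct.mapOfCompatibleSMul B A B Y M).ker := hx
  rw [TensorProduct.AlgebraTensorModule.ker_mapOfCompatibleSMul] at hx'
  clear hx
  induction hx' using Submodule.span_induction with
  | mem z hz =>
    obtain ⟨b, y, m, rfl⟩ := hz
    refine ⟨{b}, fun e he => ?_⟩
    have h1 : act A Y M (dd A B b) (y ⊗ₜ m) = (b • y) ⊗ₜ[A] m - y ⊗ₜ[A] (b • m) := by simp [dd]
    rw [← h1, ← act_mul, he b (Finset.mem_singleton_self b)]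
  | zero => exact ⟨∅, fun e _ => map_zero _⟩
  | add a b _ _ ha hb =>
    obtain ⟨s, hs⟩ := ha 
    obtain ⟨t, ht⟩ := hb 
    exact ⟨s ∪ t, fun e he => by
      rw [map_add, hs e fun c hc => he c (Finset.mem_union_left _ hc),
        ht e fun c hc => he c (Finset.mem_union_right _ hc)]⟩
  | smul c z _ hz =>
    obtain ⟨s, hs⟩ := hz 
    refine ⟨s, fun e he => ?_⟩
    rw [smul_eq_act, ← act_mul, mul_comm, act_mul, hs e he]

variable {X Z : Type u} [AddCommGroup X] [Module A X] [Module B X] [IsScalarTower A B X]
  [AddCommGroup Z] [Module A Z] [Module B Z] [IsScalarTower A B Z]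

theorem act_natural (f : Y →ₗ[B] Z) (r : B ⊗[A] B) (w : Y ⊗[A] M) :
    (f.restrictScalars A).rTensor M (act A Y M r w) = act A Z M r ((f.restrictScalars A).rTensor M w) := by
  induction w using TensorProduct.induction_on with
  | zero => simp
  | add a b ha hb => simp only [map_add, ha, hb]
  | tmul y m =>
    induction r using TensorProduct.induction_on with
    | zero => simp
    | add a b ha hb => simp only [map_add, LinearMap.add_apply, ha, hb]
    | tmul u v => simp

theorem proj_natural (f : Y →ₗ[B] Z) (w : Y ⊗[A] M) :
    proj A (B := B) M ((f.restrictScalars A).rTensor M w) = f.rTensor M (proj A (B := B) M w) := by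
  induction w using TensorProduct.induction_on with
  | zero => simp
  | add a b ha hb => simp only [map_add, ha, hb]
  | tmul y m => simp

/-- Exactness passes from the tensor products over `A` to those over `B`. -/
theorem exact_rTensor (hp : IsPureDiag A B) (f : X →ₗ[B] Y) (g : Y →ₗ[B] Z)
    (h : Function.Exact ((f.restrictScalars A).rTensor M) ((g.restrictScalars A).rTensor M)) :
    Function.Exact (f.rTensor M) (g.rTensor M) := by
  intro y
  constructor
  · intro hy
    obtain ⟨y', rfl⟩ := TensorProduct.mapOfCompatibleSMul_surjective B A B Y M y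
    have h0 : proj A (B := B) M ((g.restrictScalars A).rTensor M y') = 0 := by rw [proj_natural]; exact hy
    obtain ⟨s, hs⟩ := exists_fix A _ h0
    obtain ⟨e, he, hes⟩ := hp s
    obtain ⟨x, hx⟩ := (h (y' - act A Y M e y')).1 (by rw [map_sub, act_natural, hs e hes, sub_self])
    refine ⟨proj A (B := B) M x, ?_⟩
    rw [← proj_natural, hx, map_sub, proj_act, he, zero_smul, sub_zero]
  · rintro ⟨x, rfl⟩
    obtain ⟨x', rfl⟩ := TensorProduct.mapOfCompatibleSMul_surjective B A B X M x
    rw [← proj_natural, ← proj_natural, h.apply_apply_eq_zero, map_zero]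

end Groth.Agent.CInt77.WEtaleTor
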